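import Cfsg.Statements.S5957
import Cfsg.Agent.H98.ElusiveBlocks

set_option autoImplicit false
open scoped MatrixGroups
open Cfsg

namespace Cfsg.Agent.S5957

/-- Involutions of PSL_n(q) and imprimitive subgroups. Here `T = PSL_n(F)` for a field `F` with `q = p^f` elements (`n ≥ 2`, `(n, q) ≠ (2, 2), (2, 3)`), `n = a·t` with `t ≥ 2`, and Ω is the set of direct-sum decompositions of `F^n` into `t` subspaces of dimension `a` (unordered; their number is the number of ordered ones divided by `t!`), whose stabilizers are the imprimitive subgroups of type GL_a(q) ≀ S_t (maximal except in some small cases; maximality is not assumed); an element of `T` of prime order `r` (a matrix `x` of determinant 1 with `x^r` scalar, `x` not scalar) fixes a point of Ω when it permutes the summands of some such decomposition. If the number of such decompositions is even, then every involution of `T` stabilizes one of them (the action is 2-elusive). -/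
theorem result {F : Type*} [Field F] [Fintype F] {p : ℕ} [Fact p.Prime] [CharP F p] {q : ℕ} (hq : Fintype.card F = q)
    (n a t : ℕ) (hn : 2 ≤ n) (hT : (n, q) ≠ (2, 2) ∧ (n, q) ≠ (2, 3)) (hat : n = a * t) (ha : 1 ≤ a) (ht : 2 ≤ t)
    (hΩ : 2 ∣ Nat.card {D : Fin t → Submodule F (Fin n → F) // Cfsg.Geo.IsMDecomposition a D} / Nat.factorial t)
    (x : Matrix.SpecialLinearGroup (Fin n) F)
    (hx1 : ∃ z : F, ((x ^ 2 : Matrix.SpecialLinearGroup (Fin n) F) : Matrix (Fin n) (Fin n) F) = z • (1 : Matrix (Fin n) (Fin n) F))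
    (hx2 : ∀ z : F, (x : Matrix (Fin n) (Fin n) F) ≠ z • (1 : Matrix (Fin n) (Fin n) F)) :
    ∃ D : Fin t → Submodule F (Fin n → F), Cfsg.Geo.IsMDecomposition a D ∧
        ∃ σ : Equiv.Perm (Fin t), ∀ j, (D j).map (Matrix.toLin' (x : Matrix (Fin n) (Fin n) F)) = D (σ j) := by
  classical
  obtain ⟨z, hz⟩ := hx1
  have hzne : z ≠ 0 := by
    rintro rfl
    have hdet : ((x ^ 2 : Matrix.SpecialLinearGroup (Fin n) F) : Matrix (Fin n) (Fin n) F).det = 1 :=
      Matrix.SpecialLinearGroup.det_coe _
    have hne : Nonempty (Fin n) := ⟨⟨0, by omega⟩⟩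
    rw [hz, zero_smul, Matrix.det_zero] at hdet
    exact zero_ne_one hdet
  obtain ⟨T, hTdef⟩ : ∃ T, T = Matrix.toLin' (x : Matrix (Fin n) (Fin n) F) := ⟨_, rfl⟩
  have hT : ∀ v, T (T v) = z • v := by
    intro v
    rw [hTdef, ← Matrix.toLin'_mul_apply, ← Matrix.SpecialLinearGroup.coe_mul, ← sq, hz, map_smul,
      Matrix.toLin'_one, LinearMap.smul_apply, LinearMap.id_apply]
  obtain ⟨N, π, L, hπ, hind, htop, hone, hmap⟩ := H98.Elusive.exists_monomial_frame T z hzne hT
  have hN : Fintype.card (Fin N) = a * t := by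
    have h := H98.Elusive.finrank_biSup L hind 1 hone Finset.univ
    rw [show (⨆ i ∈ (Finset.univ : Finset (Fin N)), L i) = iSup L by simp, Finset.card_univ] at h
    rw [htop, finrank_top, Module.finrank_fin_fun, mul_one] at h
    omega
  obtain ⟨B, σ, hfin, hind', htop', hperm, -⟩ :=
    H98.Elusive.exists_decomposition π hπ L hind htop T hmap 1 hone a t (by omega) hN
  refine ⟨fun j => ⨆ i ∈ B j, L i, ⟨ht, by omega, fun j => ?_, hind', htop'⟩, σ, fun j => ?_⟩
  · rw [hfin j, mul_one]
  · rw [← hTdef]; exact hperm j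
end Cfsg.Agent.S5957
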