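import Cfsg.Statements.S5958
import Cfsg.Agent.H46.ElusiveImprim

set_option autoImplicit false
open scoped MatrixGroups
open Cfsg

namespace Cfsg.Agent.S5958

/-- Elements of odd prime order of PSL_n(q) and imprimitive subgroups. Here `T = PSL_n(F)` for a field `F` with `q = p^f` elements (`n ≥ 2`, `(n, q) ≠ (2, 2), (2, 3)`), `n = a·t` with `t ≥ 2`, and Ω is the set of direct-sum decompositions of `F^n` into `t` subspaces of dimension `a` (unordered; their number is the number of ordered ones divided by `t!`), whose stabilizers are the imprimitive subgroups of type GL_a(q) ≀ S_t (maximal except in some small cases; maximality is not assumed); an element of `T` of prime order `r` (a matrix `x` of determinant 1 with `x^r` scalar, `x` not scalar) fixes a point of Ω when it permutes the summands of some such decomposition. Let `r ≠ p` be an odd prime dividing the number of such decompositions, let `c` be the multiplicative order of `q` modulo `r`, and write `k = n mod c`, `ℓ = a mod c`. Then every element of `T`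 of order `r` stabilizes such a decomposition if and only if either `a = 1`, `c = r − 1 > 1` and `n ≤ k·r`, or `c ≤ a` and `k = t·ℓ`. -/
theorem result {F : Type*} [Field F] [Fintype F] {p : ℕ} [Fact p.Prime] [CharP F p] {q : ℕ} (hq : Fintype.card F = q)
    (n a t : ℕ) (hn : 2 ≤ n) (hT : (n, q) ≠ (2, 2) ∧ (n, q) ≠ (2, 3)) (hat : n = a * t) (ha : 1 ≤ a) (ht : 2 ≤ t)
    (r : ℕ) [Fact r.Prime] (hr2 : r ≠ 2) (hrp : r ≠ p) (hΩ : r ∣ Nat.card {D : Fin t → Submodule F (Fin n → F) // Cfsg.Geo.IsMDecomposition a D} / Nat.factorial t)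
    (c : ℕ) (hc : c = orderOf (q : ZMod r)) :
    (∀ x : Matrix.SpecialLinearGroup (Fin n) F,
      (∃ z : F, ((x ^ r : Matrix.SpecialLinearGroup (Fin n) F) : Matrix (Fin n) (Fin n) F) = z • (1 : Matrix (Fin n) (Fin n) F)) →
      (∀ z : F, (x : Matrix (Fin n) (Fin n) F) ≠ z • (1 : Matrix (Fin n) (Fin n) F)) →
      ∃ D : Fin t → Submodule F (Fin n → F), Cfsg.Geo.IsMDecomposition a D ∧
        ∃ σ : Equiv.Perm (Fin t), ∀ j, (D j).map (Matrix.toLin' (x : Matrix (Fin n) (Fin n) F)) = D (σ j)) ↔
    ((a = 1 ∧ 1 < c ∧ c = r - 1 ∧ n ≤ (n % c) * r) ∨ (c ≤ a ∧ n % c = t * (a % c))) := by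
  classical
  subst hq
  have hr := (Fact.out : r.Prime)
  haveI : NeZero r := ⟨hr.ne_zero⟩
  have hrq : ((Fintype.card F : ℕ) : ZMod r) ≠ 0 := by
    intro h0
    obtain ⟨k, -, hk⟩ := FiniteField.card F p
    rw [hk, Nat.cast_pow] at h0
    have h1 := eq_zero_of_pow_eq_zero h0
    rw [ZMod.natCast_eq_zero_iff] at h1
    exact hrp ((Nat.prime_dvd_prime_iff_eq hr (Fact.out : p.Prime)).1 h1)
  have hr0 := H46.Elusive.cast_ne_zero hrq
  have hcle : c ≤ r - 1 := by
    rw [hc]; exact Nat.le_of_dvd (Nat.sub_pos_of_lt hr.one_lt) (ZMod.orderOf_dvd_card_sub_one hrq)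
  have hcn : c ≤ n := hc ▸ H46.Elusive.order_le_of_dvd_decomp hrp (by omega) ht hat hΩ
  have hc1 : 1 ≤ c := by
    rw [hc, ← Units.val_mk0 hrq, orderOf_units]
    exact orderOf_pos _
  have hnt : n % c = (t * (a % c)) % c := by
    rw [hat, mul_comm a t, Nat.mul_mod_mod]
  subst hc
  set c := orderOf ((Fintype.card F : ℕ) : ZMod r) with hcdef
  constructor
  · intro h
    rcases (show c = 1 ∨ 2 ≤ c by omega) with hc2 | hc2
    · exact Or.inr ⟨by omega, by rw [hc2, Nat.mod_one, Nat.mod_one, mul_zero]⟩
    have facts : ∀ b, 1 ≤ b → b * c ≤ n → ∃ (T : Module.End F (Fin n → F)) (D : Fin t → Submodule F (Fin n → F))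
        (σ : Equiv.Perm (Fin t)), T ^ r = 1 ∧ Module.finrank F (LinearMap.ker (T - 1)) = n - b * c ∧
        Cfsg.Geo.IsMDecomposition a D ∧ (∀ j, (D j).map T = D (σ j)) ∧
        (a < c → ∀ j, σ j = j → D j ≤ LinearMap.ker (T - 1)) := by
      intro b hb hbn
      obtain ⟨x, hx1, hxr, hxk, hxs⟩ := H46.Elusive.exists_order_element_of (F := F) (r := r) hrq hc2 b hb hbn
      obtain ⟨D, hD, σ, hσ⟩ := h x ⟨1, hxr⟩ hxs
      refine ⟨_, D, σ, hx1, hxk, hD, hσ, fun hac j hj => ?_⟩
      have hinv : (D j).map (Matrix.toLin' (x : Matrix (Fin n) (Fin n) F)) ≤ D j := by rw [hσ j, hj]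
      have hm := H46.Elusive.dim_modEq_fixed hrq _ hx1 (D j) hinv
      rw [hD.finrank_eq j, ← hcdef] at hm
      have hle : Module.finrank F ↥(D j ⊓ LinearMap.ker ((Matrix.toLin' (x : Matrix (Fin n) (Fin n) F) :
          Module.End F (Fin n → F)) - 1)) ≤ a := (Submodule.finrank_mono inf_le_left).trans (hD.finrank_eq j).le
      have heq := Nat.ModEq.eq_of_lt_of_lt hm hac (lt_of_le_of_lt hle hac)
      exact inf_eq_left.1 (Submodule.eq_of_le_of_finrank_eq inf_le_left (by rw [hD.finrank_eq j, ← heq]))
    obtain ⟨T₀, D₀, σ₀, hT₀, hk₀, hD₀, hσ₀, hfix₀⟩ := facts (n / c) (Nat.div_pos hcn (by omega)) (Nat.div_mul_le_self _ _)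
    have hk₀' : Module.finrank F (LinearMap.ker (T₀ - 1)) = n % c := by
      rw [hk₀]; have := Nat.div_add_mod n c; rw [mul_comm]; omega
    obtain ⟨hmov₀, hcount₀⟩ := H46.Elusive.perm_decomp_facts hr0 (by omega) D₀ hD₀.finrank_eq hD₀.indep T₀ hT₀ σ₀ hσ₀
    rcases Nat.lt_or_ge a c with hac | hca
    · obtain ⟨T₁, D₁, σ₁, hT₁, hk₁, hD₁, hσ₁, hfix₁⟩ := facts 1 le_rfl (by omega)
      obtain ⟨hmov₁, -⟩ := H46.Elusive.perm_decomp_facts hr0 (by omega) D₁ hD₁.finrank_eq hD₁.indep T₁ hT₁ σ₁ hσ₁
      obtain ⟨j, hj⟩ : ∃ j, σ₁ j ≠ j := by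
        by_contra hall
        push Not at hall
        have := H46.Elusive.sum_finrank_le hD₁.indep (fun j => le_refl (D₁ j)) _ (fun j => hfix₁ hac j (hall j))
        rw [Finset.sum_congr rfl (fun j _ => hD₁.finrank_eq j), Finset.sum_const, Finset.card_univ,
          Fintype.card_fin, smul_eq_mul, hk₁, mul_comm, ← hat] at this
        omega
      have hrk : Module.finrank F (LinearMap.range (T₁ - 1)) = c := by
        have := LinearMap.finrank_range_add_finrank_ker (T₁ - 1)
        rw [hk₁, Module.finrank_fin_fun] at this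
        omega
      have h2 := (hmov₁ j hj).2
      rw [hrk] at h2
      have hr1 : 0 < r - 1 := Nat.sub_pos_of_lt hr.one_lt
      have ha1 : a = 1 := by
        by_contra hne
        have := Nat.mul_le_mul_right (r - 1) (show 2 ≤ a by omega)
        omega
      subst ha1
      refine Or.inl ⟨rfl, by omega, by omega, ?_⟩
      have := hcount₀ (hfix₀ hac)
      rw [← hat, hk₀'] at this
      rw [mul_comm]; exact this
    · refine Or.inr ⟨hca, ?_⟩
      have hlt : n % c < c := Nat.mod_lt _ (by omega)
      have hall : ∀ j, σ₀ j = j := by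
        intro j
        by_contra hj
        have := (hmov₀ j hj).1
        omega
      have hge : ∀ j, a % c ≤ Module.finrank F ↥(D₀ j ⊓ LinearMap.ker (T₀ - 1)) := by
        intro j
        have hm := H46.Elusive.dim_modEq_fixed hrq T₀ hT₀ (D₀ j) (by rw [hσ₀ j, hall j])
        rw [hD₀.finrank_eq j, ← hcdef] at hm
        rw [hm]; exact Nat.mod_le _ _
      have hs := (Finset.sum_le_sum fun j (_ : j ∈ (Finset.univ : Finset (Fin t))) => hge j).trans
        (H46.Elusive.sum_finrank_le hD₀.indep (fun j => inf_le_left) _ (fun j => inf_le_right))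
      rw [Finset.sum_const, Finset.card_univ, Fintype.card_fin, smul_eq_mul, hk₀'] at hs
      rw [hnt]
      exact Nat.mod_eq_of_lt (by omega)
  · intro hcond x ⟨z, hxr⟩ _
    have hT := H46.Elusive.toLin'_pow_eq x hxr
    have hz0 : z ≠ 0 := by
      rintro rfl
      have h1 := congrArg Matrix.det hxr
      haveI : Nonempty (Fin n) := ⟨⟨0, by omega⟩⟩
      rw [Matrix.SpecialLinearGroup.det_coe, zero_smul, Matrix.det_zero] at h1
      exact one_ne_zero h1
    set T : Module.End F (Fin n → F) := Matrix.toLin' (x : Matrix (Fin n) (Fin n) F) with hTdef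
    rcases H46.Elusive.nonpower_or_unipower (r := r) hz0 hT with hnon | ⟨l, hl, hl1⟩
    · -- the scalar is not a power
      have hss := Module.End.isSemisimple_of_squarefree_aeval_eq_zero
        (H46.Elusive.squarefree_X_pow_sub hr0 hz0) (H46.Elusive.aeval_X_pow_sub hT)
      have hinj : Function.Injective T := by
        intro v w hvw
        have h1 : (T ^ r) v = (T ^ r) w := by
          rw [← Nat.sub_add_cancel hr.one_lt.le, pow_succ, Module.End.mul_apply, Module.End.mul_apply, hvw]
        rw [hT] at h1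
        exact smul_right_injective _ hz0 h1
      have hsupply : ∀ b, r ∣ b → ∀ C' : Submodule F (Fin n → F), C'.map T ≤ C' → b ≤ Module.finrank F C' →
          ∃ W, W ≤ C' ∧ W.map T ≤ W ∧ Module.finrank F W = b := by
        rintro b ⟨u, rfl⟩ C' hC' hb
        obtain ⟨W, h1, h2, h3⟩ := H46.Elusive.exists_invariant_of_dim (H46.Elusive.squarefree_X_pow_sub hr0 hz0)
          (H46.Elusive.aeval_X_pow_sub hT)
          (fun h _ hd => (Polynomial.natDegree_le_of_dvd hd (Polynomial.X_pow_sub_C_ne_zero hr.pos z)).trans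
            Polynomial.natDegree_X_pow_sub_C.le)
          C' hC' (fun W _ hW => H46.Elusive.prime_dvd_dim hnon hT W hW) u (by rw [mul_comm]; exact hb)
        exact ⟨W, h1, h2, by rw [h3, mul_comm]⟩
      obtain ⟨k, hk, -⟩ := H46.Elusive.det_of_nonpower hnon hT
      rw [Module.finrank_fin_fun] at hk
      rcases (Nat.Prime.dvd_mul hr).1 (⟨k, by omega⟩ : r ∣ a * t) with hra | hrt
      · refine H46.Elusive.decomp_of_split ht (by omega) T hinj ?_
        exact H46.Elusive.exists_split hss a t ⊤ le_top (by rw [finrank_top, Module.finrank_fin_fun, hat])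
          (fun C' _ hC' t' h1 _ hd => hsupply a hra C' hC' (hd ▸ Nat.le_mul_of_pos_right a h1))
      · obtain ⟨s, hs⟩ := hrt
        obtain ⟨U, hU, -, hUtop⟩ := H46.Elusive.exists_split hss r (s * a) ⊤ le_top
          (by rw [finrank_top, Module.finrank_fin_fun, hat, hs]; ring)
          (fun C' _ hC' t' h1 _ hd => hsupply r dvd_rfl C' hC' (hd ▸ Nat.le_mul_of_pos_right r h1))
        have hne : ∀ i, U i ≠ ⊥ := fun i h => by
          have := (hU i).2; rw [h, finrank_bot] at this; exact hr.ne_zero this.symm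
        choose w hw hw0 using fun i => Submodule.exists_mem_ne_zero_of_ne_bot (hne i)
        refine H46.Elusive.decomp_of_cycles (s := s) (f := 0) ht (by omega) hat (by rw [hs, mul_comm, add_zero])
          T hz0 hT (fun i u => w (finProdFinEquiv (i, u))) (fun i => i.elim0) (fun i => i.elim0) ?_
        set S := Submodule.span F ((Set.range fun y : (Fin s × Fin r) × Fin a =>
          (T ^ (y.1.2 : ℕ)) (w (finProdFinEquiv (y.1.1, y.2)))) ∪ Set.range fun y : Fin 0 × Fin a =>
            (fun i : Fin 0 => (i.elim0 : Fin a → Fin n → F)) y.1 y.2) with hS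
        have hSinv : S.map T ≤ S := by
          rw [hS, Submodule.map_span, Submodule.span_le]
          rintro _ ⟨_, (⟨⟨⟨i, j⟩, u⟩, rfl⟩ | ⟨⟨i, u⟩, rfl⟩), rfl⟩
          · show T ((T ^ (j : ℕ)) (w (finProdFinEquiv (i, u)))) ∈ _
            rw [← Module.End.mul_apply, ← pow_succ']
            by_cases hj : (j : ℕ) + 1 < r
            · exact Submodule.subset_span (Or.inl ⟨⟨⟨i, ⟨j + 1, hj⟩⟩, u⟩, rfl⟩)
            · rw [show (j : ℕ) + 1 = r by omega, hT]
              exact Submodule.smul_mem _ _ (Submodule.subset_span (Or.inl ⟨⟨⟨i, 0⟩, u⟩, by simp⟩))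
          · exact i.elim0
        rw [← hUtop]
        refine iSup_le fun i => ?_
        have hwS : w i ∈ S := by
          obtain ⟨⟨i', u⟩, rfl⟩ := finProdFinEquiv.surjective i
          exact Submodule.subset_span (Or.inl ⟨⟨⟨i', 0⟩, u⟩, by simp⟩)
        have hinv' : (U i ⊓ S).map T ≤ U i ⊓ S :=
          (Submodule.map_inf_le _).trans (inf_le_inf (hU i).1 hSinv)
        have hd := Nat.le_of_dvd (Nat.pos_of_ne_zero fun h0 => hw0 i (by
            have hm : w i ∈ U i ⊓ S := ⟨hw i, hwS⟩
            rw [Submodule.finrank_eq_zero.1 h0] at hm; simpa using hm))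
          (H46.Elusive.prime_dvd_dim hnon hT _ hinv')
        exact inf_eq_left.1 (Submodule.eq_of_le_of_finrank_le inf_le_left (by rw [(hU i).2]; exact hd))
    · -- the scalar is a power
      set T₁ := l • T with hT₁def
      suffices hmain : ∃ D : Fin t → Submodule F (Fin n → F), Cfsg.Geo.IsMDecomposition a D ∧
          ∃ σ : Equiv.Perm (Fin t), ∀ j, (D j).map T₁ = D (σ j) by
        obtain ⟨D, hD, σ, hσ⟩ := hmain
        exact ⟨D, hD, σ, fun j => by rw [← hσ j, hT₁def, Submodule.map_smul _ _ _ hl]⟩
      have hinj : Function.Injective T₁ := by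
        intro v w hvw
        have h1 : (T₁ ^ r) v = (T₁ ^ r) w := by
          rw [← Nat.sub_add_cancel hr.one_lt.le, pow_succ, Module.End.mul_apply, Module.End.mul_apply, hvw]
        rwa [hl1] at h1
      have hgT : Polynomial.aeval T₁ (Polynomial.X ^ r - Polynomial.C (1 : F)) = 0 :=
        H46.Elusive.aeval_X_pow_sub (by rw [hl1, one_smul])
      have hsq := H46.Elusive.squarefree_X_pow_sub (F := F) hr0 one_ne_zero
      have hss := Module.End.isSemisimple_of_squarefree_aeval_eq_zero hsq hgT
      rcases hcond with ⟨ha1, -, hcr, hnk⟩ | ⟨hca, hk⟩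
      · -- lines
        subst ha1
        obtain ⟨hC1, hinter, hdvd⟩ := H46.Elusive.range_structure hrq hl1
        obtain ⟨s, hs⟩ := hdvd _ le_rfl hC1
        rw [← hcdef] at hs hdvd
        obtain ⟨U, hU, -, hUsup⟩ := H46.Elusive.exists_split hss c s _ hC1 hs
          (fun C' hC'le hC' t' h1 _ hd => by
            obtain ⟨W, h1', h2, h3⟩ := H46.Elusive.exists_invariant_of_dim hsq hgT
              (H46.Elusive.natDegree_le_order hrq) C' hC' (fun W hW hWi => hdvd W (hW.trans hC'le) hWi) 1
              (by rw [one_mul, hd]; exact Nat.le_mul_of_pos_right c h1)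
            exact ⟨W, h1', h2, by rw [h3, one_mul]⟩)
        have hdim := LinearMap.finrank_range_add_finrank_ker (T₁ - 1)
        rw [hs, Module.finrank_fin_fun] at hdim
        obtain ⟨A, hA⟩ : ∃ A, Module.finrank F (LinearMap.ker (T₁ - 1)) = A := ⟨_, rfl⟩
        rw [hA] at hdim
        have hsA : s ≤ A := by
          have h1 := Nat.div_add_mod n c
          have h2 : c * (n / c) + n % c ≤ n % c * (c + 1) := by
            rw [show c + 1 = r by omega]; omega
          have h3 : c * (n / c) ≤ c * (n % c) := by rw [Nat.mul_succ, mul_comm (n % c)] at h2; omega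
          have h4 : c * s ≤ c * (n / c) + n % c := by omega
          have h5 : s ≤ n / c := (Nat.le_div_iff_mul_le (by omega)).2 (by rw [mul_comm]; omega)
          have h6 : n / c ≤ n % c := Nat.le_of_mul_le_mul_left h3 (by omega)
          have h7 : n % c = A % c := by rw [← hdim]; simp
          have h8 := Nat.mod_le A c
          omega
        have hne : ∀ i, U i ≠ ⊥ := fun i h => by
          have := (hU i).2; rw [h, finrank_bot] at this; omega
        choose u hu hu0 using fun i => Submodule.exists_mem_ne_zero_of_ne_bot (hne i)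
        let bK := Module.finBasisOfFinrankEq F (LinearMap.ker (T₁ - 1)) hA
        let e : Fin A → (Fin n → F) := fun i => (bK i : Fin n → F)
        have he : ∀ i, T₁ (e i) = e i := by
          intro i
          have h1 : (T₁ - 1) (e i) = 0 := LinearMap.mem_ker.1 (bK i).2
          rwa [LinearMap.sub_apply, Module.End.one_apply, sub_eq_zero] at h1
        refine H46.Elusive.decomp_of_cycles (s := s) (f := A - s) (r := r) ht Nat.one_pos hat
          (by rw [one_mul] at hat; rw [show r = c + 1 by omega, Nat.mul_succ, mul_comm s c]; omega)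
          T₁ one_ne_zero (by rw [hl1, one_smul]) (fun i _ => u i + e (Fin.castLE hsA i))
          (fun j _ => e ⟨s + j, by omega⟩) (fun j _ => he _) ?_
        set S := Submodule.span F ((Set.range fun y : (Fin s × Fin r) × Fin 1 =>
            (T₁ ^ (y.1.2 : ℕ)) (u y.1.1 + e (Fin.castLE hsA y.1.1))) ∪
          Set.range fun y : Fin (A - s) × Fin 1 => e ⟨s + y.1, by omega⟩) with hS
        have hSinv : S.map T₁ ≤ S := by
          rw [hS, Submodule.map_span, Submodule.span_le]
          rintro _ ⟨_, (⟨⟨⟨i, j⟩, v⟩, rfl⟩ | ⟨⟨i, v⟩, rfl⟩), rfl⟩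
          · show T₁ ((T₁ ^ (j : ℕ)) _) ∈ _
            rw [← Module.End.mul_apply, ← pow_succ']
            by_cases hj : (j : ℕ) + 1 < r
            · exact Submodule.subset_span (Or.inl ⟨⟨⟨i, ⟨j + 1, hj⟩⟩, v⟩, rfl⟩)
            · rw [show (j : ℕ) + 1 = r by omega, hl1]
              exact Submodule.subset_span (Or.inl ⟨⟨⟨i, 0⟩, v⟩, by simp⟩)
          · show T₁ (e _) ∈ _
            rw [he]
            exact Submodule.subset_span (Or.inr ⟨⟨i, v⟩, rfl⟩)
        have hwS : ∀ i, u i + e (Fin.castLE hsA i) ∈ S := fun i =>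
          Submodule.subset_span (Or.inl ⟨⟨⟨i, 0⟩, 0⟩, by simp⟩)
        have hUS : ∀ i, U i ≤ S := by
          intro i
          have hd0 : (T₁ - 1) (u i) ∈ U i ⊓ S := by
            refine ⟨?_, ?_⟩
            · rw [LinearMap.sub_apply, Module.End.one_apply]
              exact (U i).sub_mem ((hU i).1 ⟨_, hu i, rfl⟩) (hu i)
            · have := S.sub_mem (hSinv ⟨_, hwS i, rfl⟩) (hwS i)
              rw [map_add, he, add_sub_add_right_eq_sub] at this
              simpa using this
          have hinv' : (U i ⊓ S).map T₁ ≤ U i ⊓ S :=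
            (Submodule.map_inf_le _).trans (inf_le_inf (hU i).1 hSinv)
          have hUle : U i ≤ LinearMap.range (T₁ - 1) := hUsup ▸ le_iSup U i
          have hd := Nat.le_of_dvd (Nat.pos_of_ne_zero fun h0 => by
              rw [Submodule.finrank_eq_zero.1 h0, Submodule.mem_bot] at hd0
              have : u i ∈ LinearMap.range (T₁ - 1) ⊓ LinearMap.ker (T₁ - 1) := ⟨hUle (hu i), hd0⟩
              rw [hinter, Submodule.mem_bot] at this
              exact hu0 i this)
            (hdvd _ (inf_le_left.trans hUle) hinv')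
          exact inf_eq_left.1 (Submodule.eq_of_le_of_finrank_le inf_le_left (by rw [(hU i).2]; exact hd))
        have hker : LinearMap.ker (T₁ - 1) ≤ S := by
          intro v hv
          have h1 := congrArg Subtype.val (bK.sum_repr ⟨v, hv⟩)
          rw [Submodule.coe_sum] at h1
          rw [show v = _ from h1.symm]
          refine S.sum_mem fun i _ => ?_
          rw [Submodule.coe_smul]
          refine S.smul_mem _ ?_
          show e i ∈ S
          by_cases hi : (i : ℕ) < s
          · have := S.sub_mem (hwS ⟨i, hi⟩) (hUS ⟨i, hi⟩ (hu ⟨i, hi⟩))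
            rw [add_sub_cancel_left] at this
            exact this
          · refine Submodule.subset_span (Or.inr ⟨⟨⟨i - s, by omega⟩, 0⟩, ?_⟩)
            show e _ = e i
            exact congrArg e (Fin.ext (by simp; omega))
        have htop : LinearMap.range (T₁ - 1) ⊔ LinearMap.ker (T₁ - 1) = ⊤ := by
          refine Submodule.eq_top_of_finrank_eq ?_
          have h1 := Submodule.finrank_sup_add_finrank_inf_eq (LinearMap.range (T₁ - 1)) (LinearMap.ker (T₁ - 1))
          rw [hinter, finrank_bot, add_zero, LinearMap.finrank_range_add_finrank_ker] at h1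
          exact h1
        rw [← htop, ← hUsup]
        exact sup_le (iSup_le hUS) hker
      · -- all summands invariant
        refine H46.Elusive.decomp_of_split ht (by omega) T₁ hinj ?_
        refine H46.Elusive.exists_split hss a t ⊤ le_top (by rw [finrank_top, Module.finrank_fin_fun, hat]) ?_
        intro C' _ hC' t' h1 h2 hd
        set T' : Module.End F C' := T₁.restrict (fun w hw => hC' ⟨w, hw, rfl⟩) with hT'def
        have hT' : T' ^ r = 1 := by
          rw [hT'def, Module.End.pow_restrict r (fun w hw => hC' ⟨w, hw, rfl⟩)]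
          refine LinearMap.ext fun w => Subtype.ext ?_
          rw [LinearMap.coe_restrict_apply, hl1]
          rfl
        obtain ⟨hle, hdiv, hex⟩ := H46.Elusive.unipower_structure hrq T' hT'
        rw [hd, ← hcdef] at *
        generalize Module.finrank F (LinearMap.ker (T' - 1)) = A at *
        have hAmod : (t' * (a % c)) % c = A % c := by
          rw [((Nat.modEq_iff_dvd' hle).2 hdiv), mul_comm a t', Nat.mul_mod_mod]
        have hlt' : t' * (a % c) < c := lt_of_le_of_lt (Nat.mul_le_mul_right _ h2) (hk ▸ Nat.mod_lt _ (by omega))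
        rw [Nat.mod_eq_of_lt hlt'] at hAmod
        have hAl : a % c ≤ A := (Nat.le_mul_of_pos_left _ h1).trans (hAmod ▸ Nat.mod_le A c)
        obtain ⟨N, hN⟩ := hdiv
        have hda := Nat.div_add_mod a c
        obtain ⟨f, k', hf, hk', hfk⟩ : ∃ f k', f ≤ A ∧ k' * c ≤ a * t' - A ∧ f + k' * c = a := by
          by_cases hN' : a / c ≤ N
          · refine ⟨a % c, a / c, hAl, ?_, by rw [mul_comm]; omega⟩
            rw [hN, mul_comm c]; exact Nat.mul_le_mul_right _ hN'
          · have : c * N ≤ a := (Nat.mul_le_mul_left c (by omega : N ≤ a / c)).trans (Nat.mul_div_le a c)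
            have := Nat.le_mul_of_pos_right a h1
            exact ⟨a - c * N, N, by omega, by rw [hN, mul_comm], by rw [mul_comm N]; omega⟩
        obtain ⟨W, hW, hWd, -⟩ := hex f k' hf hk'
        refine ⟨W.map C'.subtype, Submodule.map_subtype_le _ _, ?_,
          by rw [Submodule.finrank_map_subtype_eq, hWd, hfk]⟩
        rintro _ ⟨_, ⟨w, hw, rfl⟩, rfl⟩
        exact ⟨T' w, hW ⟨w, hw, rfl⟩, rfl⟩

end Cfsg.Agent.S5958
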