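import Cfsg.Statements.S5959
import Cfsg.Agent.H46.ElusiveUnip

set_option autoImplicit false
open scoped MatrixGroups
open Cfsg

namespace Cfsg.Agent.S5959

/-- Elements of order `p` of PSL_n(q) and imprimitive subgroups: a necessary condition. Here `T = PSL_n(F)` for a field `F` with `q = p^f` elements (`n ≥ 2`, `(n, q) ≠ (2, 2), (2, 3)`), `n = a·t` with `t ≥ 2`, and Ω is the set of direct-sum decompositions of `F^n` into `t` subspaces of dimension `a` (unordered; their number is the number of ordered ones divided by `t!`), whose stabilizers are the imprimitive subgroups of type GL_a(q) ≀ S_t (maximal except in some small cases; maximality is not assumed); an element of `T` of prime order `r` (a matrix `x` of determinant 1 with `x^r` scalar, `x` not scalar) fixes a point of Ω when it permutes the summands of some such decomposition. Suppose `p > 2` divides the number of such decompositions. If every element of `T` of order `p` stabilizes such a decomposition, then every partition of `n` into parts of size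 at most `p` in which the part `p` occurs fewer than `a` times contains (as a sub-multiset) a partition of `a`. -/
theorem result {F : Type*} [Field F] [Fintype F] {p : ℕ} [Fact p.Prime] [CharP F p] {q : ℕ} (hq : Fintype.card F = q)
    (n a t : ℕ) (hn : 2 ≤ n) (hT : (n, q) ≠ (2, 2) ∧ (n, q) ≠ (2, 3)) (hat : n = a * t) (ha : 1 ≤ a) (ht : 2 ≤ t)
    (hp : 2 < p) (hΩ : p ∣ Nat.card {D : Fin t → Submodule F (Fin n → F) // Cfsg.Geo.IsMDecomposition a D} / Nat.factorial t)
    (h : ∀ x : Matrix.SpecialLinearGroup (Fin n) F,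
      (∃ z : F, ((x ^ p : Matrix.SpecialLinearGroup (Fin n) F) : Matrix (Fin n) (Fin n) F) = z • (1 : Matrix (Fin n) (Fin n) F)) →
      (∀ z : F, (x : Matrix (Fin n) (Fin n) F) ≠ z • (1 : Matrix (Fin n) (Fin n) F)) →
      ∃ D : Fin t → Submodule F (Fin n → F), Cfsg.Geo.IsMDecomposition a D ∧
        ∃ σ : Equiv.Perm (Fin t), ∀ j, (D j).map (Matrix.toLin' (x : Matrix (Fin n) (Fin n) F)) = D (σ j)) :
    (∀ μ : Multiset ℕ, (∀ b ∈ μ, 0 < b ∧ b ≤ p) → μ.sum = n → μ.count p < a → ∃ ν : Multiset ℕ, ν ≤ μ ∧ ν.sum = a) := by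
  classical
  have hpp : p.Prime := Fact.out
  intro μ hμ hsum hcount
  by_cases h1 : ∀ b ∈ μ, b = 1
  · have he := Multiset.eq_replicate_card.2 h1
    rw [he, Multiset.sum_replicate, smul_eq_mul, mul_one] at hsum
    refine ⟨Multiset.replicate a 1, he ▸ (Multiset.replicate_le_replicate 1).2 ?_, by simp⟩
    rw [hsum, hat]
    exact Nat.le_mul_of_pos_right _ (by omega)
  have hget : ∀ k, 0 < μ.toList.get k ∧ μ.toList.get k ≤ p := fun k =>
    hμ _ (Multiset.mem_toList.1 (List.get_mem _ k))
  have hmap : (Finset.univ : Finset (Fin μ.toList.length)).val.map (fun k => μ.toList.get k - 1 + 1) = μ := by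
    rw [Fin.univ_val_map]
    conv_rhs => rw [← Multiset.coe_toList μ, ← List.ofFn_get μ.toList]
    refine congrArg _ (congrArg List.ofFn (funext fun k => ?_))
    exact Nat.sub_add_cancel (hget k).1
  have hsum' : ∑ k, (μ.toList.get k - 1 + 1) = n := by
    rw [Finset.sum_eq_multiset_sum, hmap, hsum]
  obtain ⟨x, N, b, hb, hN, hxN, hxr⟩ := H46.Elusive.exists_unipotent_element (F := F) (p := p)
    (n := n) (by omega) (fun k => μ.toList.get k - 1) hsum' (fun k => by have := hget k; omega)
  have hNp : N ^ p = 0 := hb.pow_eq_zero fun k => by have := hget k; omega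
  haveI : Nonempty (Fin n) := ⟨⟨0, by omega⟩⟩
  have hns : ∀ z : F, (x : Matrix (Fin n) (Fin n) F) ≠ z • (1 : Matrix (Fin n) (Fin n) F) := by
    intro z hz
    rw [hz, map_smul, Matrix.toLin'_one, ← Module.End.one_eq_id] at hxN
    have hN' : N = (z - 1) • 1 := by rw [eq_sub_of_add_eq' hxN.symm]; module
    have hk := hNp
    rw [hN', _root_.smul_pow, one_pow, smul_eq_zero, or_iff_left one_ne_zero] at hk
    have hN0 : N = 0 := by rw [hN', eq_zero_of_pow_eq_zero hk, zero_smul]
    refine h1 fun c hc => ?_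
    obtain ⟨k, rfl⟩ := List.mem_iff_get.1 (Multiset.mem_toList.2 hc)
    by_contra hne
    have hb0 := hb k 0
    rw [hN0, LinearMap.zero_apply, dif_pos (show ((0 : Fin (μ.toList.get k - 1 + 1)) : ℕ) + 1 <
      μ.toList.get k - 1 + 1 by have := hget k; rw [Fin.val_zero]; omega)] at hb0
    exact b.ne_zero _ hb0.symm
  obtain ⟨D, hD, σ, hσ⟩ := h x ⟨1, hxr⟩ hns
  obtain ⟨T, hTdef⟩ : ∃ T : Module.End F (Fin n → F), T = Matrix.toLin' (x : Matrix (Fin n) (Fin n) F) := ⟨_, rfl⟩
  rw [← hTdef] at hxN hσ
  have hTp : T ^ p = 1 := by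
    have h2 := H46.Elusive.sub_one_pow_char (p := p) (show n ≠ 0 by omega) T
    rw [hxN, add_sub_cancel_left, hNp, ← hxN] at h2
    exact sub_eq_zero.1 h2.symm
  have hDinj : Function.Injective D := fun i j hij => by
    by_contra hne
    have h2 : Disjoint (D i) (D j) := hD.indep.pairwiseDisjoint hne
    rw [hij, disjoint_self] at h2
    have h3 := hD.finrank_eq j
    rw [h2, finrank_bot] at h3
    omega
  have hpow : ∀ (l : ℕ) j, (D j).map (T ^ l) = D ((σ ^ l) j) := by
    intro l
    induction l with
    | zero => intro j; simp [Module.End.one_eq_id, Submodule.map_id]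
    | succ l ih =>
      intro j
      rw [pow_succ', Module.End.mul_eq_comp, Submodule.map_comp, ih, hσ, pow_succ', Equiv.Perm.mul_apply]
  have hσp : ∀ j, (σ ^ p) j = j := fun j => hDinj (by
    rw [← hpow, hTp, Module.End.one_eq_id, Submodule.map_id])
  have hfix : ∀ j, σ j = j := by
    intro j₀
    by_contra hj
    have hne : ∀ k, k ≠ 0 → k < p → (σ ^ k) j₀ ≠ j₀ := by
      intro k hk0 hkp hk
      have hk' : Function.IsPeriodicPt σ k j₀ := by
        show (σ : Fin t → Fin t)^[k] j₀ = j₀
        rw [← Equiv.Perm.coe_pow]; exact hk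
      have hp' : Function.IsPeriodicPt σ p j₀ := by
        show (σ : Fin t → Fin t)^[p] j₀ = j₀
        rw [← Equiv.Perm.coe_pow]; exact hσp j₀
      have h2 := hk'.gcd hp'
      rw [Nat.Coprime.gcd_eq_one ((hpp.coprime_iff_not_dvd.2 fun hd =>
        absurd (Nat.le_of_dvd (Nat.pos_of_ne_zero hk0) hd) (by omega)).symm)] at h2
      exact hj h2
    have hpoly : (Polynomial.X - 1 : Polynomial F) ^ (p - 1) = ∑ k ∈ Finset.range p, Polynomial.X ^ k := by
      have hX : (Polynomial.X - 1 : Polynomial F) ≠ 0 := by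
        simpa using Polynomial.X_sub_C_ne_zero (1 : F)
      refine mul_right_cancel₀ hX ?_
      rw [← pow_succ, Nat.sub_add_cancel hpp.pos, geom_sum_mul, sub_pow_char, one_pow]
    have hgeom : (T - 1) ^ (p - 1) = ∑ k ∈ Finset.range p, T ^ k := by
      have h2 := congrArg (Polynomial.aeval T) hpoly
      simpa only [map_pow, map_sub, map_sum, map_one, Polynomial.aeval_X] using h2
    have hNT : T - 1 = N := by rw [hxN, add_sub_cancel_left]
    rw [hNT] at hgeom
    have hinj : Function.Injective ((N ^ (p - 1)).domRestrict (D j₀)) := by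
      rw [← LinearMap.ker_eq_bot, LinearMap.ker_eq_bot']
      rintro ⟨v, hv⟩ hzero
      have hz : ∑ k ∈ Finset.range p, (T ^ k) v = 0 := by
        rw [← LinearMap.sum_apply, ← hgeom]; exact hzero
      rw [← Finset.add_sum_erase _ _ (Finset.mem_range.2 hpp.pos), pow_zero, Module.End.one_apply] at hz
      have hmem : ∑ k ∈ (Finset.range p).erase 0, (T ^ k) v ∈ ⨆ (i) (_ : i ≠ j₀), D i := by
        refine Submodule.sum_mem _ fun k hk => ?_
        rw [Finset.mem_erase, Finset.mem_range] at hk
        refine Submodule.mem_iSup_of_mem ((σ ^ k) j₀) (Submodule.mem_iSup_of_mem (hne k hk.1 hk.2) ?_)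
        rw [← hpow]
        exact ⟨v, hv, rfl⟩
      have h2 : v ∈ ⨆ (i) (_ : i ≠ j₀), D i := by
        rw [eq_neg_of_add_eq_zero_left hz]; exact Submodule.neg_mem _ hmem
      exact Subtype.ext (Submodule.disjoint_def.1 (hD.indep j₀) v hv h2)
    have h3 := LinearMap.finrank_range_of_inj hinj
    have h4 : LinearMap.range ((N ^ (p - 1)).domRestrict (D j₀)) ≤ LinearMap.range (N ^ (p - 1)) := by
      rintro _ ⟨v, rfl⟩; exact ⟨v, rfl⟩
    have h5 := Submodule.finrank_mono h4
    rw [h3, hD.finrank_eq, hb.finrank_range_pow] at h5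
    have h6 : ∑ k, (μ.toList.get k - 1 + 1 - (p - 1)) = μ.count p := by
      have h7 : ∀ m ∈ μ, m - (p - 1) = if p = m then 1 else 0 := fun m hm => by
        have := hμ m hm; split_ifs <;> omega
      have h8 : ∀ ν : Multiset ℕ, (ν.map fun m => if p = m then 1 else 0).sum = ν.count p := by
        intro ν
        induction ν using Multiset.induction with
        | empty => simp
        | cons m ν ih =>
          rw [Multiset.map_cons, Multiset.sum_cons, ih, Multiset.count_cons]
          split_ifs <;> omega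
      rw [← h8, ← Multiset.map_congr rfl h7]
      conv_rhs => rw [← hmap, Multiset.map_map]
      rfl
    rw [h6] at h5
    omega
  have hstab : ∀ j, (D j).map N ≤ D j := by
    rintro j _ ⟨u, hu, rfl⟩
    have h2 : T u ∈ D j := by
      have := (hσ j).le ⟨u, hu, rfl⟩
      rwa [hfix] at this
    rw [hxN] at h2
    have := (D j).sub_mem h2 hu
    simpa using this
  let j₀ : Fin t := ⟨0, by omega⟩
  have hc : IsCompl (D j₀) (⨆ (i) (_ : i ≠ j₀), D i) :=
    ⟨hD.indep j₀, codisjoint_iff.2 (by
      rw [eq_top_iff, ← hD.iSup_eq_top]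
      refine iSup_le fun i => ?_
      by_cases hi : i = j₀
      · exact hi ▸ le_sup_left
      · exact le_sup_of_le_right (le_iSup₂_of_le i hi le_rfl))⟩
  obtain ⟨ν, hν, hνs⟩ := H46.Elusive.exists_sub_partition hN hb (D j₀) _ hc (hstab j₀) (by
    rw [Submodule.map_iSup]
    refine iSup_le fun i => ?_
    rw [Submodule.map_iSup]
    exact iSup_le fun hi => (hstab i).trans (le_iSup₂_of_le i hi le_rfl))
  exact ⟨ν, hν.trans hmap.le, hνs.trans (hD.finrank_eq j₀)⟩

end Cfsg.Agent.S5959
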