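import Cfsg.Statements.S5960
import Cfsg.Agent.H98.SympFrame
import Cfsg.Agent.H98.ElusiveBlocks
import Cfsg.Agent.H45.ClsSymplectic

set_option autoImplicit false
open scoped MatrixGroups
open Cfsg

namespace Cfsg.Agent.S5960

/-- Involutions of PSp_n(q) and imprimitive subgroups. Here `T = PSp_n(q)`, `n = 2d ≥ 4`, `(n, q) ≠ (4, 2)`, realised through the symplectic matrices over the field `F` with `q` elements and the standard alternating form; `n = a·t` with `a` even and `t ≥ 2`, and Ω is the (nonempty) set of orthogonal decompositions of `F^n` into `t` nondegenerate subspaces of dimension `a` (unordered; counted as ordered ones divided by `t!`), whose stabilizers are the imprimitive subgroups of type Sp_a(q) ≀ S_t (maximality is not assumed); an element of `T` of prime order `r` (a symplectic matrix `x` with `x^r` scalar, `x` not scalar) fixes a point of Ω when it permutes the summands of some such decomposition. If the number of such decompositions is even, then every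 involution of `T` stabilizes one of them (the action is 2-elusive). -/
theorem result {F : Type*} [Field F] [Fintype F] {p : ℕ} [Fact p.Prime] [CharP F p] {q : ℕ} (hq : Fintype.card F = q)
    (d : ℕ) (hd : 2 ≤ d) (hT : (d, q) ≠ (2, 2))
    (a t : ℕ) (hat : 2 * d = a * t) (ha : 2 ≤ a) (hae : Even a) (ht : 2 ≤ t) (hΩ : 2 ∣ Nat.card {D : Fin t → Submodule F (Fin d ⊕ Fin d → F) // (Cfsg.Geo.IsMDecomposition a D ∧ (∀ j, ∀ u ∈ D j, u ≠ 0 → ∃ v ∈ D j, Cfsg.sympForm d F u v ≠ 0) ∧
          (∀ j j', j ≠ j' → ∀ u ∈ D j, ∀ v ∈ D j', Cfsg.sympForm d F u v = 0))} / Nat.factorial t)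
    (x : ↥(Matrix.symplecticGroup (Fin d) F))
    (hx1 : ∃ z : F, ((x ^ 2 : ↥(Matrix.symplecticGroup (Fin d) F)) : Matrix (Fin d ⊕ Fin d) (Fin d ⊕ Fin d) F) = z • (1 : Matrix (Fin d ⊕ Fin d) (Fin d ⊕ Fin d) F))
    (hx2 : ∀ z : F, (x : Matrix (Fin d ⊕ Fin d) (Fin d ⊕ Fin d) F) ≠ z • (1 : Matrix (Fin d ⊕ Fin d) (Fin d ⊕ Fin d) F)) :
    ∃ D : Fin t → Submodule F (Fin d ⊕ Fin d → F), (Cfsg.Geo.IsMDecomposition a D ∧ (∀ j, ∀ u ∈ D j, u ≠ 0 → ∃ v ∈ D j, Cfsg.sympForm d F u v ≠ 0) ∧
          (∀ j j', j ≠ j' → ∀ u ∈ D j, ∀ v ∈ D j', Cfsg.sympForm d F u v = 0)) ∧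
        ∃ σ : Equiv.Perm (Fin t), ∀ j, (D j).map (Matrix.toLin' (x : Matrix (Fin d ⊕ Fin d) (Fin d ⊕ Fin d) F)) = D (σ j) := by
  classical
  obtain ⟨z, hz⟩ := hx1
  have hfs := H45.isSymplecticForm_std (F := F) (m := d)
  let f : LinearMap.BilinForm F (Fin d ⊕ Fin d → F) := LinearMap.mk₂ F (Cfsg.sympForm d F)
    hfs.bilinear.add_left (fun c u v => by rw [hfs.bilinear.smul_left, smul_eq_mul]) hfs.bilinear.add_right
    (fun c u v => by rw [hfs.bilinear.smul_right, smul_eq_mul])
  have hf : ∀ u v, f u v = Cfsg.sympForm d F u v := fun u v => rfl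
  set X := (x : Matrix (Fin d ⊕ Fin d) (Fin d ⊕ Fin d) F) with hX
  set T := Matrix.toLin' X
  have hiso : ∀ u v, f (T u) (T v) = f u v := fun u v => by
    rw [hf, hf]
    have h2 : X.transpose * Matrix.J (Fin d) F * X = Matrix.J (Fin d) F :=
      SymplecticGroup.mem_iff'.1 x.2
    simp only [T, Matrix.toLin'_apply, Cfsg.sympForm]
    rw [← Matrix.vecMul_transpose X u, ← Matrix.dotProduct_mulVec, Matrix.mulVec_mulVec, Matrix.mulVec_mulVec,
      h2]
  have hTT : ∀ v, T (T v) = z • v := fun v => by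
    simp only [T, Matrix.toLin'_apply, Matrix.mulVec_mulVec]
    rw [show X * X = z • 1 by rw [← hz, pow_two]; rfl, Matrix.smul_mulVec, Matrix.one_mulVec]
  have hA : ∀ u, f u u = 0 := fun u => hfs.alternating u
  have hnd : ∀ u, u ≠ 0 → ∃ y, f u y ≠ 0 := fun u hu => (hfs.nondegenerate u hu).2
  obtain ⟨e0, he0⟩ : ∃ u : Fin d ⊕ Fin d → F, u ≠ 0 :=
    ⟨fun _ => 1, fun h => one_ne_zero (congrFun h (Sum.inl ⟨0, by omega⟩))⟩
  obtain ⟨y0, hy0⟩ := hnd e0 he0
  have hz2 : z * z = 1 := by
    have h1 := hiso (T e0) (T y0)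
    rw [hTT, hTT, map_smul, map_smul, LinearMap.smul_apply, hiso, smul_eq_mul, smul_eq_mul, ← mul_assoc] at h1
    exact mul_right_cancel₀ hy0 (h1.trans (one_mul _).symm)
  have hz0 : z ≠ 0 := left_ne_zero_of_mul_eq_one hz2
  have hinj : Function.Injective T := fun u v huv => by
    have h1 := congrArg T huv
    rw [hTT, hTT] at h1
    exact smul_right_injective _ hz0 h1
  obtain ⟨κ, hfin, v, w, π, had, hcard, hspan⟩ :=
    H98.SympFrame.exists_adapted_top hA hiso hz0 hTT hnd
  rw [Module.finrank_fintype_fun_eq_card, Fintype.card_sum, Fintype.card_fin] at hcard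
  obtain ⟨a', rfl⟩ := hae
  let L : κ → Submodule F (Fin d ⊕ Fin d → F) := fun i => Submodule.span F {v i, w i}
  have horth : ∀ i j, i ≠ j → ∀ u ∈ L i, ∀ u' ∈ L j, f u u' = 0 := by
    intro i j hij u hu u' hu'
    obtain ⟨a₁, b₁, rfl⟩ := Submodule.mem_span_pair.1 hu
    obtain ⟨a₂, b₂, rfl⟩ := Submodule.mem_span_pair.1 hu'
    simp [had.fvv, had.fww, had.fvw_ne i j hij, had.fwv_ne hA i j hij]
  have hcoef : ∀ i, ∀ u ∈ L i, u = f u (w i) • v i - f u (v i) • w i := by
    intro i u hu
    obtain ⟨a₁, b₁, rfl⟩ := Submodule.mem_span_pair.1 hu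
    simp [had.fvv, had.fww, had.fvw, had.fwv hA, sub_eq_add_neg]
  have hind : iSupIndep L := by
    intro i
    rw [Submodule.disjoint_def]
    intro u hu hu'
    have hker : ∀ y ∈ L i, f u y = 0 := by
      intro y hy
      have hle : (⨆ (j) (_ : j ≠ i), L j) ≤ LinearMap.ker (f.flip y) := iSup₂_le fun j hj r hr =>
        LinearMap.mem_ker.2 (horth j i hj r hr y hy)
      exact LinearMap.mem_ker.1 (hle hu')
    rw [hcoef i u hu, hker _ (Submodule.subset_span (Or.inr rfl)), hker _ (Submodule.subset_span (Or.inl rfl)),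
      zero_smul, zero_smul, sub_zero]
  have htop : iSup L = ⊤ := by
    rw [eq_top_iff, ← hspan, Submodule.span_le]
    rintro _ ⟨i | i, rfl⟩
    · exact Submodule.mem_iSup_of_mem i (Submodule.subset_span (Or.inl rfl))
    · exact Submodule.mem_iSup_of_mem i (Submodule.subset_span (Or.inr rfl))
  have hdim : ∀ i, Module.finrank F (L i) = 2 := by
    intro i
    have hli : LinearIndependent F ![v i, w i] := by
      rw [LinearIndependent.pair_iff]
      intro s t hst
      have h1 := congrArg (fun y => f y (w i)) hst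
      have h2 := congrArg (fun y => f y (v i)) hst
      simp [had.fvw, had.fww, had.fvv, had.fwv hA] at h1 h2
      exact ⟨h1, h2⟩
    have h := finrank_span_eq_card hli
    rw [Matrix.range_cons_cons_empty, Fintype.card_fin] at h
    exact h
  have hmapL : ∀ i, (L i).map T = L (π i) := by
    intro i
    have hle : (L i).map T ≤ L (π i) := by
      simp only [L, Submodule.map_span, Submodule.span_le]
      rintro _ ⟨y, rfl | rfl, rfl⟩
      · rcases had.kind i with ⟨c, e, h1, -, -⟩ | ⟨he, -, c, e, h1, -⟩ <;> rw [h1]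
        · exact Submodule.smul_mem _ _ (Submodule.subset_span (Or.inl rfl))
        · rw [he]; exact Submodule.smul_mem _ _ (Submodule.subset_span (Or.inr rfl))
      · rcases had.kind i with ⟨c, e, -, h2, -⟩ | ⟨he, -, c, e, -, h2⟩ <;> rw [h2]
        · exact Submodule.smul_mem _ _ (Submodule.subset_span (Or.inr rfl))
        · rw [he]; exact Submodule.smul_mem _ _ (Submodule.subset_span (Or.inl rfl))
    refine Submodule.eq_of_le_of_finrank_le hle ?_
    rw [← (Submodule.equivMapOfInjective T hinj (L i)).finrank_eq, hdim, hdim]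
  have ha' : 0 < a' := by omega
  have hc' : Fintype.card κ = a' * t := by
    have : (a' + a') * t = 2 * (a' * t) := by ring
    omega
  obtain ⟨B, σ, hfinB, hindB, htopB, hperm, hdisj⟩ :=
    H98.Elusive.exists_decomposition π had.invol L hind htop T hmapL 2 hdim a' t ha' hc'
  have horthB : ∀ j j', j ≠ j' → ∀ u ∈ (⨆ i ∈ B j, L i), ∀ u' ∈ (⨆ i ∈ B j', L i), f u u' = 0 := by
    intro j j' hjj u hu u' hu'
    have h1 : (⨆ i ∈ B j, L i) ≤ LinearMap.ker (f.flip u') := iSup₂_le fun i hi r hr => by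
      have h2 : (⨆ i ∈ B j', L i) ≤ LinearMap.ker (f r) := iSup₂_le fun i' hi' r' hr' =>
        LinearMap.mem_ker.2 (horth i i' (fun e => Finset.disjoint_left.1 (hdisj j j' hjj) hi (e ▸ hi')) r hr r' hr')
      exact LinearMap.mem_ker.2 (LinearMap.mem_ker.1 (h2 hu'))
    exact LinearMap.mem_ker.1 (h1 hu)
  refine ⟨fun j => ⨆ i ∈ B j, L i, ⟨⟨ht, by omega, fun j => ?_, hindB, htopB⟩, fun j u hu hu0 => ?_,
    fun j j' hjj u hu u' hu' => horthB j j' hjj u hu u' hu'⟩, σ, fun j => hperm j⟩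
  · rw [hfinB j]; omega
  · by_contra hcon
    push Not at hcon
    obtain ⟨y, hy⟩ := hnd u hu0
    apply hy
    have hle : (⊤ : Submodule F (Fin d ⊕ Fin d → F)) ≤ LinearMap.ker (f u) := by
      rw [← htopB]
      refine iSup_le fun j' r hr => LinearMap.mem_ker.2 ?_
      by_cases e : j = j'
      · subst e; exact hcon r hr
      · exact horthB j j' e u hu r hr
    exact LinearMap.mem_ker.1 (hle Submodule.mem_top)

end Cfsg.Agent.S5960
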