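import Cfsg.Statements.S5961
import Cfsg.Agent.H44.Elu.SpDecomp

set_option autoImplicit false
open scoped MatrixGroups
open Cfsg

namespace Cfsg.Agent.S5961

/-- Elements of odd prime order of PSp_n(q) and imprimitive subgroups. Here `T = PSp_n(q)`, `n = 2d ≥ 4`, `(n, q) ≠ (4, 2)`, realised through the symplectic matrices over the field `F` with `q` elements and the standard alternating form; `n = a·t` with `a` even and `t ≥ 2`, and Ω is the (nonempty) set of orthogonal decompositions of `F^n` into `t` nondegenerate subspaces of dimension `a` (unordered; counted as ordered ones divided by `t!`), whose stabilizers are the imprimitive subgroups of type Sp_a(q) ≀ S_t (maximality is not assumed); an element of `T` of prime order `r` (a symplectic matrix `x` with `x^r` scalar, `x` not scalar) fixes a point of Ω when it permutes the summands of some such decomposition. Let `r ≠ p` be an odd prime dividing the number of such decompositions, let `i` be the multiplicative order of `q`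 modulo `r`, `c = i` if `i` is even and `c = 2i` if `i` is odd, and write `k = n mod c`, `ℓ = a mod c`. Then every element of `T` of order `r` stabilizes such a decomposition if and only if `c ≤ a` and `k = t·ℓ`. -/
theorem result {F : Type*} [Field F] [Fintype F] {p : ℕ} [Fact p.Prime] [CharP F p] {q : ℕ} (hq : Fintype.card F = q)
    (d : ℕ) (hd : 2 ≤ d) (hT : (d, q) ≠ (2, 2))
    (a t : ℕ) (hat : 2 * d = a * t) (ha : 2 ≤ a) (hae : Even a) (ht : 2 ≤ t)
    (r : ℕ) [Fact r.Prime] (hr2 : r ≠ 2) (hrp : r ≠ p) (hΩ : r ∣ Nat.card {D : Fin t → Submodule F (Fin d ⊕ Fin d → F) // (Cfsg.Geo.IsMDecomposition a D ∧ (∀ j, ∀ u ∈ D j, u ≠ 0 → ∃ v ∈ D j, Cfsg.sympForm d F u v ≠ 0) ∧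
          (∀ j j', j ≠ j' → ∀ u ∈ D j, ∀ v ∈ D j', Cfsg.sympForm d F u v = 0))} / Nat.factorial t)
    (i c : ℕ) (hi : i = orderOf (q : ZMod r)) (hc : c = if Even i then i else 2 * i) :
    (∀ x : ↥(Matrix.symplecticGroup (Fin d) F),
      (∃ z : F, ((x ^ r : ↥(Matrix.symplecticGroup (Fin d) F)) : Matrix (Fin d ⊕ Fin d) (Fin d ⊕ Fin d) F) = z • (1 : Matrix (Fin d ⊕ Fin d) (Fin d ⊕ Fin d) F)) →
      (∀ z : F, (x : Matrix (Fin d ⊕ Fin d) (Fin d ⊕ Fin d) F) ≠ z • (1 : Matrix (Fin d ⊕ Fin d) (Fin d ⊕ Fin d) F)) →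
      ∃ D : Fin t → Submodule F (Fin d ⊕ Fin d → F), (Cfsg.Geo.IsMDecomposition a D ∧ (∀ j, ∀ u ∈ D j, u ≠ 0 → ∃ v ∈ D j, Cfsg.sympForm d F u v ≠ 0) ∧
          (∀ j j', j ≠ j' → ∀ u ∈ D j, ∀ v ∈ D j', Cfsg.sympForm d F u v = 0)) ∧
        ∃ σ : Equiv.Perm (Fin t), ∀ j, (D j).map (Matrix.toLin' (x : Matrix (Fin d ⊕ Fin d) (Fin d ⊕ Fin d) F)) = D (σ j)) ↔
    (c ≤ a ∧ (2 * d) % c = t * (a % c)) := by
  classical
  have hr : r.Prime := Fact.out
  have hd0 : 0 < d := by omega
  obtain ⟨b, rfl⟩ := hae.two_dvd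
  have hdbt : d = b * t := by
    have := hat
    rw [mul_assoc] at this
    omega
  have hrF := H44.Elu.cast_ne_of_ne (F := F) hrp
  have hi0 := H44.Elu.order_pos_sp hq hrp hi
  have hc0 : 0 < c := by rw [hc]; split_ifs <;> omega
  have hce : Even c := by rw [hc]; split_ifs with he; exacts [he, even_two_mul i]
  obtain ⟨hdvdG, hfac⟩ := H44.Elu.card_orth_decomp_dvd (F := F) (d := d) (b := b) (by omega) ht hdbt
  obtain ⟨n, -, hn⟩ := FiniteField.card F p
  have hG : r ∣ Nat.card (Matrix.symplecticGroup (Fin d) F) :=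
    ((hΩ.trans (Nat.div_dvd_of_dvd hfac)).trans hdvdG)
  rw [H48.card_sp, Fintype.card_fin] at hG
  obtain ⟨j, hj, hjr⟩ := H44.Elu.exists_factor hr
    (fun h => hrp ((Nat.prime_dvd_prime_iff_eq hr Fact.out).1 (hr.dvd_of_dvd_pow (hn ▸ h)))) (Y := 1) (mul_one _) hG
  rw [Finset.mem_range] at hj
  rw [hq] at hjr
  have hcn : c ≤ 2 * d := (Nat.le_of_dvd (by omega) (H44.Elu.c_dvd hq hi hc hjr)).trans (by omega)
  have hir : i ∣ r - 1 := by
    rw [hi]
    exact orderOf_dvd_of_pow_eq_one (ZMod.pow_card_sub_one_eq_one (H44.Elu.q_ne_zero_mod hrp (n := n) (by rw [← hq, hn])))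
  have hcr : c ≤ r - 1 := by
    have h1 := hr.two_le
    rw [hc]
    split_ifs with he
    · exact Nat.le_of_dvd (by omega) hir
    · refine Nat.le_of_dvd (by omega) (Nat.Coprime.mul_dvd_of_dvd_of_dvd
        (Nat.coprime_two_left.2 (Nat.not_even_iff_odd.1 he)) ?_ hir)
      have := hr.odd_of_ne_two hr2
      rw [Nat.odd_iff] at this
      omega
  constructor
  · intro h
    have facts : ∀ A, 0 < A → A * c ≤ 2 * d → ∃ (T : Module.End F (Fin d ⊕ Fin d → F))
        (D : Fin t → Submodule F (Fin d ⊕ Fin d → F)) (σ : Equiv.Perm (Fin t)), T ^ r = 1 ∧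
        Module.finrank F (LinearMap.ker (T - 1)) = 2 * d - A * c ∧
        Module.finrank F (LinearMap.range (T - 1)) = A * c ∧
        (∀ j, Module.finrank F (D j) = 2 * b) ∧ iSupIndep D ∧ (∀ j, (D j).map T = D (σ j)) ∧
        (∀ j, σ j = j → ∃ e k, e = Module.finrank F ↥(D j ⊓ LinearMap.ker (T - 1)) ∧ e + k * c = 2 * b) := by
      intro A hA hAd
      obtain ⟨V, _, _, _, B, T, hM, hs, hfix, hmov, -⟩ := H44.Elu.exists_dim_model (F := F) (d := d) hq hrp hr2 hi hc hA hAd
      obtain ⟨x, φ, hx, hφ⟩ := H44.Elu.exists_sp_elt hM (d := d) (by rw [← hs.finrank_add, hfix, hmov]; omega)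
      set X : Module.End F (Fin d ⊕ Fin d → F) := Matrix.toLin' (x : Matrix (Fin d ⊕ Fin d) (Fin d ⊕ Fin d) F) with hX
      have hXr : X ^ r = 1 := by
        have hpow : ∀ k v, (X ^ k) (φ v) = φ ((T ^ k) v) := by
          intro k
          induction k with
          | zero => intro v; rfl
          | succ k ih => intro v; rw [pow_succ', Module.End.mul_apply, ih, hx, pow_succ', Module.End.mul_apply]
        refine LinearMap.ext fun v => ?_
        obtain ⟨v, rfl⟩ := φ.surjective v
        rw [hpow, hs.pow]; rfl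
      have hxr : ((x ^ r : ↥(Matrix.symplecticGroup (Fin d) F)) : Matrix (Fin d ⊕ Fin d) (Fin d ⊕ Fin d) F) = (1 : F) • 1 := by
        rw [SubmonoidClass.coe_pow, one_smul]
        apply Matrix.toLinAlgEquiv'.injective
        rw [map_pow, map_one]
        exact hXr
      have hs' : H44.Elu.Setting (H44.Elu.sympB d F) (-1) X r :=
        ⟨H44.Elu.herm_sympB d, H44.Elu.nd_sympB d, H44.Elu.iso_sp x, hXr, hr, hrF⟩
      have hker : Module.finrank F (H44.Elu.fixS X) = 2 * d - A * c := by
        rw [show H44.Elu.fixS X = (H44.Elu.fixS T).map φ.toLinearMap from ?_, LinearEquiv.finrank_map_eq, hfix]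
        ext v
        obtain ⟨v, rfl⟩ := φ.surjective v
        rw [H44.Elu.mem_fixS, Submodule.mem_map]
        refine ⟨fun e => ⟨v, H44.Elu.mem_fixS.2 (φ.injective ((hx v).symm.trans e)), rfl⟩, ?_⟩
        rintro ⟨w, hw, hwv⟩
        rw [← φ.injective hwv, hX, hx, H44.Elu.mem_fixS.1 hw]
      have hmv : Module.finrank F (H44.Elu.movS X) = A * c := by
        have := hs'.finrank_add
        rw [H44.Elu.finrank_sympV, hker] at this
        omega
      have hns : ∀ z : F, (x : Matrix (Fin d ⊕ Fin d) (Fin d ⊕ Fin d) F) ≠ z • 1 := by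
        intro z hz
        have hzz : z * z = 1 := H44.Elu.scalar_sq (r := 1) hd0 (x := x) (by rw [pow_one]; exact hz)
        have hXz : X = z • 1 := by rw [hX, hz, map_smul, Matrix.toLin'_one]; rfl
        have hzr : z ^ r = 1 := by
          have h1 := hXr
          rw [hXz, _root_.smul_pow, one_pow] at h1
          have h2 := congrFun (LinearMap.congr_fun h1 (Pi.single (Sum.inl ⟨0, hd0⟩) 1)) (Sum.inl ⟨0, hd0⟩)
          simpa using h2
        obtain ⟨k, hk⟩ := hr.odd_of_ne_two hr2
        rw [hk, pow_succ, pow_mul, pow_two, hzz, one_pow, one_mul] at hzr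
        have h3 : H44.Elu.movS X = ⊥ := by
          show LinearMap.range (X - 1) = ⊥
          rw [hXz, hzr, one_smul, sub_self, LinearMap.range_zero]
        rw [h3, finrank_bot] at hmv
        have := Nat.mul_pos hA hc0
        omega
      obtain ⟨D, ⟨hD, hDn, -⟩, σ, hσ⟩ := h x ⟨1, hxr⟩ hns
      refine ⟨X, D, σ, hXr, hker, hmv, hD.finrank_eq, hD.indep, hσ, fun j hj => ?_⟩
      have hinv : (D j).map X ≤ D j := by rw [hσ j, hj]
      have hnd : H44.Elu.NdOn (H44.Elu.sympB d F) (D j) := fun u hu hv => by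
        by_contra h0
        obtain ⟨v, hv', hne⟩ := hDn j u hu h0
        exact hne (hv v hv')
      have hsh := H44.Elu.shape_mov_sp hq hrp hr2 hi hs'
      rw [← hc] at hsh
      obtain ⟨k, hk⟩ := hsh.nd_dvd _ (inf_le_right : D j ⊓ H44.Elu.movS X ≤ H44.Elu.movS X)
        (H44.Elu.inv_inf hinv H44.Elu.inv_movS) (hs'.split_nd hinv hnd).2
      exact ⟨_, k, rfl, by rw [mul_comm k c, ← hk]; exact (hs'.split hinv).2.trans (hD.finrank_eq j)⟩
    have hr0 : (r : F) ≠ 0 := hrF
    have hca : c ≤ 2 * b := by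
      by_contra hac
      obtain ⟨T, D, σ, hT, hker, hrange, hdim, hind, hσ, hfx⟩ := facts 1 one_pos (by omega)
      obtain ⟨hmov, -⟩ := H46.Elusive.perm_decomp_facts hr0 (by omega) D hdim hind T hT σ hσ
      have hall : ∀ j, σ j = j := fun j => by
        by_contra hj
        have h2 := (hmov j hj).2
        rw [hrange] at h2
        have := Nat.mul_le_mul_right (r - 1) (show 2 ≤ 2 * b by omega)
        omega
      have hle : ∀ j, D j ≤ LinearMap.ker (T - 1) := fun j => by
        obtain ⟨e, k, he, hek⟩ := hfx j (hall j)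
        have hk : k = 0 := by
          by_contra hk
          have := Nat.le_mul_of_pos_left c (Nat.pos_of_ne_zero hk)
          omega
        rw [hk, zero_mul, add_zero, he] at hek
        exact inf_eq_left.1 (Submodule.eq_of_le_of_finrank_eq inf_le_left (hek.trans (hdim j).symm))
      have := H46.Elusive.sum_finrank_le hind (fun j => le_refl (D j)) _ hle
      rw [Finset.sum_congr rfl (fun j _ => hdim j), Finset.sum_const, Finset.card_univ, Fintype.card_fin,
        smul_eq_mul, hker, mul_comm t, ← hat] at this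
      omega
    refine ⟨hca, ?_⟩
    obtain ⟨T, D, σ, hT, hker, -, hdim, hind, hσ, hfx⟩ := facts (2 * d / c) (Nat.div_pos hcn hc0) (Nat.div_mul_le_self _ c)
    obtain ⟨hmov, -⟩ := H46.Elusive.perm_decomp_facts hr0 (by omega) D hdim hind T hT σ hσ
    have hk0 : 2 * d - 2 * d / c * c = 2 * d % c := by
      have := Nat.mod_add_div (2 * d) c
      rw [mul_comm c] at this; omega
    rw [hk0] at hker
    have hlt : 2 * d % c < c := Nat.mod_lt _ hc0
    have hge : ∀ j, (2 * b) % c ≤ Module.finrank F ↥(D j ⊓ LinearMap.ker (T - 1)) := fun j => by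
      obtain ⟨e, k, he, hek⟩ := hfx j (by
        by_contra hj
        have := (hmov j hj).1
        omega)
      rw [← he, ← hek, Nat.add_mul_mod_self_right]
      exact Nat.mod_le _ _
    have hsum := (Finset.sum_le_sum fun j (_ : j ∈ (Finset.univ : Finset (Fin t))) => hge j).trans
      (H46.Elusive.sum_finrank_le hind (fun j => inf_le_left) _ (fun j => inf_le_right))
    rw [Finset.sum_const, Finset.card_univ, Fintype.card_fin, smul_eq_mul, hker] at hsum
    have h2 : 2 * d % c = (t * ((2 * b) % c)) % c := by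
      rw [hat, mul_comm (2 * b) t, Nat.mul_mod_mod]
    rw [h2]
    exact Nat.mod_eq_of_lt (by omega)
  · rintro ⟨hca, hk⟩ x hx -
    obtain ⟨T, hs, hTx⟩ := H44.Elu.exists_setting hr hr2 hrF hd0 hx
    have hsh := H44.Elu.shape_mov_sp hq hrp hr2 hi hs
    rw [← hc] at hsh
    obtain ⟨A, hA⟩ := hsh.nd_dvd _ le_rfl H44.Elu.inv_movS hs.nd_mov
    have hN := hs.finrank_add
    rw [H44.Elu.finrank_sympV, hA, mul_comm c A] at hN
    have hab := Nat.mod_add_div (2 * b) c
    rw [mul_comm c] at hab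
    have hn' : 2 * d = t * ((2 * b) % c) + t * (2 * b / c) * c := by
      rw [hat, mul_assoc t, ← mul_add, hab, mul_comm]
    have hlt : t * ((2 * b) % c) < c := hk ▸ Nat.mod_lt _ hc0
    have hAle : A ≤ t * (2 * b / c) := by
      by_contra hgt
      have := Nat.mul_le_mul_right c (show t * (2 * b / c) + 1 ≤ A by omega)
      rw [add_mul, one_mul] at this
      omega
    obtain ⟨U, hU⟩ := Nat.exists_eq_add_of_le hAle
    rw [hU, add_mul] at hn'
    obtain ⟨D, hD, hDo, hDs⟩ := H44.Elu.exists_orth_split hs (a := 2 * b) (l := (2 * b) % c) (Q := 2 * b / c)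
      (by
        obtain ⟨b', hb'⟩ := hce
        rw [hb', ← two_mul, Nat.mul_mod_mul_left]
        exact even_two_mul _) hce hab.symm
      (fun N hN hNi hNn k hk' => H44.Elu.mov_ndsub hq hrp hr2 hi hc hs hN hNi hNn hk')
      t U (H44.Elu.fixS T) (H44.Elu.movS T) le_rfl hs.nd_fix le_rfl H44.Elu.inv_movS hs.nd_mov (by omega)
      (by rw [hA, hU, add_mul, mul_comm c A]) (by omega)
    rw [hs.fix_sup_mov] at hDs
    refine ⟨D, ⟨⟨ht, by omega, fun j => (hD j).2.2, H44.Elu.indep_of_orth (fun j => (hD j).2.1) hDo, hDs⟩,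
      fun j u hu h0 => ?_, hDo⟩, 1, fun j => ?_⟩
    · by_contra hh
      push Not at hh
      exact h0 ((hD j).2.1 u hu hh)
    · exact Submodule.eq_of_le_of_finrank_eq (hTx _ (hD j).1)
        (Submodule.equivMapOfInjective _ ((H44.Elu.iso_sp x).injective (H44.Elu.nd_sympB d)) (D j)).finrank_eq.symm

end Cfsg.Agent.S5961
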