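import Cfsg.Statements.S5962
import Cfsg.Agent.H98.SympFrame
import Cfsg.Agent.H45.ClsSymplectic

set_option autoImplicit false
open scoped MatrixGroups
open Cfsg

namespace Cfsg.Agent.S5962

/-- Involutions of PSp_n(q), q odd, and the subgroups GL_{n/2}(q).2. Here `T = PSp_n(q)`, `n = 2d ≥ 4`, `q` odd, realised through the symplectic matrices over the field `F` with `q` elements; Ω is the set of unordered pairs `{U, W}` of complementary totally isotropic `d`-spaces (`F^n = U ⊕ W`), whose stabilizers are the subgroups of type GL_d(q).2 (maximal except in some small cases; maximality is not assumed); an element of `T` of prime order `r` (a symplectic matrix `x` with `x^r` scalar, `x` not scalar) fixes such a pair when it fixes or interchanges `U` and `W`. If the number of such pairs is even, every involution of `T` fixes one of them (the action is 2-elusive). -/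
theorem result {F : Type*} [Field F] [Fintype F] {p : ℕ} [Fact p.Prime] [CharP F p] {q : ℕ} (hq : Fintype.card F = q)
    (d : ℕ) (hd : 2 ≤ d) (hT : (d, q) ≠ (2, 2)) (hodd : Odd q)
    (hΩ : 2 ∣ Nat.card {P : Submodule F (Fin d ⊕ Fin d → F) × Submodule F (Fin d ⊕ Fin d → F) // IsCompl P.1 P.2 ∧ (∀ u ∈ P.1, ∀ v ∈ P.1, Cfsg.sympForm d F u v = 0) ∧ (∀ u ∈ P.2, ∀ v ∈ P.2, Cfsg.sympForm d F u v = 0)} / 2)
    (x : ↥(Matrix.symplecticGroup (Fin d) F))
    (hx1 : ∃ z : F, ((x ^ 2 : ↥(Matrix.symplecticGroup (Fin d) F)) : Matrix (Fin d ⊕ Fin d) (Fin d ⊕ Fin d) F) = z • (1 : Matrix (Fin d ⊕ Fin d) (Fin d ⊕ Fin d) F))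
    (hx2 : ∀ z : F, (x : Matrix (Fin d ⊕ Fin d) (Fin d ⊕ Fin d) F) ≠ z • (1 : Matrix (Fin d ⊕ Fin d) (Fin d ⊕ Fin d) F)) :
    ∃ U W : Submodule F (Fin d ⊕ Fin d → F), IsCompl U W ∧ (∀ u ∈ U, ∀ v ∈ U, Cfsg.sympForm d F u v = 0) ∧ (∀ u ∈ W, ∀ v ∈ W, Cfsg.sympForm d F u v = 0) ∧
        ((U.map (Matrix.toLin' (x : Matrix (Fin d ⊕ Fin d) (Fin d ⊕ Fin d) F)) = U ∧ W.map (Matrix.toLin' (x : Matrix (Fin d ⊕ Fin d) (Fin d ⊕ Fin d) F)) = W) ∨
         (U.map (Matrix.toLin' (x : Matrix (Fin d ⊕ Fin d) (Fin d ⊕ Fin d) F)) = W ∧ W.map (Matrix.toLin' (x : Matrix (Fin d ⊕ Fin d) (Fin d ⊕ Fin d) F)) = U)) := by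
  classical
  obtain ⟨z, hz⟩ := hx1
  have hfs := H45.isSymplecticForm_std (F := F) (m := d)
  let f : LinearMap.BilinForm F (Fin d ⊕ Fin d → F) := LinearMap.mk₂ F (Cfsg.sympForm d F)
    hfs.bilinear.add_left (fun c u v => by rw [hfs.bilinear.smul_left, smul_eq_mul]) hfs.bilinear.add_right
    (fun c u v => by rw [hfs.bilinear.smul_right, smul_eq_mul])
  have hf : ∀ u v, f u v = Cfsg.sympForm d F u v := fun u v => rfl
  set X := (x : Matrix (Fin d ⊕ Fin d) (Fin d ⊕ Fin d) F) with hX
  set T := Matrix.toLin' X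
  have hiso : ∀ u v, f (T u) (T v) = f u v := fun u v => by
    rw [hf, hf]
    have h2 : X.transpose * Matrix.J (Fin d) F * X = Matrix.J (Fin d) F :=
      SymplecticGroup.mem_iff'.1 x.2
    simp only [T, Matrix.toLin'_apply, Cfsg.sympForm]
    rw [← Matrix.vecMul_transpose X u, ← Matrix.dotProduct_mulVec, Matrix.mulVec_mulVec, Matrix.mulVec_mulVec,
      h2]
  have hTT : ∀ v, T (T v) = z • v := fun v => by
    simp only [T, Matrix.toLin'_apply, Matrix.mulVec_mulVec]
    rw [show X * X = z • 1 by rw [← hz, pow_two]; rfl, Matrix.smul_mulVec, Matrix.one_mulVec]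
  have hA : ∀ u, f u u = 0 := fun u => hfs.alternating u
  have hnd : ∀ u, u ≠ 0 → ∃ y, f u y ≠ 0 := fun u hu => (hfs.nondegenerate u hu).2
  obtain ⟨e0, he0⟩ : ∃ u : Fin d ⊕ Fin d → F, u ≠ 0 :=
    ⟨fun _ => 1, fun h => one_ne_zero (congrFun h (Sum.inl ⟨0, by omega⟩))⟩
  obtain ⟨y0, hy0⟩ := hnd e0 he0
  have hz2 : z * z = 1 := by
    have h1 := hiso (T e0) (T y0)
    rw [hTT, hTT, map_smul, map_smul, LinearMap.smul_apply, hiso, smul_eq_mul, smul_eq_mul, ← mul_assoc] at h1
    exact mul_right_cancel₀ hy0 (h1.trans (one_mul _).symm)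
  have hz0 : z ≠ 0 := left_ne_zero_of_mul_eq_one hz2
  have hinj : Function.Injective T := fun u v huv => by
    have h1 := congrArg T huv
    rw [hTT, hTT] at h1
    exact smul_right_injective _ hz0 h1
  obtain ⟨κ, hfin, v, w, π, had, hcard, hspan⟩ :=
    H98.SympFrame.exists_adapted_top hA hiso hz0 hTT hnd
  rw [Module.finrank_fintype_fun_eq_card, Fintype.card_sum, Fintype.card_fin] at hcard
  subst hq
  have h2 : (2 : F) ≠ 0 := fun h2 => by
    obtain ⟨j, hj⟩ := hodd
    have h := FiniteField.cast_card_eq_zero F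
    rw [hj, Nat.cast_add, Nat.cast_mul, Nat.cast_ofNat, h2, zero_mul, zero_add, Nat.cast_one] at h
    exact one_ne_zero h
  set U := Submodule.span F (Set.range v)
  set W := Submodule.span F (Set.range w)
  have hUW : U ⊔ W = ⊤ := by
    rw [← hspan, Set.Sum.elim_range, Submodule.span_union]
  have hUd : Module.finrank F U ≤ Fintype.card κ := finrank_range_le_card (R := F) v
  have hWd : Module.finrank F W ≤ Fintype.card κ := finrank_range_le_card (R := F) w
  have hsum := Submodule.finrank_sup_add_finrank_inf_eq U W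
  rw [hUW, finrank_top, Module.finrank_fintype_fun_eq_card, Fintype.card_sum, Fintype.card_fin] at hsum
  have hcompl : IsCompl U W :=
    ⟨disjoint_iff.2 (Submodule.finrank_eq_zero.1 (by omega)), codisjoint_iff.2 hUW⟩
  have hts : ∀ (g : κ → (Fin d ⊕ Fin d → F)), (∀ i j, f (g i) (g j) = 0) →
      ∀ u ∈ Submodule.span F (Set.range g), ∀ u' ∈ Submodule.span F (Set.range g), f u u' = 0 := by
    intro g hg u hu u' hu'
    induction hu using Submodule.span_induction with
    | mem a ha =>
      obtain ⟨i, rfl⟩ := ha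
      induction hu' using Submodule.span_induction with
      | mem b hb => obtain ⟨j, rfl⟩ := hb; exact hg i j
      | zero => simp
      | add b c _ _ hb hc => simp [hb, hc]
      | smul r b _ hb => simp [hb]
    | zero => simp
    | add b c _ _ hb hc => simp [hb, hc]
    | smul r b _ hb => simp [hb]
  have hmapto : ∀ A B : Submodule F (Fin d ⊕ Fin d → F), A.map T ≤ B →
      Module.finrank F B ≤ Module.finrank F A → A.map T = B := fun A B hle hd' =>
    Submodule.eq_of_le_of_finrank_le hle (by rwa [← (Submodule.equivMapOfInjective T hinj A).finrank_eq])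
  have himg : ∀ (g g' : κ → (Fin d ⊕ Fin d → F)), (∀ i, ∃ (c : F) (j : κ), T (g i) = c • g' j) →
      (Submodule.span F (Set.range g)).map T ≤ Submodule.span F (Set.range g') := by
    intro g g' hg
    rw [Submodule.map_span, Submodule.span_le]
    rintro _ ⟨_, ⟨i, rfl⟩, rfl⟩
    obtain ⟨c, j, h⟩ := hg i
    rw [h]
    exact Submodule.smul_mem _ _ (Submodule.subset_span ⟨j, rfl⟩)
  refine ⟨U, W, hcompl, hts v had.fvv, hts w had.fww, ?_⟩
  rcases mul_self_eq_one_iff.1 hz2 with hz1 | hz1
  · left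
    have hkind : ∀ i, ∃ c e : F, T (v i) = c • v (π i) ∧ T (w i) = e • w (π i) := by
      intro i
      rcases had.kind i with ⟨c, e, h1, h3, -⟩ | ⟨-, hne, -⟩
      · exact ⟨c, e, h1, h3⟩
      · exfalso
        apply hne
        have h1 := hiso (v i) (T (v i))
        rw [hTT, hz1, one_smul, H98.SympFrame.swap hA (v i)] at h1
        exact (mul_eq_zero.1 (show (2 : F) * f (v i) (T (v i)) = 0 by linear_combination -h1)).resolve_left h2
    refine ⟨hmapto U U (himg v v fun i => ?_) le_rfl, hmapto W W (himg w w fun i => ?_) le_rfl⟩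
    · obtain ⟨c, e, h1, -⟩ := hkind i; exact ⟨c, π i, h1⟩
    · obtain ⟨c, e, -, h3⟩ := hkind i; exact ⟨e, π i, h3⟩
  · right
    have hkind : ∀ i, ∃ c e : F, T (v i) = c • w i ∧ T (w i) = e • v i := by
      intro i
      rcases had.kind i with ⟨-, -, -, -, W', hb, hTW, hnd', hzero⟩ | ⟨-, -, c, e, h1, h3⟩
      · exfalso
        obtain ⟨u, hu, hu0⟩ := W'.exists_mem_ne_zero_of_ne_bot hb
        obtain ⟨y, hy, huy⟩ := hnd' u hu hu0
        apply huy
        -- the twisted form is symmetric
        have hsym : ∀ a b, f b (T a) = f a (T b) := fun a b => by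
          have h1 := hiso a (T b)
          rw [hTT, hz1, map_smul, smul_eq_mul, H98.SympFrame.swap hA b (T a)] at h1
          linear_combination h1
        have hall : ∀ a ∈ W', ∀ b ∈ W', f a (T b) = 0 := fun a ha b hb' => by
          have h1 := hzero (a + b) (W'.add_mem ha hb')
          simp only [map_add, LinearMap.add_apply, hzero a ha, hzero b hb', hsym a b, zero_add, add_zero] at h1
          exact (mul_eq_zero.1 (show (2 : F) * f a (T b) = 0 by linear_combination h1)).resolve_left h2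
        have h4 := hall u hu (T y) (hTW y hy)
        rw [hTT, map_smul, smul_eq_mul] at h4
        exact (mul_eq_zero.1 h4).resolve_left hz0
      · exact ⟨c, e, h1, h3⟩
    refine ⟨hmapto U W (himg v w fun i => ?_) (by omega), hmapto W U (himg w v fun i => ?_) (by omega)⟩
    · obtain ⟨c, e, h1, -⟩ := hkind i; exact ⟨c, i, h1⟩
    · obtain ⟨c, e, -, h3⟩ := hkind i; exact ⟨e, i, h3⟩

end Cfsg.Agent.S5962
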