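import Cfsg.Statements.S5964
import Cfsg.Agent.H46.ElusiveCases
import Cfsg.Agent.H46.ElusiveUnip
import Cfsg.Agent.H37.Card
import Cfsg.Agent.H42.PGLPrimeOrder
import Cfsg.Agent.H47.SubfieldConj

set_option autoImplicit false
open scoped MatrixGroups
open Cfsg

namespace Cfsg.Agent.S5964

open Module

variable {F : Type*} [Field F]

/-- A map whose matrix in some basis has entries in the subfield, compatibly with a scaling of the basis,
is conjugate in SL into the subfield group. -/
theorem conj_into {n : ℕ} (F₀ : Subfield F) (x : Matrix.SpecialLinearGroup (Fin n) F) {l : F} (hl : l ≠ 0)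
    {ι : Type*} [Fintype ι] [DecidableEq ι] (e : ι ≃ Fin n) (b : Basis ι F (Fin n → F)) (S : ι → Prop)
    [DecidablePred S]
    (hent : ∀ i j, LinearMap.toMatrix b b (l⁻¹ • Matrix.toLin' (x : Matrix (Fin n) (Fin n) F)) i j ∈ F₀)
    (hS : ∀ i j, LinearMap.toMatrix b b (l⁻¹ • Matrix.toLin' (x : Matrix (Fin n) (Fin n) F)) i j ≠ 0 → (S i ↔ S j))
    (hroot : ∀ d : F, ∃ s : F, s ^ (Finset.univ.filter fun i => S i).card = d) :
    ∃ P : Matrix.SpecialLinearGroup (Fin n) F,
      P⁻¹ * x * P ∈ ((Cfsg.Geo.subfieldSubgroup F₀ 1).comap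
        (Matrix.SpecialLinearGroup.toGL : Matrix.SpecialLinearGroup (Fin n) F →* GL (Fin n) F)) := by
  classical
  set T := Matrix.toLin' (x : Matrix (Fin n) (Fin n) F) with hTdef
  set B₀ := (Pi.basisFun F (Fin n)).toMatrix (b.reindex e) with hB₀
  have hB₀d : B₀.det ≠ 0 := by
    intro h
    have h1 := congrArg Matrix.det ((Pi.basisFun F (Fin n)).toMatrix_mul_toMatrix_flip (b.reindex e))
    rw [Matrix.det_mul, ← hB₀, h, zero_mul, Matrix.det_one] at h1
    exact zero_ne_one h1
  obtain ⟨s, hs⟩ := hroot B₀.det⁻¹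
  obtain ⟨s, hs, hs0⟩ : ∃ s : F, s ^ (Finset.univ.filter fun i => S i).card = B₀.det⁻¹ ∧ s ≠ 0 := by
    by_cases hcard : (Finset.univ.filter fun i => S i).card = 0
    · exact ⟨1, by rw [← hs, hcard, pow_zero, pow_zero], one_ne_zero⟩
    · refine ⟨s, hs, ?_⟩
      rintro rfl
      rw [zero_pow hcard] at hs
      exact inv_ne_zero hB₀d hs.symm
  have hxT : LinearMap.toMatrix (Pi.basisFun F (Fin n)) (Pi.basisFun F (Fin n)) T = (x : Matrix (Fin n) (Fin n) F) := by
    rw [hTdef, LinearMap.toMatrix_eq_toMatrix', LinearMap.toMatrix'_toLin']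
  let D : Matrix (Fin n) (Fin n) F := Matrix.diagonal fun i => if S (e.symm i) then s else 1
  have hDd : D.det = B₀.det⁻¹ := by
    rw [Matrix.det_diagonal, Equiv.prod_comp e.symm (fun i => if S i then s else 1), Finset.prod_ite,
      Finset.prod_const, Finset.prod_const_one, mul_one, hs]
  have hPd : (B₀ * D).det = 1 := by rw [Matrix.det_mul, hDd, mul_inv_cancel₀ hB₀d]
  refine ⟨⟨B₀ * D, hPd⟩, ?_⟩
  set P : Matrix.SpecialLinearGroup (Fin n) F := ⟨B₀ * D, hPd⟩
  set M := LinearMap.toMatrix (b.reindex e) (b.reindex e) (l⁻¹ • T) with hM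
  have hMeq : ∀ i j, M i j = LinearMap.toMatrix b b (l⁻¹ • T) (e.symm i) (e.symm j) := fun i j => by
    rw [hM, LinearMap.toMatrix_apply, Basis.repr_reindex_apply, Basis.reindex_apply, ← LinearMap.toMatrix_apply]
  have hMe : ∀ i j, M i j ∈ F₀ := fun i j => hMeq i j ▸ hent _ _
  have hMD : M * D = D * M := by
    ext i j
    rw [Matrix.mul_diagonal, Matrix.diagonal_mul]
    by_cases h0 : M i j = 0
    · rw [h0, zero_mul, mul_zero]
    · rw [hMeq] at h0
      rw [mul_comm]
      simp only [hS _ _ h0]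
  have hxP : (x : Matrix (Fin n) (Fin n) F) * B₀ = B₀ * (l • M) := by
    rw [Matrix.mul_smul, hM, hB₀, basis_toMatrix_mul_linearMap_toMatrix, map_smul, smul_smul,
      mul_inv_cancel₀ hl, one_smul]
    rw [← hxT, linearMap_toMatrix_mul_basis_toMatrix]
  have hxBD : (x : Matrix (Fin n) (Fin n) F) * (B₀ * D) = B₀ * D * (l • M) := by
    rw [← Matrix.mul_assoc, hxP, Matrix.mul_assoc, Matrix.smul_mul, hMD, ← Matrix.mul_smul, ← Matrix.mul_assoc]
  let M₀ : Matrix (Fin n) (Fin n) F₀ := fun i j => ⟨M i j, hMe i j⟩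
  have hMd : M.det ≠ 0 := by
    intro h
    have := congrArg Matrix.det hxP
    rw [Matrix.det_mul, Matrix.det_mul, Matrix.det_smul, h, mul_zero, mul_zero,
      Matrix.SpecialLinearGroup.det_coe, one_mul] at this
    exact hB₀d this
  refine H47.mem_subfieldSubgroup_of_matrix (c := l) M₀ (fun h => hMd (by
    have : M₀.map F₀.subtype = M := rfl
    rw [← this, ← RingHom.mapMatrix_apply, ← RingHom.map_det, h, map_zero])) hl ?_
  show ((P⁻¹ * x * P : Matrix.SpecialLinearGroup (Fin n) F) : Matrix (Fin n) (Fin n) F) = l • M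
  rw [Matrix.SpecialLinearGroup.coe_mul, Matrix.SpecialLinearGroup.coe_mul, Matrix.mul_assoc]
  show _ * ((x : Matrix (Fin n) (Fin n) F) * (B₀ * D)) = _
  rw [hxBD, ← Matrix.mul_assoc,
    show ((P⁻¹ : Matrix.SpecialLinearGroup (Fin n) F) : Matrix (Fin n) (Fin n) F) * (B₀ * D) =
    ((P⁻¹ * P : Matrix.SpecialLinearGroup (Fin n) F) : Matrix (Fin n) (Fin n) F) from rfl, inv_mul_cancel,
    Matrix.SpecialLinearGroup.coe_one, Matrix.one_mul]

/-- Ratio of the orders of the special linear groups over a field and a subfield of odd degree. -/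
theorem odd_index {F : Type*} [Field F] [Fintype F] (n : ℕ) (hn : 1 ≤ n) (F₀ : Subfield F) (k q₀ : ℕ)
    (hk : Odd k) (hF₀ : Nat.card ↥F₀ = q₀) (hqk : Fintype.card F = q₀ ^ k) (hodd : Odd (Fintype.card F)) :
    ¬ 2 ∣ ((Cfsg.Geo.subfieldSubgroup F₀ 1).comap (Matrix.SpecialLinearGroup.toGL :
      Matrix.SpecialLinearGroup (Fin n) F →* GL (Fin n) F)).index := by
  classical
  haveI : Fintype ↥F₀ := Fintype.ofFinite _
  let ι₀ : Matrix.SpecialLinearGroup (Fin n) ↥F₀ →* Matrix.SpecialLinearGroup (Fin n) F :=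
    Matrix.SpecialLinearGroup.map F₀.subtype
  have hinj : Function.Injective ι₀ := fun a b h => Subtype.ext (Matrix.map_injective Subtype.val_injective
    (congrArg Subtype.val h : (a : Matrix (Fin n) (Fin n) ↥F₀).map F₀.subtype = (b : Matrix (Fin n) (Fin n) ↥F₀).map F₀.subtype))
  have hle : ι₀.range ≤ (Cfsg.Geo.subfieldSubgroup F₀ 1).comap (Matrix.SpecialLinearGroup.toGL :
      Matrix.SpecialLinearGroup (Fin n) F →* GL (Fin n) F) := by
    rintro _ ⟨g, rfl⟩
    exact H47.mem_subfieldSubgroup_of_matrix (c := 1) (g : Matrix (Fin n) (Fin n) ↥F₀)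
      (by rw [Matrix.SpecialLinearGroup.det_coe]; exact one_ne_zero) one_ne_zero (by rw [one_smul]; rfl)
  intro h2
  have h3 : 2 ∣ ι₀.range.index := h2.trans (Subgroup.index_dvd_of_le hle)
  have hA := H37.card_SL_fin (F := F) n hn
  have hB := H37.card_SL_fin (F := ↥F₀) n hn
  rw [Nat.card_eq_fintype_card (α := F), hqk] at hA
  rw [hF₀] at hB
  have hidx := Subgroup.card_mul_index ι₀.range
  rw [← Nat.card_congr (MonoidHom.ofInjective hinj).toEquiv] at hidx
  have hq1 : 1 < q₀ := hF₀ ▸ Nat.card_eq_fintype_card (α := ↥F₀) ▸ Fintype.one_lt_card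
  have hq0 : Odd q₀ := Nat.Odd.of_mul_left (n := q₀ ^ (k - 1)) (by
    rw [← pow_succ', Nat.sub_add_cancel hk.pos, ← hqk]; exact hodd)
  -- compare the two products
  have key : ∀ N M : ℕ, N ≤ n → M < N → ∃ o, Odd o ∧
      (q₀ ^ k) ^ N - (q₀ ^ k) ^ M = o * (q₀ ^ N - q₀ ^ M) := by
    intro N M _ hMN
    refine ⟨q₀ ^ ((k - 1) * M) * ∑ i ∈ Finset.range k, (q₀ ^ (N - M)) ^ i, Odd.mul hq0.pow ?_, ?_⟩
    · rw [Finset.odd_sum_iff_odd_card_odd, Finset.filter_true_of_mem fun i _ => hq0.pow.pow, Finset.card_range]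
      exact hk
    · have hg : (∑ i ∈ Finset.range k, (q₀ ^ (N - M)) ^ i) * (q₀ ^ (N - M) - 1) = (q₀ ^ (N - M)) ^ k - 1 :=
        geom_sum_mul_of_one_le (Nat.one_le_pow _ _ (by omega)) k
      have e1 : q₀ ^ N - q₀ ^ M = q₀ ^ M * (q₀ ^ (N - M) - 1) := by
        rw [Nat.mul_sub, mul_one, ← pow_add, Nat.add_sub_cancel' hMN.le]
      have e2 : (q₀ ^ k) ^ N - (q₀ ^ k) ^ M = (q₀ ^ k) ^ M * ((q₀ ^ (N - M)) ^ k - 1) := by
        rw [Nat.mul_sub, mul_one, ← pow_mul q₀ (N - M), mul_comm (N - M) k, pow_mul q₀ k, ← pow_add,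
          Nat.add_sub_cancel' hMN.le]
      rw [e1, e2, ← hg]
      rw [show (q₀ ^ k) ^ M = q₀ ^ ((k - 1) * M) * q₀ ^ M by
        rw [← pow_mul, ← pow_add]; congr 1; rw [← Nat.succ_mul, Nat.succ_eq_add_one, Nat.sub_add_cancel hk.pos]]
      ring
  choose o ho hoeq using fun i : Fin n => key n i le_rfl i.2
  rw [Finset.prod_congr rfl (fun i _ => hoeq i), Finset.prod_mul_distrib, ← hB] at hA
  have hodd1 : Odd (∏ i, o i) := by
    refine Finset.prod_induction _ Odd (fun a b => Odd.mul) odd_one fun i _ => ho i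
  have hoS : Odd (∑ i ∈ Finset.range k, q₀ ^ i) := by
    rw [Finset.odd_sum_iff_odd_card_odd, Finset.filter_true_of_mem fun i _ => hq0.pow, Finset.card_range]
    exact hk
  have hS := geom_sum_mul_of_one_le (show 1 ≤ q₀ by omega) k
  rw [← hS, ← hidx] at hA
  have h4 : (∑ i ∈ Finset.range k, q₀ ^ i) * ι₀.range.index = ∏ i, o i := by
    have hpos : 0 < (q₀ - 1) * Nat.card (Matrix.SpecialLinearGroup (Fin n) ↥F₀) :=
      Nat.mul_pos (Nat.sub_pos_of_lt hq1) Nat.card_pos
    refine Nat.eq_of_mul_eq_mul_right hpos ?_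
    calc (∑ i ∈ Finset.range k, q₀ ^ i) * ι₀.range.index * ((q₀ - 1) * Nat.card (Matrix.SpecialLinearGroup (Fin n) ↥F₀))
        = (∑ i ∈ Finset.range k, q₀ ^ i) * (q₀ - 1) * (Nat.card (Matrix.SpecialLinearGroup (Fin n) ↥F₀) * ι₀.range.index) := by ring
      _ = _ := hA
  exact (Nat.not_even_iff_odd.2 hodd1) (even_iff_two_dvd.2 (h4 ▸ Dvd.dvd.mul_left h3 _))


/-- Involutions of PSL_n(q) and subfield subgroups. Here `T = PSL_n(F)` for a field `F` with `q = p^f` elements (`n ≥ 2`, `(n, q) ≠ (2, 2), (2, 3)`), `F₀` is the subfield with `q₀` elements where `q = q₀^k` for a prime `k`, and `H` is the subgroup of matrices of determinant 1 lying in the subfield group of `F₀` (invertible matrices over `F₀` times scalars) — a maximal subgroup of type GL_n(q₀) (the case `n = 2`, `q₀ = 2` is excluded); Ω is the set of `T`-conjugates of `H` (cosets of `H`), so an element of `T` of prime order `r` (a matrix `x` of determinant 1 with `x^r` scalar, `x` not scalar) fixes a point of Ω when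 some conjugate of `x` by a matrix of determinant 1 lies in `H`. Suppose the index of `H` is even. Then every involution of `T` is conjugate in `T` into `H` if and only if either `q` is even, or `k = 2` and `(n)_2 ≤ (q − 1)_2`. (For `q` odd and `k` odd the index of `H` is odd, so that case does not arise.) -/
theorem result {F : Type*} [Field F] [Fintype F] {p : ℕ} [Fact p.Prime] [CharP F p] {q : ℕ} (hq : Fintype.card F = q)
    (n : ℕ) (hn : 2 ≤ n) (hT : (n, q) ≠ (2, 2) ∧ (n, q) ≠ (2, 3))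
    (F₀ : Subfield F) (k q₀ : ℕ) (hk : k.Prime) (hF₀ : Nat.card ↥F₀ = q₀) (hqk : q = q₀ ^ k) (hC5 : ¬ (n = 2 ∧ q₀ = 2)) (hΩ : 2 ∣ ((Cfsg.Geo.subfieldSubgroup F₀ 1).comap (Matrix.SpecialLinearGroup.toGL : Matrix.SpecialLinearGroup (Fin n) F →* GL (Fin n) F)).index) :
    (∀ x : Matrix.SpecialLinearGroup (Fin n) F,
      (∃ z : F, ((x ^ 2 : Matrix.SpecialLinearGroup (Fin n) F) : Matrix (Fin n) (Fin n) F) = z • (1 : Matrix (Fin n) (Fin n) F)) →
      (∀ z : F, (x : Matrix (Fin n) (Fin n) F) ≠ z • (1 : Matrix (Fin n) (Fin n) F)) →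
      ∃ P : Matrix.SpecialLinearGroup (Fin n) F, P⁻¹ * x * P ∈ ((Cfsg.Geo.subfieldSubgroup F₀ 1).comap (Matrix.SpecialLinearGroup.toGL : Matrix.SpecialLinearGroup (Fin n) F →* GL (Fin n) F))) ↔
    (Odd q → (k = 2 ∧ padicValNat 2 n ≤ padicValNat 2 (q - 1))) := by
  classical
  subst hq
  have hp := (Fact.out : p.Prime)
  haveI : Nonempty (Fin n) := ⟨⟨0, by omega⟩⟩
  by_cases hodd : Odd (Fintype.card F)
  · rcases hk.eq_two_or_odd' with hk2 | hkodd
    swap
    · exact absurd hΩ (odd_index n (by omega) F₀ k q₀ hkodd hF₀ hqk hodd)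
    subst hk2
    have hq0 : Odd q₀ := by rw [hqk, Nat.odd_pow_iff two_ne_zero] at hodd; exact hodd
    have h4 : Fintype.card F % 4 = 1 := by
      obtain ⟨j, rfl⟩ := hq0
      rw [hqk, show (2 * j + 1) ^ 2 = 4 * (j * j + j) + 1 by ring]
      omega
    have h21 : (2 : ℕ) ∣ Fintype.card F - 1 := by omega
    have hchar : ringChar F ≠ 2 := fun h => by
      have := FiniteField.even_card_of_char_two h
      rw [Nat.odd_iff] at hodd; omega
    haveI : Fintype ↥F₀ := Fintype.ofFinite _
    -- elements of the subfield are squares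
    have hsq : ∀ a : F, a ∈ F₀ → IsSquare a := by
      intro a ha
      by_cases ha0 : a = 0
      · exact ⟨0, by rw [ha0, mul_zero]⟩
      rw [FiniteField.isSquare_iff hchar ha0]
      have h1 : a ^ (q₀ - 1) = 1 := by
        have := FiniteField.pow_card_sub_one_eq_one (⟨a, ha⟩ : ↥F₀) (fun h => ha0 (congrArg Subtype.val h))
        rw [← Nat.card_eq_fintype_card, hF₀] at this
        exact congrArg Subtype.val this
      obtain ⟨j, rfl⟩ := hq0
      rw [hqk, show (2 * j + 1) ^ 2 / 2 = (2 * j + 1 - 1) * (j + 1) by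
        rw [show (2 * j + 1) ^ 2 = 2 * (2 * j * (j + 1)) + 1 by ring, Nat.add_sub_cancel]; omega,
        pow_mul, h1, one_pow]
    have hnocon : ∀ (x : Matrix.SpecialLinearGroup (Fin n) F) (z : F), (∀ b : F, b ^ 2 ≠ z) →
        ((x ^ 2 : Matrix.SpecialLinearGroup (Fin n) F) : Matrix (Fin n) (Fin n) F) = z • (1 : Matrix (Fin n) (Fin n) F) →
        ∀ P : Matrix.SpecialLinearGroup (Fin n) F, P⁻¹ * x * P ∉ ((Cfsg.Geo.subfieldSubgroup F₀ 1).comap
          (Matrix.SpecialLinearGroup.toGL : Matrix.SpecialLinearGroup (Fin n) F →* GL (Fin n) F)) := by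
      intro x z hz hx P hP
      obtain ⟨g₀, μ, hg⟩ := H47.mem_subfieldSubgroup_one.1 hP
      have hg' : ((P⁻¹ * x * P : Matrix.SpecialLinearGroup (Fin n) F) : Matrix (Fin n) (Fin n) F) =
          (μ : F) • (g₀ : Matrix (Fin n) (Fin n) ↥F₀).map F₀.subtype := hg
      have h2 : (μ : F) ^ 2 • ((g₀ : Matrix (Fin n) (Fin n) ↥F₀) ^ 2).map F₀.subtype =
          z • (1 : Matrix (Fin n) (Fin n) F) := by
        rw [← RingHom.mapMatrix_apply, map_pow, RingHom.mapMatrix_apply, ← _root_.smul_pow, ← hg',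
          ← Matrix.SpecialLinearGroup.coe_pow,
          show (P⁻¹ * x * P) ^ 2 = P⁻¹ * x ^ 2 * P by rw [pow_two, pow_two]; group,
          Matrix.SpecialLinearGroup.coe_mul, Matrix.SpecialLinearGroup.coe_mul, hx, Matrix.mul_smul,
          Matrix.mul_one, Matrix.smul_mul, ← Matrix.SpecialLinearGroup.coe_mul, inv_mul_cancel,
          Matrix.SpecialLinearGroup.coe_one]
      have i : Fin n := ⟨0, by omega⟩
      have h3 := congrFun (congrFun h2 i) i
      rw [Matrix.smul_apply, Matrix.smul_apply, Matrix.one_apply_eq, smul_eq_mul, smul_eq_mul, mul_one] at h3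
      obtain ⟨u, hu⟩ := hsq _ (((g₀ : Matrix (Fin n) (Fin n) ↥F₀) ^ 2) i i).2
      refine hz ((μ : F) * u) ?_
      rw [← h3, mul_pow, pow_two u, ← hu]
      rfl
    constructor
    · intro h _
      refine ⟨rfl, ?_⟩
      by_contra hcon
      obtain ⟨x, c, hc, hxr, hxs⟩ := H46.Elusive.exists_nonpower_element (F := F) (r := 2) h21 (n := n)
        (by omega) (fun h' => hcon h'.1)
      obtain ⟨P, hP⟩ := h x ⟨c, hxr⟩ hxs
      exact hnocon x c hc hxr P hP
    · intro h x ⟨z, hxr⟩ _
      have hv := (h hodd).2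
      have hT := H46.Elusive.toLin'_pow_eq x hxr
      have hdet : LinearMap.det (Matrix.toLin' (x : Matrix (Fin n) (Fin n) F)) = 1 := by
        rw [LinearMap.det_toLin', Matrix.SpecialLinearGroup.det_coe]
      have hz0 : z ≠ 0 := by
        rintro rfl
        have h1 := congrArg Matrix.det hxr
        rw [Matrix.SpecialLinearGroup.det_coe, zero_smul, Matrix.det_zero] at h1
        exact one_ne_zero h1
      obtain ⟨c, hc⟩ : ∃ c : F, c ^ 2 = z := by
        by_contra hne
        push Not at hne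
        obtain ⟨k, hk, hdet'⟩ := H46.Elusive.det_of_nonpower (r := 2) hne hT
        rw [Module.finrank_fin_fun] at hk
        rw [hdet] at hdet'
        exact H46.Elusive.no_det_one h21 (by omega) hk hv (fun _ _ => h4) hne hdet'.symm
      have hc0 : c ≠ 0 := by rintro rfl; exact hz0 (by rw [← hc]; ring)
      let g : GL (Fin n) F := Matrix.GeneralLinearGroup.mkOfDetNeZero (c⁻¹ • (x : Matrix (Fin n) (Fin n) F))
        (by rw [Matrix.det_smul, Matrix.SpecialLinearGroup.det_coe, mul_one]; exact pow_ne_zero _ (inv_ne_zero hc0))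
      have hg : g ^ 2 = 1 := by
        apply Units.ext
        rw [Units.val_pow_eq_pow_val, Units.val_one]
        show (c⁻¹ • (x : Matrix (Fin n) (Fin n) F)) ^ 2 = 1
        rw [_root_.smul_pow, ← Matrix.SpecialLinearGroup.coe_pow, hxr, smul_smul, inv_pow, hc,
          inv_mul_cancel₀ hz0, one_smul]
      obtain ⟨Q, f, hQf⟩ := H42.exists_diagonalize Nat.prime_two h21 g hg
      have hQu : IsUnit (Q : Matrix (Fin n) (Fin n) F) := Q.isUnit
      let b : Module.Basis (Fin n) F (Fin n → F) :=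
        (Pi.basisFun F (Fin n)).map (Matrix.toLinearEquiv' (Q : Matrix (Fin n) (Fin n) F) hQu.invertible)
      have hM : LinearMap.toMatrix b b (c⁻¹ • Matrix.toLin' (x : Matrix (Fin n) (Fin n) F)) =
          Matrix.diagonal fun i => ((f i : Fˣ) : F) := by
        refine Matrix.ext fun i j => ?_
        rw [LinearMap.toMatrix_apply]
        have hbj : (c⁻¹ • Matrix.toLin' (x : Matrix (Fin n) (Fin n) F)) (b j) = ((f j : Fˣ) : F) • b j := by
          have hgQ : (c⁻¹ • (x : Matrix (Fin n) (Fin n) F)) * (Q : Matrix (Fin n) (Fin n) F) =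
              (Q : Matrix (Fin n) (Fin n) F) * Matrix.diagonal fun i => ((f i : Fˣ) : F) := by
            have h1 : g * Q = Q * H42.diagGL (fun i => (f i : Fˣ)) := by rw [hQf, inv_mul_cancel_right]
            exact congrArg Units.val h1
          show c⁻¹ • (x : Matrix (Fin n) (Fin n) F).mulVec ((Q : Matrix (Fin n) (Fin n) F).mulVec (Pi.basisFun F (Fin n) j)) =
            ((f j : Fˣ) : F) • (Q : Matrix (Fin n) (Fin n) F).mulVec (Pi.basisFun F (Fin n) j)
          rw [Matrix.mulVec_mulVec, ← Matrix.smul_mulVec, ← Matrix.smul_mul, hgQ, ← Matrix.mulVec_mulVec,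
            ← Matrix.mulVec_smul]
          congr 1
          rw [Pi.basisFun_apply]
          ext i
          rw [Matrix.mulVec_diagonal, Pi.smul_apply, smul_eq_mul]
          by_cases hij : i = j
          · rw [hij]
          · simp [hij]
        rw [hbj, map_smul, Module.Basis.repr_self, Finsupp.smul_apply, Finsupp.single_apply, Matrix.diagonal_apply]
        by_cases hij : i = j
        · subst hij; simp
        · rw [if_neg (Ne.symm hij), if_neg hij, smul_zero]
      have hf : ∀ i, ((f i : Fˣ) : F) ∈ F₀ := by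
        intro i
        have h1 : ((f i : Fˣ) : F) ^ 2 = 1 := by
          rw [← Units.val_pow_eq_pow_val, (mem_rootsOfUnity 2 _).1 (f i).2, Units.val_one]
        rcases sq_eq_one_iff.1 h1 with h | h <;> rw [h]
        · exact F₀.one_mem
        · exact F₀.neg_mem F₀.one_mem
      refine conj_into F₀ x hc0 (Equiv.refl _) b (fun i => i = ⟨0, by omega⟩) (fun i j => ?_) (fun i j hne => ?_) ?_
      · rw [hM, Matrix.diagonal_apply]
        split_ifs
        · exact hf i
        · exact F₀.zero_mem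
      · rw [hM, Matrix.diagonal_apply] at hne
        rw [show i = j by by_contra hij; exact hne (if_neg hij)]
      · intro d
        refine ⟨d, ?_⟩
        rw [Finset.card_eq_one.2 ⟨(⟨0, by omega⟩ : Fin n), by ext; simp⟩, pow_one]
  · refine iff_of_true (fun x ⟨z, hxr⟩ _ => ?_) (fun h => absurd h hodd)
    have hp2 : p = 2 := by
      by_contra hne
      obtain ⟨k', -, hk'⟩ := FiniteField.card F p
      exact hodd (hk' ▸ (hp.odd_of_ne_two hne).pow)
    subst hp2
    have hT := H46.Elusive.toLin'_pow_eq x hxr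
    obtain ⟨c, hc⟩ := H46.Elusive.exists_pow_char (F := F) 2 z
    have hz0 : z ≠ 0 := by
      rintro rfl
      have h1 := congrArg Matrix.det hxr
      rw [Matrix.SpecialLinearGroup.det_coe, zero_smul, Matrix.det_zero] at h1
      exact one_ne_zero h1
    have hc0 : c ≠ 0 := by rintro rfl; exact hz0 (by rw [← hc]; ring)
    set N : Module.End F (Fin n → F) := c⁻¹ • Matrix.toLin' (x : Matrix (Fin n) (Fin n) F) - 1 with hNdef
    have hN : N ^ 2 = 0 := by
      rw [hNdef, H46.Elusive.sub_one_pow_char (by omega), _root_.smul_pow, hT, smul_smul, inv_pow, hc,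
        inv_mul_cancel₀ hz0, one_smul, sub_self]
    obtain ⟨S, _, _, sz, b, hb⟩ := H47.exists_jordan_chains _ N ⟨2, hN⟩ rfl
    have hT' : c⁻¹ • Matrix.toLin' (x : Matrix (Fin n) (Fin n) F) = 1 + N := by rw [hNdef, add_sub_cancel]
    obtain ⟨i₀⟩ : Nonempty S := by
      have := Module.finrank_eq_card_basis b
      rw [Module.finrank_fin_fun] at this
      haveI : Nonempty (Σ i : S, Fin (sz i + 1)) := Fintype.card_pos_iff.1 (by omega)
      exact ⟨(Classical.arbitrary (Σ i : S, Fin (sz i + 1))).1⟩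
    have hent : ∀ u v, LinearMap.toMatrix b b (c⁻¹ • Matrix.toLin' (x : Matrix (Fin n) (Fin n) F)) u v ∈ F₀ ∧
        (LinearMap.toMatrix b b (c⁻¹ • Matrix.toLin' (x : Matrix (Fin n) (Fin n) F)) u v ≠ 0 → u.1 = v.1) := by
      intro u v
      obtain ⟨i, j⟩ := v
      rw [hT', map_add, Matrix.add_apply, LinearMap.toMatrix_apply, LinearMap.toMatrix_apply, hb,
        Module.End.one_apply, Module.Basis.repr_self]
      refine ⟨F₀.add_mem ?_ ?_, fun hne => ?_⟩
      · rw [Finsupp.single_apply]; split_ifs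
        · exact F₀.one_mem
        · exact F₀.zero_mem
      · split_ifs with hl
        · rw [Module.Basis.repr_self, Finsupp.single_apply]; split_ifs
          · exact F₀.one_mem
          · exact F₀.zero_mem
        · rw [map_zero]; exact F₀.zero_mem
      · by_contra hne'
        refine hne ?_
        rw [Finsupp.single_apply, if_neg (fun h => hne' (congrArg Sigma.fst h).symm), zero_add]
        split_ifs with hl
        · rw [Module.Basis.repr_self, Finsupp.single_apply]
          exact if_neg (show ¬ ((⟨i, ⟨(j : ℕ) + 1, hl⟩⟩ : Σ i : S, Fin (sz i + 1)) = u) from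
            fun h => hne' (congrArg Sigma.fst h).symm)
        · simp
    refine conj_into F₀ x hc0 (Fintype.equivFinOfCardEq (by
        rw [← Module.finrank_eq_card_basis b, Module.finrank_fin_fun])) b (fun u => u.1 = i₀)
      (fun u v => (hent u v).1) (fun u v hne => by rw [(hent u v).2 hne]) (fun d => ?_)
    have hcard : (Finset.univ.filter fun u : Σ i : S, Fin (sz i + 1) => u.1 = i₀).card = sz i₀ + 1 := by
      rw [← Fintype.card_subtype, ← Nat.card_eq_fintype_card, Nat.card_congr (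
        { toFun := fun u => ⟨u.1.2, by have := u.2; have := u.1.2.2; obtain ⟨⟨i, j⟩, h⟩ := u; cases h; exact j.2⟩
          invFun := fun j => ⟨⟨i₀, j⟩, rfl⟩
          left_inv := fun u => by obtain ⟨⟨i, j⟩, h⟩ := u; cases h; rfl
          right_inv := fun j => rfl } : {u : Σ i : S, Fin (sz i + 1) // u.1 = i₀} ≃ Fin (sz i₀ + 1)), Nat.card_fin]
    rw [hcard]
    have hle : sz i₀ < 2 := H46.Elusive.Chains.size_lt hb hN i₀
    rcases (show sz i₀ = 0 ∨ sz i₀ = 1 by omega) with h | h <;> rw [h]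
    · exact ⟨d, pow_one d⟩
    · exact H46.Elusive.exists_pow_char 2 d

end Cfsg.Agent.S5964
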