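import Cfsg.Statements.S5965
import Cfsg.Agent.H46.ElusiveCases
import Cfsg.Agent.H37.Card
import Cfsg.Agent.H40.SemisimpleClasses
import Cfsg.Agent.H42.PGLPrimeOrder
import Cfsg.Agent.H47.SubfieldConj

set_option autoImplicit false
open scoped MatrixGroups
open Cfsg

namespace Cfsg.Agent.S5965

open Module Polynomial

section field

variable {F : Type*} [Field F]

/-- The group of the statement. -/
abbrev subSL (n : ℕ) (F₀ : Subfield F) : Subgroup (Matrix.SpecialLinearGroup (Fin n) F) :=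
  (Cfsg.Geo.subfieldSubgroup F₀ 1).comap
    (Matrix.SpecialLinearGroup.toGL : Matrix.SpecialLinearGroup (Fin n) F →* GL (Fin n) F)

/-- The condition of the statement. -/
def AllConj (n r : ℕ) (F₀ : Subfield F) : Prop :=
  ∀ x : Matrix.SpecialLinearGroup (Fin n) F,
    (∃ z : F, ((x ^ r : Matrix.SpecialLinearGroup (Fin n) F) : Matrix (Fin n) (Fin n) F) =
      z • (1 : Matrix (Fin n) (Fin n) F)) →
    (∀ z : F, (x : Matrix (Fin n) (Fin n) F) ≠ z • (1 : Matrix (Fin n) (Fin n) F)) →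
    ∃ P : Matrix.SpecialLinearGroup (Fin n) F, P⁻¹ * x * P ∈ subSL n F₀

/-- A semisimple scaling with characteristic polynomial over the subfield gives a conjugate in the group. -/
theorem conj_of_charpoly [Finite F] {n : ℕ} (hn : 1 ≤ n) (F₀ : Subfield F)
    (x : Matrix.SpecialLinearGroup (Fin n) F) {l : F} (hl : l ≠ 0)
    (hN : ∃ m : ℕ, (m : F) ≠ 0 ∧ (l⁻¹ • (x : Matrix (Fin n) (Fin n) F)) ^ m = 1)
    (hc : ∀ i, (l⁻¹ • (x : Matrix (Fin n) (Fin n) F)).charpoly.coeff i ∈ F₀) :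
    ∃ P : Matrix.SpecialLinearGroup (Fin n) F, P⁻¹ * x * P ∈ subSL n F₀ := by
  classical
  set N := l⁻¹ • (x : Matrix (Fin n) (Fin n) F) with hNdef
  have hlift : N.charpoly ∈ Polynomial.lifts F₀.subtype :=
    (Polynomial.lifts_iff_coeff_lifts _).2 fun i => ⟨⟨_, hc i⟩, rfl⟩
  obtain ⟨P₀, hP₀, hdeg, hmon⟩ := Polynomial.lifts_and_natDegree_eq_and_monic hlift N.charpoly_monic
  rw [Matrix.charpoly_natDegree_eq_dim, Fintype.card_fin] at hdeg
  have hNd : N.det ≠ 0 := by
    rw [hNdef, Matrix.det_smul, Matrix.SpecialLinearGroup.det_coe, mul_one]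
    exact pow_ne_zero _ (inv_ne_zero hl)
  have h0 : P₀.coeff 0 ≠ 0 := by
    intro h
    have h1 : N.charpoly.coeff 0 = 0 := by rw [← hP₀, Polynomial.coeff_map, h, map_zero]
    exact hNd (by rw [Matrix.det_eq_sign_charpoly_coeff, h1, mul_zero])
  obtain ⟨A, hA, hAd, m, hm, hAm⟩ := H40.exists_matrix_with_charpoly P₀ hmon hdeg h0
  set B := A.map F₀.subtype with hBdef
  have hB : ∃ m : ℕ, (m : F) ≠ 0 ∧ B ^ m = 1 := by
    refine ⟨m, fun h => hm ?_, ?_⟩
    · exact Subtype.ext (by simpa using h)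
    · rw [hBdef, ← RingHom.mapMatrix_apply, ← map_pow, hAm, map_one]
  obtain ⟨C, hC, hCN⟩ := H40.exists_conj_matrix hN hB (by rw [hBdef, Matrix.charpoly_map, hA, hP₀])
  obtain ⟨D, hD, hDN⟩ := H40.exists_commuting_det_matrix hn hN (inv_ne_zero hC)
  let c : Matrix.SpecialLinearGroup (Fin n) F :=
    ⟨C * D, by rw [Matrix.det_mul, hD, mul_inv_cancel₀ hC]⟩
  refine ⟨c⁻¹, H47.mem_subfieldSubgroup_of_matrix (c := l) A hAd hl ?_⟩
  show (((c⁻¹)⁻¹ * x * c⁻¹ : Matrix.SpecialLinearGroup (Fin n) F) : Matrix (Fin n) (Fin n) F) = l • B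
  rw [inv_inv, Matrix.SpecialLinearGroup.coe_mul, Matrix.SpecialLinearGroup.coe_mul]
  have h1 : C * D * N = B * (C * D) := by
    rw [Matrix.mul_assoc, ← hDN, ← Matrix.mul_assoc, hCN, Matrix.mul_assoc]
  have hx : (x : Matrix (Fin n) (Fin n) F) = l • N := by
    rw [hNdef, smul_smul, mul_inv_cancel₀ hl, one_smul]
  have h2 : (c : Matrix (Fin n) (Fin n) F) * ((c⁻¹ : Matrix.SpecialLinearGroup (Fin n) F) :
      Matrix (Fin n) (Fin n) F) = 1 := by
    rw [← Matrix.SpecialLinearGroup.coe_mul, mul_inv_cancel, Matrix.SpecialLinearGroup.coe_one]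
  rw [hx, Matrix.mul_smul, Matrix.smul_mul, show (c : Matrix (Fin n) (Fin n) F) * N = B * c from h1,
    Matrix.mul_assoc, h2, Matrix.mul_one]

/-- The converse: a conjugate in the group gives a scaling with characteristic polynomial over the subfield. -/
theorem data_of_conj {n : ℕ} (F₀ : Subfield F) (x P : Matrix.SpecialLinearGroup (Fin n) F)
    (hP : P⁻¹ * x * P ∈ subSL n F₀) :
    ∃ (μ : F) (A : Matrix (Fin n) (Fin n) ↥F₀), μ ≠ 0 ∧
      (x : Matrix (Fin n) (Fin n) F) =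
        μ • ((P : Matrix (Fin n) (Fin n) F) * A.map F₀.subtype *
          ((P⁻¹ : Matrix.SpecialLinearGroup (Fin n) F) : Matrix (Fin n) (Fin n) F)) := by
  obtain ⟨g₀, μ, hg⟩ := H47.mem_subfieldSubgroup_one.1 hP
  refine ⟨μ, g₀, μ.ne_zero, ?_⟩
  have hg' : ((P⁻¹ * x * P : Matrix.SpecialLinearGroup (Fin n) F) : Matrix (Fin n) (Fin n) F) =
      (μ : F) • (g₀ : Matrix (Fin n) (Fin n) ↥F₀).map F₀.subtype := hg
  rw [← Matrix.smul_mul, ← Matrix.mul_smul, ← hg', ← Matrix.SpecialLinearGroup.coe_mul,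
    ← Matrix.SpecialLinearGroup.coe_mul, show P * (P⁻¹ * x * P) * P⁻¹ = x by group]

theorem charpoly_conj {n : ℕ} (P : Matrix.SpecialLinearGroup (Fin n) F) (M : Matrix (Fin n) (Fin n) F) :
    ((P : Matrix (Fin n) (Fin n) F) * M *
      ((P⁻¹ : Matrix.SpecialLinearGroup (Fin n) F) : Matrix (Fin n) (Fin n) F)).charpoly = M.charpoly := by
  let u : GL (Fin n) F := Matrix.SpecialLinearGroup.toGL P
  have e : (P : Matrix (Fin n) (Fin n) F) * M *
      ((P⁻¹ : Matrix.SpecialLinearGroup (Fin n) F) : Matrix (Fin n) (Fin n) F) =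
      (u : Matrix (Fin n) (Fin n) F) * M * ((u⁻¹ : GL (Fin n) F) : Matrix (Fin n) (Fin n) F) := rfl
  rw [e, Matrix.coe_units_inv, Matrix.charpoly_units_conj]

/-- Rank is unchanged by an extension of scalars. -/
theorem rank_map_field {K L : Type*} [Field K] [Field L] (f : K →+* L) {n : ℕ}
    (A : Matrix (Fin n) (Fin n) K) : (A.map f).rank = A.rank := by
  classical
  obtain ⟨Ls, Ls', D, hD⟩ := Matrix.Pivot.exists_list_transvec_mul_mul_list_transvec_eq_diagonal A
  set U := (Ls.map Matrix.TransvectionStruct.toMatrix).prod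
  set V := (Ls'.map Matrix.TransvectionStruct.toMatrix).prod
  have hU : U.det = 1 := Matrix.TransvectionStruct.det_toMatrix_prod Ls
  have hV : V.det = 1 := Matrix.TransvectionStruct.det_toMatrix_prod Ls'
  have h1 : A.rank = (Matrix.diagonal D).rank := by
    rw [← hD, Matrix.rank_mul_eq_left_of_isUnit_det _ _ (by rw [hV]; exact isUnit_one),
      Matrix.rank_mul_eq_right_of_isUnit_det _ _ (by rw [hU]; exact isUnit_one)]
  have h2 : (A.map f).rank = (Matrix.diagonal (f ∘ D)).rank := by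
    show _ = (Matrix.diagonal fun i => f (D i)).rank
    rw [← Matrix.diagonal_map (map_zero f), ← hD, ← RingHom.mapMatrix_apply, ← RingHom.mapMatrix_apply,
      map_mul, map_mul,
      Matrix.rank_mul_eq_left_of_isUnit_det _ _ (by rw [← RingHom.map_det, hV, map_one]; exact isUnit_one),
      Matrix.rank_mul_eq_right_of_isUnit_det _ _ (by rw [← RingHom.map_det, hU, map_one]; exact isUnit_one)]
  rw [h1, h2, Matrix.rank_diagonal, Matrix.rank_diagonal]
  exact Fintype.card_congr (Equiv.subtypeEquivRight fun i => by simp)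

theorem finrank_ker_eq {n : ℕ} (A : Matrix (Fin n) (Fin n) F) :
    finrank F (LinearMap.ker (Matrix.toLin' A)) + A.rank = n := by
  have := (Matrix.toLin' A).finrank_range_add_finrank_ker
  rw [Module.finrank_fin_fun] at this
  rw [add_comm]
  exact this

end field

/-- The index is not divisible by `r` unless some degree separates the two fields. -/
theorem exists_degree {F : Type*} [Field F] [Fintype F] (n : ℕ) (hn : 1 ≤ n) (F₀ : Subfield F) (k q₀ r : ℕ)
    [hr : Fact r.Prime] (hk : k.Prime) (hrk : r ≠ k) (hF₀ : Nat.card ↥F₀ = q₀)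
    (hqk : Fintype.card F = q₀ ^ k) (hr0 : (q₀ : ZMod r) ≠ 0) (hΩ : r ∣ (subSL n F₀).index) :
    ∃ j, 2 ≤ j ∧ j ≤ n ∧ ((q₀ : ZMod r) ^ k) ^ j = 1 ∧ (q₀ : ZMod r) ^ j ≠ 1 := by
  classical
  by_contra hcon
  push Not at hcon
  haveI : Fintype ↥F₀ := Fintype.ofFinite _
  let ι₀ : Matrix.SpecialLinearGroup (Fin n) ↥F₀ →* Matrix.SpecialLinearGroup (Fin n) F :=
    Matrix.SpecialLinearGroup.map F₀.subtype
  have hinj : Function.Injective ι₀ := fun a b h => Subtype.ext (Matrix.map_injective Subtype.val_injective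
    (congrArg Subtype.val h : (a : Matrix (Fin n) (Fin n) ↥F₀).map F₀.subtype =
      (b : Matrix (Fin n) (Fin n) ↥F₀).map F₀.subtype))
  have hle : ι₀.range ≤ subSL n F₀ := by
    rintro _ ⟨g, rfl⟩
    exact H47.mem_subfieldSubgroup_of_matrix (c := 1) (g : Matrix (Fin n) (Fin n) ↥F₀)
      (by rw [Matrix.SpecialLinearGroup.det_coe]; exact one_ne_zero) one_ne_zero (by rw [one_smul]; rfl)
  have h3 : r ∣ ι₀.range.index := hΩ.trans (Subgroup.index_dvd_of_le hle)
  have hA := H37.card_SL_fin (F := F) n hn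
  have hB := H37.card_SL_fin (F := ↥F₀) n hn
  rw [Nat.card_eq_fintype_card (α := F), hqk] at hA
  rw [hF₀] at hB
  have hidx := Subgroup.card_mul_index ι₀.range
  rw [← Nat.card_congr (MonoidHom.ofInjective hinj).toEquiv] at hidx
  have hq1 : 1 < q₀ := hF₀ ▸ Nat.card_eq_fintype_card (α := ↥F₀) ▸ Fintype.one_lt_card
  set o : Fin n → ℕ := fun i => q₀ ^ ((k - 1) * i) * ∑ l ∈ Finset.range k, (q₀ ^ (n - i)) ^ l with ho
  have key : ∀ i : Fin n, (q₀ ^ k) ^ n - (q₀ ^ k) ^ (i : ℕ) = o i * (q₀ ^ n - q₀ ^ (i : ℕ)) := by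
    intro i
    have hMN : (i : ℕ) < n := i.2
    have hg : (∑ l ∈ Finset.range k, (q₀ ^ (n - i)) ^ l) * (q₀ ^ (n - i) - 1) =
        (q₀ ^ (n - i)) ^ k - 1 := geom_sum_mul_of_one_le (Nat.one_le_pow _ _ (by omega)) k
    have e1 : q₀ ^ n - q₀ ^ (i : ℕ) = q₀ ^ (i : ℕ) * (q₀ ^ (n - i) - 1) := by
      rw [Nat.mul_sub, mul_one, ← pow_add, Nat.add_sub_cancel' hMN.le]
    have e2 : (q₀ ^ k) ^ n - (q₀ ^ k) ^ (i : ℕ) = (q₀ ^ k) ^ (i : ℕ) * ((q₀ ^ (n - i)) ^ k - 1) := by
      rw [Nat.mul_sub, mul_one, ← pow_mul q₀ (n - i), mul_comm (n - i : ℕ) k, pow_mul q₀ k, ← pow_add,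
        Nat.add_sub_cancel' hMN.le]
    rw [e1, e2, ← hg, ho]
    rw [show (q₀ ^ k) ^ (i : ℕ) = q₀ ^ ((k - 1) * i) * q₀ ^ (i : ℕ) by
      rw [← pow_mul, ← pow_add]; congr 1; rw [← Nat.succ_mul, Nat.succ_eq_add_one, Nat.sub_add_cancel hk.pos]]
    ring
  rw [Finset.prod_congr rfl (fun i _ => key i), Finset.prod_mul_distrib, ← hB,
    ← geom_sum_mul_of_one_le (show 1 ≤ q₀ by omega) k, ← hidx] at hA
  have hpos : 0 < (q₀ - 1) * Nat.card (Matrix.SpecialLinearGroup (Fin n) ↥F₀) :=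
    Nat.mul_pos (Nat.sub_pos_of_lt hq1) Nat.card_pos
  have h4 : (∑ l ∈ Finset.range k, q₀ ^ l) * ι₀.range.index = ∏ i, o i := by
    refine Nat.eq_of_mul_eq_mul_right hpos ?_
    calc (∑ l ∈ Finset.range k, q₀ ^ l) * ι₀.range.index *
          ((q₀ - 1) * Nat.card (Matrix.SpecialLinearGroup (Fin n) ↥F₀))
        = (∑ l ∈ Finset.range k, q₀ ^ l) * (q₀ - 1) *
          (Nat.card (Matrix.SpecialLinearGroup (Fin n) ↥F₀) * ι₀.range.index) := by ring
      _ = _ := hA
  obtain ⟨m, rfl⟩ := Nat.exists_eq_add_of_le' hn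
  have hlast : o (Fin.last m) = q₀ ^ ((k - 1) * m) * ∑ l ∈ Finset.range k, q₀ ^ l := by
    simp only [ho, Fin.val_last, Nat.add_sub_cancel_left, pow_one]
  have hS1 : 0 < ∑ l ∈ Finset.range k, q₀ ^ l :=
    Finset.sum_pos (fun l _ => Nat.pow_pos (by omega)) ⟨0, Finset.mem_range.2 hk.pos⟩
  have h5 : ι₀.range.index = (∏ i : Fin m, o i.castSucc) * q₀ ^ ((k - 1) * m) := by
    refine Nat.eq_of_mul_eq_mul_left hS1 ?_
    rw [h4, Fin.prod_univ_castSucc, hlast]
    ring
  have h6 : ((ι₀.range.index : ℕ) : ZMod r) = 0 := (ZMod.natCast_eq_zero_iff _ _).2 h3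
  rw [h5, Nat.cast_mul, Nat.cast_prod, mul_eq_zero, Nat.cast_pow, pow_eq_zero_iff'] at h6
  rcases h6 with h6 | h6
  swap
  · exact hr0 h6.1
  obtain ⟨i, -, hi⟩ := Finset.prod_eq_zero_iff.1 h6
  simp only [ho, Nat.cast_mul, Nat.cast_pow, Nat.cast_sum, Fin.val_castSucc, mul_eq_zero] at hi
  rcases hi with hi | hi
  · exact hr0 (pow_eq_zero_iff'.1 hi).1
  set y := (q₀ : ZMod r) ^ (m + 1 - (i : ℕ)) with hy
  have hg := geom_sum_mul y k
  rw [hi, zero_mul] at hg
  have hyk : y ^ k = 1 := (sub_eq_zero.1 hg.symm)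
  have hy1 : y = 1 := hcon (m + 1 - (i : ℕ)) (by omega) (by omega) (by rw [← pow_mul, mul_comm, pow_mul]; exact hyk)
  rw [hy1] at hi
  simp only [one_pow, Finset.sum_const, Finset.card_range, nsmul_eq_mul, mul_one] at hi
  rw [ZMod.natCast_eq_zero_iff] at hi
  exact hrk ((Nat.prime_dvd_prime_iff_eq hr.out hk).1 hi)

section finite

variable {F : Type*} [Field F] [Fintype F] {r : ℕ} [hr : Fact r.Prime]

/-- The Frobenius map of the subfield. -/
theorem exists_frob {p : ℕ} [Fact p.Prime] [CharP F p] (F₀ : Subfield F) {q₀ : ℕ}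
    (hF₀ : Nat.card ↥F₀ = q₀) :
    (∃ j : ℕ, 1 ≤ j ∧ q₀ = p ^ j) ∧ ∃ φ : F →+* F, (∀ a, φ a = a ^ q₀) ∧ ∀ a, a ∈ F₀ ↔ φ a = a := by
  haveI : Fintype ↥F₀ := Fintype.ofFinite _
  haveI : CharP ↥F₀ p := (RingHom.charP_iff F₀.subtype F₀.subtype.injective p).2 ‹_›
  obtain ⟨j, -, hj⟩ := FiniteField.card ↥F₀ p
  rw [← Nat.card_eq_fintype_card, hF₀] at hj
  refine ⟨⟨j, j.2, hj⟩, iterateFrobenius F p j, fun a => by rw [iterateFrobenius_def, hj], fun a => ?_⟩
  rw [iterateFrobenius_def, ← hj]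
  refine ⟨fun ha => ?_, H47.mem_subfield_of_pow hF₀⟩
  have := FiniteField.pow_card (⟨a, ha⟩ : ↥F₀)
  rw [← Nat.card_eq_fintype_card, hF₀] at this
  exact congrArg Subtype.val this

omit [Fintype F] in
theorem charpoly_scaled_diagonal {n : ℕ} (d : Fin n → F) :
    (Matrix.diagonal d).charpoly =
      ((Finset.univ.val.map d).map fun a => X - C a).prod := by
  rw [Matrix.charpoly_diagonal, Finset.prod_eq_multiset_prod, Multiset.map_map]
  rfl

omit [Fintype F] in
theorem map_prod_X_sub_C (φ : F →+* F) (s : Multiset F) :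
    ((s.map fun a => X - C a).prod).map φ = ((s.map φ).map fun a => X - C a).prod := by
  rw [← Polynomial.coe_mapRingHom, map_multiset_prod, Multiset.map_map, Multiset.map_map]
  congr 1
  exact Multiset.map_congr rfl fun a _ => by simp

variable (ψ : AddChar (ZMod r) F) (hψ : Function.Injective ψ)

include hψ in
omit [Fintype F] in
/-- The invariance forced on the exponents of a diagonal element conjugate into the group. -/
theorem exponents_of_conj (F₀ : Subfield F) (q₀ : ℕ) (φ : F →+* F) (hφ : ∀ a, φ a = a ^ q₀)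
    (hmem : ∀ a, a ∈ F₀ ↔ φ a = a)
    {n : ℕ} (hn : 0 < n) (w : Fin n → ZMod r) {c : F} (hc : c ≠ 0)
    (x P : Matrix.SpecialLinearGroup (Fin n) F)
    (hx : (x : Matrix (Fin n) (Fin n) F) = c • Matrix.diagonal fun i => ψ (w i))
    (hP : P⁻¹ * x * P ∈ subSL n F₀) :
    ∃ a : ZMod r, (Finset.univ.val.map w).map (fun t => (q₀ : ZMod r) * t + a) = Finset.univ.val.map w := by
  classical
  obtain ⟨μ, A, hμ, hA⟩ := data_of_conj F₀ x P hP
  set ν := μ⁻¹ * c with hν
  have hν0 : ν ≠ 0 := mul_ne_zero (inv_ne_zero hμ) hc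
  have h1 : (Matrix.diagonal fun i => ν * ψ (w i)).charpoly = (A.map F₀.subtype).charpoly := by
    rw [← charpoly_conj P (A.map F₀.subtype)]
    congr 1
    rw [show (Matrix.diagonal fun i => ν * ψ (w i)) = μ⁻¹ • (c • Matrix.diagonal fun i => ψ (w i)) by
      rw [smul_smul, ← hν, ← Matrix.diagonal_smul]; rfl]
    rw [← hx, hA, smul_smul, inv_mul_cancel₀ hμ, one_smul]
  have h2 : ((Matrix.diagonal fun i => ν * ψ (w i)).charpoly).map φ =
      (Matrix.diagonal fun i => ν * ψ (w i)).charpoly := by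
    rw [h1, Matrix.charpoly_map, Polynomial.map_map]
    congr 1
    exact RingHom.ext fun a => (hmem _).1 a.2
  rw [charpoly_scaled_diagonal, map_prod_X_sub_C] at h2
  have h3 := congrArg Polynomial.roots h2
  rw [roots_multiset_prod_X_sub_C, roots_multiset_prod_X_sub_C, Multiset.map_map] at h3
  have hφψ : ∀ t, φ (ν * ψ t) = ν ^ q₀ * ψ ((q₀ : ZMod r) * t) := fun t => by
    rw [hφ, mul_pow, ← nsmul_eq_mul, AddChar.map_nsmul_eq_pow]
  obtain ⟨i, -, hi⟩ : ∃ i ∈ (Finset.univ.val : Multiset (Fin n)),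
      ν * ψ (w i) = φ (ν * ψ (w ⟨0, hn⟩)) := by
    have : φ (ν * ψ (w ⟨0, hn⟩)) ∈
        Multiset.map (φ ∘ fun i => ν * ψ (w i)) (Finset.univ.val : Multiset (Fin n)) :=
      Multiset.mem_map.2 ⟨⟨0, hn⟩, Finset.mem_univ_val _, rfl⟩
    rw [h3] at this
    exact Multiset.mem_map.1 this
  refine ⟨w i - (q₀ : ZMod r) * w ⟨0, hn⟩, ?_⟩
  have hνq : ν ^ q₀ = ν * ψ (w i - (q₀ : ZMod r) * w ⟨0, hn⟩) := by
    refine mul_right_cancel₀ (b := ψ ((q₀ : ZMod r) * w ⟨0, hn⟩)) ?_ ?_
    · intro h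
      have := AddChar.map_add_eq_mul ψ ((q₀ : ZMod r) * w ⟨0, hn⟩) (-((q₀ : ZMod r) * w ⟨0, hn⟩))
      rw [add_neg_cancel, AddChar.map_zero_eq_one, h, zero_mul] at this
      exact one_ne_zero this
    · rw [← hφψ, ← hi, mul_assoc ν (ψ _) _, ← AddChar.map_add_eq_mul, sub_add_cancel]
  apply Multiset.map_injective (f := fun t => ν * ψ t) (fun a b hab => hψ (mul_left_cancel₀ hν0 hab))
  rw [Multiset.map_map, Multiset.map_map, Multiset.map_map]
  refine Eq.trans (Multiset.map_congr rfl fun j _ => ?_) h3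
  show ν * ψ ((q₀ : ZMod r) * w j + (w i - (q₀ : ZMod r) * w ⟨0, hn⟩)) = φ (ν * ψ (w j))
  rw [hφψ, hνq, add_comm, AddChar.map_add_eq_mul]
  ring

include hψ in
omit [Fintype F] in
/-- A diagonal counterexample. -/
theorem not_allConj (F₀ : Subfield F) (q₀ : ℕ) (φ : F →+* F) (hφ : ∀ a, φ a = a ^ q₀)
    (hmem : ∀ a, a ∈ F₀ ↔ φ a = a) (L : List (ZMod r)) {n : ℕ} (hL : L.length = n) {c : F}
    (hdet : c ^ n * ψ L.sum = 1) {u v : ZMod r} (hu : u ∈ L) (hv : v ∈ L) (huv : u ≠ v)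
    (hno : ∀ a : ZMod r, (L : Multiset (ZMod r)).map (fun t => (q₀ : ZMod r) * t + a) ≠ L) :
    ¬ AllConj n r F₀ := by
  classical
  subst hL
  intro h
  set w : Fin L.length → ZMod r := L.get with hw
  have hn : 0 < L.length := List.length_pos_of_mem hu
  have hmul : (Finset.univ.val.map w) = (L : Multiset (ZMod r)) := by
    rw [Fin.univ_val_map, hw, List.ofFn_get]
  have hsum : (∑ i, w i) = L.sum := by
    rw [Finset.sum_eq_multiset_sum, hmul, Multiset.sum_coe]
  have hc : c ≠ 0 := by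
    rintro rfl
    rw [zero_pow hn.ne', zero_mul] at hdet
    exact zero_ne_one hdet
  have hd : (c • Matrix.diagonal fun i => ψ (w i)).det = 1 := by
    rw [Matrix.det_smul, Matrix.det_diagonal, Fintype.card_fin]
    have : ∏ i, ψ (w i) = ψ (∑ i, w i) := by
      induction (Finset.univ : Finset (Fin L.length)) using Finset.induction_on with
      | empty => simp
      | insert a s ha ih => rw [Finset.prod_insert ha, Finset.sum_insert ha, AddChar.map_add_eq_mul, ih]
    rw [this, hsum]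
    exact hdet
  let x : Matrix.SpecialLinearGroup (Fin L.length) F := ⟨_, hd⟩
  have hxr : ((x ^ r : Matrix.SpecialLinearGroup (Fin L.length) F) : Matrix (Fin L.length) (Fin L.length) F) =
      c ^ r • (1 : Matrix (Fin L.length) (Fin L.length) F) := by
    rw [Matrix.SpecialLinearGroup.coe_pow]
    show (c • Matrix.diagonal fun i => ψ (w i)) ^ r = _
    rw [_root_.smul_pow, Matrix.diagonal_pow, ← Matrix.diagonal_one]
    congr 2
    funext i
    show ψ (w i) ^ r = 1
    rw [← AddChar.map_nsmul_eq_pow, nsmul_eq_mul, ZMod.natCast_self, zero_mul, AddChar.map_zero_eq_one]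
  have hxs : ∀ z : F, (x : Matrix (Fin L.length) (Fin L.length) F) ≠
      z • (1 : Matrix (Fin L.length) (Fin L.length) F) := by
    intro z hz
    obtain ⟨i, hi⟩ := List.get_of_mem hu
    obtain ⟨j, hj⟩ := List.get_of_mem hv
    have h1 := congrFun (congrFun hz i) i
    have h2 := congrFun (congrFun hz j) j
    simp [x, hw] at h1 h2
    refine huv (hψ (mul_left_cancel₀ hc ?_))
    rw [← hi, ← hj]
    simpa using h1.trans h2.symm
  obtain ⟨P, hP⟩ := h x ⟨c ^ r, hxr⟩ hxs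
  obtain ⟨a, ha⟩ := exponents_of_conj ψ hψ F₀ q₀ φ hφ hmem hn w hc x P rfl hP
  rw [hmul] at ha
  exact hno a ha

omit [Fintype F] in
/-- Two points with distinguished multiplicities cannot both be permuted by a nontrivial dilation. -/
theorem no_two_unique {g : ZMod r} (hg0 : g ≠ 0) (hg1 : g ≠ 1) (s : Multiset (ZMod r)) {u v : ZMod r}
    (huv : u ≠ v) (hu : ∀ t, s.count t = s.count u → t = u) (hv : ∀ t, s.count t = s.count v → t = v)
    (a : ZMod r) : s.map (fun t => g * t + a) ≠ s := by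
  intro h
  have hinj : Function.Injective (fun t : ZMod r => g * t + a) :=
    fun x y hxy => mul_left_cancel₀ hg0 (add_right_cancel hxy)
  have hf : ∀ t, s.count (g * t + a) = s.count t := fun t => by
    conv_lhs => rw [← h]
    exact Multiset.count_map_eq_count' _ s hinj t
  have h1 := hu _ (hf u)
  have h2 := hv _ (hf v)
  have h3 : (g - 1) * (u - v) = 0 := by linear_combination h1 - h2
  rcases mul_eq_zero.1 h3 with h4 | h4
  · exact hg1 (sub_eq_zero.1 h4)
  · exact huv (sub_eq_zero.1 h4)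

include hψ in
omit [Fintype F] in
/-- All exponents zero but one. -/
theorem not_allConj_one (F₀ : Subfield F) (q₀ : ℕ) (φ : F →+* F) (hφ : ∀ a, φ a = a ^ q₀)
    (hmem : ∀ a, a ∈ F₀ ↔ φ a = a) {n : ℕ} (hn : 3 ≤ n) {c : F} (hdet : c ^ n * ψ 1 = 1)
    (hg0 : (q₀ : ZMod r) ≠ 0) (hg1 : (q₀ : ZMod r) ≠ 1) : ¬ AllConj n r F₀ := by
  classical
  set L : List (ZMod r) := 1 :: List.replicate (n - 1) 0 with hLdef
  have hcnt : ∀ t, (L : Multiset (ZMod r)).count t =
      if t = 1 then 1 else if t = 0 then n - 1 else 0 := by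
    intro t
    rw [Multiset.coe_count, hLdef, List.count_cons, List.count_replicate]
    by_cases h1 : t = 1
    · subst h1; simp [zero_ne_one]
    · by_cases h0 : t = 0
      · subst h0; simp
      · simp [h1, h0, Ne.symm h1, Ne.symm h0]
  refine not_allConj ψ hψ F₀ q₀ φ hφ hmem L (c := c) (by simp [hLdef]; omega)
    (by rw [hLdef, List.sum_cons, List.sum_replicate, nsmul_zero, add_zero]; exact hdet)
    (u := 1) (v := 0) (by simp [hLdef]) (by simp [hLdef]; omega) one_ne_zero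
    (no_two_unique hg0 hg1 _ one_ne_zero ?_ ?_)
  · intro t ht
    rw [hcnt, hcnt, if_pos rfl] at ht
    by_contra hne
    rw [if_neg hne] at ht
    split_ifs at ht <;> omega
  · intro t ht
    rw [hcnt, hcnt, if_neg zero_ne_one, if_pos rfl] at ht
    by_contra hne
    rw [if_neg hne] at ht
    split_ifs at ht <;> omega

include hψ in
omit [Fintype F] in
/-- Large dimension, `r = 3`. -/
theorem not_allConj_three (F₀ : Subfield F) (q₀ : ℕ) (φ : F →+* F) (hφ : ∀ a, φ a = a ^ q₀)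
    (hmem : ∀ a, a ∈ F₀ ↔ φ a = a) (hr3 : r = 3) {n : ℕ} (hn : 7 ≤ n)
    (hg0 : (q₀ : ZMod r) ≠ 0) (hg1 : (q₀ : ZMod r) ≠ 1) : ¬ AllConj n r F₀ := by
  classical
  set L : List (ZMod r) := List.replicate 3 1 ++ List.replicate (n - 3) 0 with hLdef
  have hcnt : ∀ t, (L : Multiset (ZMod r)).count t =
      if t = 1 then 3 else if t = 0 then n - 3 else 0 := by
    intro t
    rw [Multiset.coe_count, hLdef, List.count_append, List.count_replicate, List.count_replicate]
    by_cases h1 : t = 1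
    · subst h1; simp [zero_ne_one]
    · by_cases h0 : t = 0
      · subst h0; simp
      · simp [h1, h0, Ne.symm h1, Ne.symm h0]
  have hsum : L.sum = 0 := by
    rw [hLdef, List.sum_append, List.sum_replicate, List.sum_replicate, nsmul_zero, add_zero,
      nsmul_eq_mul, mul_one, ← hr3, ZMod.natCast_self]
  refine not_allConj ψ hψ F₀ q₀ φ hφ hmem L (c := 1) (by simp [hLdef]; omega)
    (by rw [hsum, AddChar.map_zero_eq_one, one_pow, one_mul])
    (u := 1) (v := 0) (by simp [hLdef]) (by simp [hLdef]; omega) one_ne_zero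
    (no_two_unique hg0 hg1 _ one_ne_zero ?_ ?_)
  · intro t ht
    rw [hcnt, hcnt, if_pos rfl] at ht
    by_contra hne
    rw [if_neg hne] at ht
    split_ifs at ht <;> omega
  · intro t ht
    rw [hcnt, hcnt, if_neg zero_ne_one, if_pos rfl] at ht
    by_contra hne
    rw [if_neg hne] at ht
    split_ifs at ht <;> omega

include hψ in
omit [Fintype F] in
/-- Large dimension, `r ≥ 5`. -/
theorem not_allConj_five (F₀ : Subfield F) (q₀ : ℕ) (φ : F →+* F) (hφ : ∀ a, φ a = a ^ q₀)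
    (hmem : ∀ a, a ∈ F₀ ↔ φ a = a) (hr5 : 5 ≤ r) {n : ℕ} (hn : 6 ≤ n)
    (hg0 : (q₀ : ZMod r) ≠ 0) (hg1 : (q₀ : ZMod r) ≠ 1) : ¬ AllConj n r F₀ := by
  classical
  have hnat : ∀ j : ℕ, 0 < j → j < r → (j : ZMod r) ≠ 0 := fun j h0 hj h =>
    absurd (Nat.le_of_dvd h0 ((ZMod.natCast_eq_zero_iff _ _).1 h)) (by omega)
  have h2 : (2 : ZMod r) ≠ 0 := by simpa using hnat 2 (by omega) (by omega)
  set h : ZMod r := -(2 : ZMod r)⁻¹ with hh
  have h2h : 2 * h = -1 := by rw [hh, mul_neg, mul_inv_cancel₀ h2]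
  have hh0 : h ≠ 0 := neg_ne_zero.2 (inv_ne_zero h2)
  have hh1 : h ≠ 1 := by
    intro he
    have : ((3 : ℕ) : ZMod r) = 0 := by rw [he] at h2h; push_cast; linear_combination h2h
    exact hnat 3 (by omega) (by omega) this
  set L : List (ZMod r) := 1 :: h :: h :: List.replicate (n - 3) 0 with hLdef
  have hcnt : ∀ t, (L : Multiset (ZMod r)).count t =
      if t = 1 then 1 else if t = h then 2 else if t = 0 then n - 3 else 0 := by
    intro t
    rw [Multiset.coe_count, hLdef, List.count_cons, List.count_cons, List.count_cons, List.count_replicate]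
    by_cases h1 : t = 1
    · subst h1; simp [zero_ne_one, hh1]
    · by_cases h' : t = h
      · subst h'; simp [Ne.symm h1, Ne.symm hh0, hh1, hh0]
      · by_cases h0 : t = 0
        · subst h0; simp [hh0, h', Ne.symm h']
        · simp [h1, h', h0, Ne.symm h1, Ne.symm h0, Ne.symm h']
  have hsum : L.sum = 0 := by
    rw [hLdef, List.sum_cons, List.sum_cons, List.sum_cons, List.sum_replicate, nsmul_zero]
    linear_combination h2h
  refine not_allConj ψ hψ F₀ q₀ φ hφ hmem L (c := 1) (by simp [hLdef]; omega)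
    (by rw [hsum, AddChar.map_zero_eq_one, one_pow, one_mul])
    (u := 1) (v := h) (by simp [hLdef]) (by simp [hLdef]) (Ne.symm hh1)
    (no_two_unique hg0 hg1 _ (Ne.symm hh1) ?_ ?_)
  · intro t ht
    rw [hcnt, hcnt, if_pos rfl] at ht
    by_contra hne
    rw [if_neg hne] at ht
    split_ifs at ht <;> omega
  · intro t ht
    rw [hcnt, hcnt, if_neg hh1, if_pos rfl] at ht
    by_contra hne
    split_ifs at ht <;> omega

include hψ in
omit [Fintype F] in
/-- Dimension two. -/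
theorem not_allConj_two (F₀ : Subfield F) (q₀ : ℕ) (φ : F →+* F) (hφ : ∀ a, φ a = a ^ q₀)
    (hmem : ∀ a, a ∈ F₀ ↔ φ a = a) (hr2 : r ≠ 2)
    (hg0 : (q₀ : ZMod r) ≠ 0) (hg1 : (q₀ : ZMod r) ≠ 1) (hg2 : (q₀ : ZMod r) ^ 2 ≠ 1) :
    ¬ AllConj 2 r F₀ := by
  classical
  have h2 : (2 : ZMod r) ≠ 0 := by
    intro h
    have : ((2 : ℕ) : ZMod r) = 0 := by simpa using h
    exact hr2 ((Nat.prime_dvd_prime_iff_eq hr.out Nat.prime_two).1 ((ZMod.natCast_eq_zero_iff _ _).1 this))
  have h11 : (1 : ZMod r) ≠ -1 := fun h => h2 (by linear_combination h)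
  refine not_allConj ψ hψ F₀ q₀ φ hφ hmem [1, -1] (c := 1) rfl
    (by simp [AddChar.map_zero_eq_one]) (u := 1) (v := -1) (by simp) (by simp) h11 ?_
  intro a ha
  set g := (q₀ : ZMod r)
  have hmem1 : ∀ t ∈ ([1, -1] : List (ZMod r)), g * t + a = 1 ∨ g * t + a = -1 := by
    intro t ht
    have : g * t + a ∈ (([1, -1] : List (ZMod r)) : Multiset (ZMod r)).map (fun t => g * t + a) :=
      Multiset.mem_map.2 ⟨t, ht, rfl⟩
    rw [ha] at this
    simpa using this
  rcases hmem1 1 (by simp) with hA | hA <;> rcases hmem1 (-1) (by simp) with hB | hB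
  · exact hg0 (mul_left_cancel₀ h2 (by linear_combination hA - hB))
  · exact hg1 (mul_left_cancel₀ h2 (by linear_combination hA - hB))
  · exact hg2 (by
      have : g = -1 := mul_left_cancel₀ h2 (by linear_combination hA - hB)
      rw [this]; ring)
  · exact hg0 (mul_left_cancel₀ h2 (by linear_combination hA - hB))

end finite

section main

variable {F : Type*} [Field F] [Fintype F] {r : ℕ} [hr : Fact r.Prime]

omit [Fintype F] in
theorem exists_char {ω : F} (hω : IsPrimitiveRoot ω r) :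
    ∃ ψ : AddChar (ZMod r) F, Function.Injective ψ ∧ ψ 1 = ω ∧ ∀ a : F, a ^ r = 1 → ∃ t, ψ t = a := by
  haveI : NeZero r := ⟨hr.out.ne_zero⟩
  refine ⟨AddChar.zmodChar r hω.pow_eq_one, fun a b h => ?_, ?_, fun a ha => ?_⟩
  · rw [AddChar.zmodChar_apply, AddChar.zmodChar_apply] at h
    exact ZMod.val_injective r (hω.pow_inj (ZMod.val_lt a) (ZMod.val_lt b) h)
  · rw [AddChar.zmodChar_apply, ZMod.val_one, pow_one]
  · obtain ⟨i, -, hi⟩ := hω.eq_pow_of_pow_eq_one ha
    exact ⟨(i : ZMod r), by rw [AddChar.zmodChar_apply', hi]⟩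

theorem exists_primitive {N : ℕ} (hN : N ∣ Fintype.card F - 1) : ∃ a : F, IsPrimitiveRoot a N := by
  classical
  have hcard : Nat.card Fˣ = Fintype.card F - 1 := by rw [Nat.card_eq_fintype_card, Fintype.card_units]
  obtain ⟨g, hg⟩ := IsCyclic.exists_ofOrder_eq_natCard (α := Fˣ)
  obtain ⟨m, hm⟩ := hN
  rw [hcard, hm] at hg
  have hpos : 0 < Fintype.card F - 1 := by have := Fintype.one_lt_card (α := F); omega
  have := (IsPrimitiveRoot.orderOf g).pow (by rw [hg, ← hm]; exact hpos) (show orderOf g = m * N by rw [hg, mul_comm])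
  exact ⟨_, (this.map_of_injective (f := Units.coeHom F) Units.val_injective)⟩

/-- `q ≡ 1` is not assumed: an orbit too small for the subfield. -/
theorem not_allConj_large {F₀ : Subfield F} {k q₀ : ℕ} (hF₀ : Nat.card ↥F₀ = q₀)
    (hqk : Fintype.card F = q₀ ^ k) (hg0 : (q₀ : ZMod r) ≠ 0) {n j : ℕ} (hj : 0 < j) (hjn : j ≤ n)
    (hjk : ((q₀ : ZMod r) ^ k) ^ j = 1) (hj1 : (q₀ : ZMod r) ^ j ≠ 1)
    (h1 : ¬ r ∣ Fintype.card F - 1) : ¬ AllConj n r F₀ := by
  classical
  intro h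
  haveI : Fintype ↥F₀ := Fintype.ofFinite _
  have hcast : ((Fintype.card F : ℕ) : ZMod r) = (q₀ : ZMod r) ^ k := by rw [hqk, Nat.cast_pow]
  have hrq : ((Fintype.card F : ℕ) : ZMod r) ≠ 0 := by rw [hcast]; exact pow_ne_zero _ hg0
  set e := orderOf ((Fintype.card F : ℕ) : ZMod r) with he
  have hej : e ∣ j := by rw [he, hcast]; exact orderOf_dvd_of_pow_eq_one hjk
  have hen : e ≤ n := (Nat.le_of_dvd hj hej).trans hjn
  have he0 : e ≠ 0 := fun h0 => by rw [h0, zero_dvd_iff] at hej; omega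
  have he1 : e ≠ 1 := fun h' => h1 (H46.Elusive.order_eq_one_iff.1 h')
  obtain ⟨x, hxT, hxr, hxk, hxs⟩ := H46.Elusive.exists_order_element_of (F := F) (r := r) hrq
    (by omega) 1 le_rfl (n := n) (by rw [one_mul]; exact hen)
  rw [one_mul] at hxk
  obtain ⟨P, hP⟩ := h x ⟨1, hxr⟩ hxs
  obtain ⟨μ, A, hμ, hA⟩ := data_of_conj F₀ x P hP
  haveI : Nonempty (Fin n) := ⟨⟨0, by omega⟩⟩
  have hPP : ((P⁻¹ : Matrix.SpecialLinearGroup (Fin n) F) : Matrix (Fin n) (Fin n) F) *
      (P : Matrix (Fin n) (Fin n) F) = 1 := by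
    rw [← Matrix.SpecialLinearGroup.coe_mul, inv_mul_cancel, Matrix.SpecialLinearGroup.coe_one]
  have hP' : (P : Matrix (Fin n) (Fin n) F) *
      ((P⁻¹ : Matrix.SpecialLinearGroup (Fin n) F) : Matrix (Fin n) (Fin n) F) = 1 := by
    rw [← Matrix.SpecialLinearGroup.coe_mul, mul_inv_cancel, Matrix.SpecialLinearGroup.coe_one]
  have hg : ((P⁻¹ * x * P : Matrix.SpecialLinearGroup (Fin n) F) : Matrix (Fin n) (Fin n) F) =
      μ • A.map F₀.subtype := by
    rw [Matrix.SpecialLinearGroup.coe_mul, Matrix.SpecialLinearGroup.coe_mul, hA, Matrix.mul_smul,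
      Matrix.smul_mul]
    congr 1
    simp only [← Matrix.mul_assoc]
    rw [hPP, Matrix.one_mul, Matrix.mul_assoc, hPP, Matrix.mul_one]
  have hgr : (μ • A.map F₀.subtype) ^ r = 1 := by
    rw [← hg, ← Matrix.SpecialLinearGroup.coe_pow, show (P⁻¹ * x * P) ^ r = P⁻¹ * x ^ r * P by
      simpa using (conj_pow (i := r) (a := P⁻¹) (b := x)),
      Matrix.SpecialLinearGroup.coe_mul, Matrix.SpecialLinearGroup.coe_mul, hxr, one_smul, Matrix.mul_one,
      hPP]
  -- the scalar lies in the subfield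
  have hμr : μ ^ r ∈ F₀ := by
    rw [_root_.smul_pow, ← RingHom.mapMatrix_apply, ← map_pow] at hgr
    have i : Fin n := ⟨0, by omega⟩
    have h' := congrFun (congrFun hgr i) i
    rw [Matrix.smul_apply, RingHom.mapMatrix_apply, Matrix.map_apply, Matrix.one_apply_eq, smul_eq_mul] at h'
    rw [eq_inv_of_mul_eq_one_left h']
    exact F₀.inv_mem ((A ^ r) i i).2
  have hμ0 : μ ∈ F₀ := by
    obtain ⟨p, hp⟩ := CharP.exists F
    haveI := Fact.mk (CharP.char_is_prime F p)
    obtain ⟨-, φ, hφ, hmem⟩ := exists_frob (p := p) F₀ hF₀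
    rw [hmem]
    have hm := (hmem _).1 hμr
    have hy : (φ μ / μ) ^ r = 1 := by
      rw [div_pow, ← map_pow, hm, div_self (pow_ne_zero _ hμ)]
    have hy0 : φ μ / μ ≠ 0 := by
      intro h0; rw [h0, zero_pow hr.out.ne_zero] at hy; exact zero_ne_one hy
    have := pow_gcd_eq_one.2 ⟨hy, FiniteField.pow_card_sub_one_eq_one _ hy0⟩
    rw [(hr.out.coprime_iff_not_dvd.2 h1).gcd_eq_one, pow_one] at this
    rwa [div_eq_one_iff_eq hμ] at this
  set B : Matrix (Fin n) (Fin n) ↥F₀ := (⟨μ, hμ0⟩ : ↥F₀) • A with hBdef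
  have hBmap : B.map F₀.subtype = μ • A.map F₀.subtype := by
    ext i j
    simp [hBdef]
  have hBr : B ^ r = 1 := by
    refine Matrix.map_injective F₀.subtype.injective ?_
    show (B ^ r).map F₀.subtype = (1 : Matrix (Fin n) (Fin n) ↥F₀).map F₀.subtype
    rw [Matrix.map_one _ (map_zero _) (map_one _), ← RingHom.mapMatrix_apply, map_pow,
      RingHom.mapMatrix_apply, hBmap]
    exact hgr
  have hx : (x : Matrix (Fin n) (Fin n) F) - 1 = (P : Matrix (Fin n) (Fin n) F) *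
      ((B - 1).map F₀.subtype) *
      ((P⁻¹ : Matrix.SpecialLinearGroup (Fin n) F) : Matrix (Fin n) (Fin n) F) := by
    rw [← RingHom.mapMatrix_apply, map_sub, map_one, RingHom.mapMatrix_apply, hBmap, Matrix.mul_sub,
      Matrix.sub_mul, Matrix.mul_one, hP', hA, Matrix.mul_smul, Matrix.smul_mul]
  have hrank : ((x : Matrix (Fin n) (Fin n) F) - 1).rank = (B - 1).rank := by
    rw [hx, Matrix.rank_mul_eq_left_of_isUnit_det _ _
      (by rw [Matrix.SpecialLinearGroup.det_coe]; exact isUnit_one),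
      Matrix.rank_mul_eq_right_of_isUnit_det _ _
      (by rw [Matrix.SpecialLinearGroup.det_coe]; exact isUnit_one), rank_map_field]
  have hk1 := finrank_ker_eq ((x : Matrix (Fin n) (Fin n) F) - 1)
  have hk2 := finrank_ker_eq (B - 1)
  rw [map_sub, Matrix.toLin'_one, ← Module.End.one_eq_id] at hk1 hk2
  rw [hxk, hrank] at hk1
  have hT0 : (Matrix.toLin' B : Module.End ↥F₀ (Fin n → ↥F₀)) ^ r = 1 := by
    show (Matrix.toLinAlgEquiv' B) ^ r = 1
    rw [← map_pow, hBr, map_one]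
  have hq0 : ((Fintype.card ↥F₀ : ℕ) : ZMod r) = (q₀ : ZMod r) := by
    rw [← Nat.card_eq_fintype_card, hF₀]
  have hd := (H46.Elusive.unipower_structure (F := ↥F₀) (r := r) (by rw [hq0]; exact hg0) _ hT0).2.1
  rw [Module.finrank_fin_fun, hq0] at hd
  have hde : orderOf (q₀ : ZMod r) ∣ e := by
    convert hd using 1
    omega
  exact hj1 (orderOf_dvd_iff_pow_eq_one.1 (hde.trans hej))

omit [Fintype F] in
theorem scalar_ne_zero {n : ℕ} {x : Matrix.SpecialLinearGroup (Fin n) F} {z : F} (hn : 0 < n)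
    (hxr : ((x ^ r : Matrix.SpecialLinearGroup (Fin n) F) : Matrix (Fin n) (Fin n) F) =
      z • (1 : Matrix (Fin n) (Fin n) F)) : z ≠ 0 := by
  haveI : Nonempty (Fin n) := ⟨⟨0, hn⟩⟩
  rintro rfl
  have h1 := congrArg Matrix.det hxr
  rw [Matrix.SpecialLinearGroup.det_coe, zero_smul, Matrix.det_zero] at h1
  exact one_ne_zero h1

/-- The case `r = k`. -/
theorem allConj_eq {p : ℕ} [Fact p.Prime] [CharP F p] {F₀ : Subfield F} {q₀ : ℕ}
    (hF₀ : Nat.card ↥F₀ = q₀) (hqk : Fintype.card F = q₀ ^ r) (hr2 : r ≠ 2) (hrp : r ≠ p)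
    {n : ℕ} (hn : 0 < n)
    (hgap : r ∣ q₀ - 1 → padicValNat r n ≤ padicValNat r (Fintype.card F - 1)) : AllConj n r F₀ := by
  classical
  obtain ⟨-, φ, hφ, hmem⟩ := exists_frob (p := p) F₀ hF₀
  intro x ⟨z, hxr⟩ _
  have hz0 := scalar_ne_zero hn hxr
  obtain ⟨c, hc⟩ : ∃ c : F, c ^ r = z := by
    by_cases hd : r ∣ Fintype.card F - 1
    swap
    · exact H46.Elusive.not_nonpower hd z
    by_contra hne
    push Not at hne
    obtain ⟨k', hk', hdet⟩ := H46.Elusive.det_of_nonpower hne (H46.Elusive.toLin'_pow_eq x hxr)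
    rw [Module.finrank_fin_fun] at hk'
    rw [LinearMap.det_toLin', Matrix.SpecialLinearGroup.det_coe] at hdet
    refine H46.Elusive.no_det_one hd (by omega) hk' (hgap ?_) (fun h => absurd h hr2) hne hdet.symm
    have h1 : ((Fintype.card F : ℕ) : ZMod r) = 1 := by
      rw [← sub_eq_zero, ← Nat.cast_one, ← Nat.cast_sub Fintype.card_pos, ZMod.natCast_eq_zero_iff]
      exact hd
    rw [hqk, Nat.cast_pow, ZMod.pow_card] at h1
    have hq1 : 1 ≤ q₀ := hF₀ ▸ Nat.card_pos
    rw [← ZMod.natCast_eq_zero_iff, Nat.cast_sub hq1, h1, Nat.cast_one, sub_self]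
  have hc0 : c ≠ 0 := by rintro rfl; exact hz0 (by rw [← hc, zero_pow hr.out.ne_zero])
  have hNr : (c⁻¹ • (x : Matrix (Fin n) (Fin n) F)) ^ r = 1 := by
    rw [_root_.smul_pow, ← Matrix.SpecialLinearGroup.coe_pow, hxr, smul_smul, inv_pow, hc,
      inv_mul_cancel₀ hz0, one_smul]
  refine conj_of_charpoly hn F₀ x hc0 ⟨r, ?_, hNr⟩ fun i => ?_
  · rw [Ne, CharP.cast_eq_zero_iff F p, Nat.prime_dvd_prime_iff_eq (Fact.out : p.Prime) hr.out]
    exact Ne.symm hrp
  rw [hmem]
  set N := c⁻¹ • (x : Matrix (Fin n) (Fin n) F) with hNdef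
  let K := AlgebraicClosure F
  let ι : F →+* K := algebraMap F K
  have hsplit : (N.map ι).charpoly.Splits := IsAlgClosed.splits _
  have hprod := hsplit.eq_prod_roots_of_monic (N.map ι).charpoly_monic
  have hroots : ∀ ξ ∈ (N.map ι).charpoly.roots, ξ ^ r = 1 := by
    intro ξ hξ
    have h0 : (Matrix.scalar (Fin n) ξ - N.map ι).det = 0 := by
      rw [← Matrix.eval_charpoly]; exact (mem_roots'.1 hξ).2
    obtain ⟨v, hv, hv0⟩ := Matrix.exists_mulVec_eq_zero_iff.2 h0
    rw [Matrix.sub_mulVec, sub_eq_zero] at hv0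
    have hNv : (N.map ι).mulVec v = ξ • v := by
      rw [← hv0]; ext j; simp [Matrix.scalar_apply, Matrix.mulVec_diagonal]
    have hpow : ∀ m : ℕ, ((N.map ι) ^ m).mulVec v = ξ ^ m • v := by
      intro m
      induction m with
      | zero => simp
      | succ m ih => rw [pow_succ, ← Matrix.mulVec_mulVec, hNv, Matrix.mulVec_smul, ih, smul_smul,
          pow_succ, mul_comm]
    have h1 := hpow r
    rw [← RingHom.mapMatrix_apply, ← map_pow, hNr, map_one, Matrix.one_mulVec] at h1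
    obtain ⟨j, hj⟩ := Function.ne_iff.1 hv
    have h2 := congrFun h1 j
    rw [Pi.smul_apply, smul_eq_mul] at h2
    exact mul_right_cancel₀ hj (by rw [one_mul]; exact h2.symm)
  -- Frobenius on the closure
  obtain ⟨⟨j, -, hj⟩, -⟩ := exists_frob (p := p) F₀ hF₀
  haveI : CharP K p := (RingHom.charP_iff ι ι.injective p).1 ‹_›
  let Φ : K →+* K := iterateFrobenius K p j
  let Ψ : K →+* K := iterateFrobenius K p (j * r)
  have hΦ : ∀ a, Φ a = a ^ q₀ := fun a => by rw [iterateFrobenius_def, hj]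
  have hΨ : ∀ a, Ψ a = a ^ Fintype.card F := fun a => by
    rw [iterateFrobenius_def, pow_mul, ← hj, hqk]
  have hagree : ∀ ξ ∈ (N.map ι).charpoly.roots, Φ ξ = Ψ ξ := by
    intro ξ hξ
    rw [hΦ, hΨ, hqk]
    refine pow_eq_pow_of_modEq ?_ (hroots ξ hξ)
    rw [← ZMod.natCast_eq_natCast_iff, Nat.cast_pow, ZMod.pow_card]
  have heq : (N.map ι).charpoly.map Φ = (N.map ι).charpoly.map Ψ := by
    rw [hprod, Polynomial.map_multiset_prod, Polynomial.map_multiset_prod, Multiset.map_map,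
      Multiset.map_map]
    congr 1
    refine Multiset.map_congr rfl fun ξ hξ => ?_
    simp [hagree ξ hξ]
  have hi := congrArg (fun P => P.coeff i) heq
  simp only [Matrix.charpoly_map, Polynomial.coeff_map, hΦ, hΨ] at hi
  rw [← map_pow, ← map_pow, FiniteField.pow_card] at hi
  rw [hφ]
  exact ι.injective hi

/-- Symmetry of sum-zero exponents, three points. -/
theorem sym_three (w : Fin 3 → ZMod 3) (h : ∑ i, w i = 0) :
    ∃ b, (Finset.univ.val.map fun i => w i - b).map (fun t => -t) = Finset.univ.val.map fun i => w i - b := by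
  have key : ∀ a : ZMod 3, ∃ s : ZMod 3,
      (([0, a, -a] : List (ZMod 3)).map fun t => 2 * s - t).isPerm [0, a, -a] = true := by decide
  obtain ⟨s, hs⟩ := key (w 1 - w 0)
  refine ⟨w 0 + s, ?_⟩
  have h30 : (3 : ZMod 3) = 0 := rfl
  have hw : w 2 - w 0 = -(w 1 - w 0) := by
    rw [Fin.sum_univ_three] at h
    linear_combination h - w 0 * h30
  have hL : Finset.univ.val.map (fun i => w i - (w 0 + s)) =
      (([0, w 1 - w 0, -(w 1 - w 0)] : List (ZMod 3)) : Multiset (ZMod 3)).map (fun t => t - s) := by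
    rw [Fin.univ_val_map, Multiset.map_coe, ← hw]
    simp [List.ofFn_succ, sub_sub]
  rw [hL, Multiset.map_map]
  have hp : ((([0, w 1 - w 0, -(w 1 - w 0)] : List (ZMod 3)).map fun t => 2 * s - t : List (ZMod 3)) :
      Multiset (ZMod 3)) = ([0, w 1 - w 0, -(w 1 - w 0)] : List (ZMod 3)) :=
    Multiset.coe_eq_coe.2 (List.isPerm_iff.1 hs)
  conv_rhs => rw [← hp, ← Multiset.map_coe, Multiset.map_map]
  exact Multiset.map_congr rfl fun t _ => by simp; ring

/-- Symmetry of sum-zero exponents, five points. -/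
theorem sym_five (w : Fin 5 → ZMod 5) (h : ∑ i, w i = 0) :
    ∃ b, (Finset.univ.val.map fun i => w i - b).map (fun t => -t) = Finset.univ.val.map fun i => w i - b := by
  have key : ∀ a b c : ZMod 5, ∃ s : ZMod 5,
      (([0, a, b, c, -(a + b + c)] : List (ZMod 5)).map fun t => 2 * s - t).isPerm
        [0, a, b, c, -(a + b + c)] = true := by decide +kernel
  obtain ⟨s, hs⟩ := key (w 1 - w 0) (w 2 - w 0) (w 3 - w 0)
  refine ⟨w 0 + s, ?_⟩
  have h50 : (5 : ZMod 5) = 0 := rfl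
  set L : List (ZMod 5) :=
    [0, w 1 - w 0, w 2 - w 0, w 3 - w 0, -((w 1 - w 0) + (w 2 - w 0) + (w 3 - w 0))] with hLdef
  have hw : w 4 - w 0 = -((w 1 - w 0) + (w 2 - w 0) + (w 3 - w 0)) := by
    rw [Fin.sum_univ_five] at h
    linear_combination h - w 0 * h50
  have hL : Finset.univ.val.map (fun i => w i - (w 0 + s)) =
      (L : Multiset (ZMod 5)).map (fun t => t - s) := by
    rw [Fin.univ_val_map, Multiset.map_coe, hLdef, ← hw]
    simp [List.ofFn_succ, sub_sub]
  rw [hL, Multiset.map_map]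
  have hp : ((L.map fun t => 2 * s - t : List (ZMod 5)) : Multiset (ZMod 5)) = L :=
    Multiset.coe_eq_coe.2 (List.isPerm_iff.1 hs)
  conv_rhs => rw [← hp, ← Multiset.map_coe, Multiset.map_map]
  exact Multiset.map_congr rfl fun t _ => by simp; ring

/-- The exceptional case in dimension three or five. -/
theorem allConj_small {p : ℕ} [Fact p.Prime] [CharP F p] {F₀ : Subfield F} {q₀ : ℕ}
    (hF₀ : Nat.card ↥F₀ = q₀) (hg : (q₀ : ZMod r) = -1) (hr35 : r = 3 ∨ r = 5)
    (hrq : r ∣ Fintype.card F - 1) (hrq2 : ¬ r * r ∣ Fintype.card F - 1) : AllConj r r F₀ := by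
  classical
  have hr2 : r ≠ 2 := by omega
  obtain ⟨-, φ, hφ, hmem⟩ := exists_frob (p := p) F₀ hF₀
  intro x ⟨z, hxr⟩ _
  have hz0 := scalar_ne_zero hr.out.pos hxr
  have hval : padicValNat r r ≤ padicValNat r (Fintype.card F - 1) := by
    rw [padicValNat_self]
    exact one_le_padicValNat_of_dvd (by have := Fintype.one_lt_card (α := F); omega) hrq
  obtain ⟨c, hc⟩ : ∃ c : F, c ^ r = z := by
    by_contra hne
    push Not at hne
    obtain ⟨k', hk', hdet⟩ := H46.Elusive.det_of_nonpower hne (H46.Elusive.toLin'_pow_eq x hxr)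
    rw [Module.finrank_fin_fun] at hk'
    rw [LinearMap.det_toLin', Matrix.SpecialLinearGroup.det_coe] at hdet
    exact H46.Elusive.no_det_one hrq hr.out.ne_zero hk' hval (fun h => absurd h hr2) hne hdet.symm
  have hc0 : c ≠ 0 := by rintro rfl; exact hz0 (by rw [← hc, zero_pow hr.out.ne_zero])
  have hNr : (c⁻¹ • (x : Matrix (Fin r) (Fin r) F)) ^ r = 1 := by
    rw [_root_.smul_pow, ← Matrix.SpecialLinearGroup.coe_pow, hxr, smul_smul, inv_pow, hc,
      inv_mul_cancel₀ hz0, one_smul]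
  let g : GL (Fin r) F := Matrix.GeneralLinearGroup.mkOfDetNeZero (c⁻¹ • (x : Matrix (Fin r) (Fin r) F))
    (by rw [Matrix.det_smul, Matrix.SpecialLinearGroup.det_coe, mul_one]
        exact pow_ne_zero _ (inv_ne_zero hc0))
  have hgr : g ^ r = 1 := Units.ext (by rw [Units.val_pow_eq_pow_val]; exact hNr)
  obtain ⟨Q, f, hQf⟩ := H42.exists_diagonalize hr.out hrq g hgr
  obtain ⟨ω, hω⟩ := exists_primitive (F := F) hrq
  obtain ⟨ψ, hψ, -, hsur⟩ := exists_char hω
  choose w hw using fun i => hsur ((f i : Fˣ) : F) (by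
    rw [← Units.val_pow_eq_pow_val, (mem_rootsOfUnity r _).1 (f i).2, Units.val_one])
  have hQf' : (c⁻¹ • (x : Matrix (Fin r) (Fin r) F)) = (Q : Matrix (Fin r) (Fin r) F) *
      Matrix.diagonal (fun i => ψ (w i)) * ((Q⁻¹ : GL (Fin r) F) : Matrix (Fin r) (Fin r) F) := by
    have h1 := congrArg Units.val hQf
    simp only [hw]
    exact h1
  have hQQ : (Q : Matrix (Fin r) (Fin r) F).det *
      ((Q⁻¹ : GL (Fin r) F) : Matrix (Fin r) (Fin r) F).det = 1 := by
    rw [← Matrix.det_mul, ← Units.val_mul, mul_inv_cancel, Units.val_one, Matrix.det_one]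
  have hprodψ : ∏ i, ψ (w i) = ψ (∑ i, w i) := by
    induction (Finset.univ : Finset (Fin r)) using Finset.induction_on with
    | empty => simp
    | insert a s ha ih => rw [Finset.prod_insert ha, Finset.sum_insert ha, AddChar.map_add_eq_mul, ih]
  have hdet := congrArg Matrix.det hQf'
  rw [Matrix.det_smul, Matrix.SpecialLinearGroup.det_coe, mul_one, Matrix.det_mul, Matrix.det_mul,
    Fintype.card_fin, Matrix.det_diagonal, hprodψ, mul_right_comm, hQQ, one_mul] at hdet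
  have hsum : ∑ i, w i = 0 := by
    refine hψ ?_
    rw [AddChar.map_zero_eq_one, ← hdet]
    have h1 : (c⁻¹) ^ (r * r) = 1 := by
      rw [pow_mul, hdet, ← AddChar.map_nsmul_eq_pow, nsmul_eq_mul, ZMod.natCast_self, zero_mul,
        AddChar.map_zero_eq_one]
    have h2 := pow_gcd_eq_one.2 ⟨h1, FiniteField.pow_card_sub_one_eq_one _ (inv_ne_zero hc0)⟩
    have hdvd : Nat.gcd (r * r) (Fintype.card F - 1) ∣ r := by
      obtain ⟨m, hm, hm'⟩ := (Nat.dvd_prime_pow hr.out).1
        (show Nat.gcd (r * r) (Fintype.card F - 1) ∣ r ^ 2 by rw [pow_two]; exact Nat.gcd_dvd_left _ _)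
      rw [hm']
      rcases (show m = 0 ∨ m = 1 ∨ m = 2 by omega) with rfl | rfl | rfl
      · simp
      · simp
      · exact absurd (by rw [← pow_two, ← hm']; exact Nat.gcd_dvd_right _ _) hrq2
    obtain ⟨d, hd⟩ := hdvd
    rw [hd, pow_mul, h2, one_pow]
  obtain ⟨b, hb⟩ : ∃ b, (Finset.univ.val.map fun i => w i - b).map (fun t => -t) =
      Finset.univ.val.map fun i => w i - b := by
    rcases hr35 with rfl | rfl
    · exact sym_three w hsum
    · exact sym_five w hsum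
  have hψ0 : ∀ t, ψ t ≠ 0 := fun t h => by
    have := AddChar.map_add_eq_mul ψ t (-t)
    rw [add_neg_cancel, AddChar.map_zero_eq_one, h, zero_mul] at this
    exact one_ne_zero this
  have hl : c * ψ b ≠ 0 := mul_ne_zero hc0 (hψ0 b)
  have hN' : (c * ψ b)⁻¹ • (x : Matrix (Fin r) (Fin r) F) = (Q : Matrix (Fin r) (Fin r) F) *
      Matrix.diagonal (fun i => ψ (w i - b)) * ((Q⁻¹ : GL (Fin r) F) : Matrix (Fin r) (Fin r) F) := by
    rw [mul_inv, mul_comm, ← smul_smul, hQf', ← Matrix.smul_mul, ← Matrix.mul_smul, ← Matrix.diagonal_smul]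
    congr 3
    funext i
    show (ψ b)⁻¹ * ψ (w i) = ψ (w i - b)
    rw [inv_mul_eq_iff_eq_mul₀ (hψ0 b), ← AddChar.map_add_eq_mul]
    congr 1
    ring
  have hψr : ∀ t, ψ t ^ r = 1 := fun t => by
    rw [← AddChar.map_nsmul_eq_pow, nsmul_eq_mul, ZMod.natCast_self, zero_mul, AddChar.map_zero_eq_one]
  refine conj_of_charpoly hr.out.pos F₀ x hl ⟨r, ?_, ?_⟩ fun i => ?_
  · intro h
    rw [CharP.cast_eq_zero_iff F p, Nat.prime_dvd_prime_iff_eq (Fact.out : p.Prime) hr.out] at h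
    subst h
    have h1 : ((Fintype.card F : ℕ) : F) = 0 := Nat.cast_card_eq_zero F
    obtain ⟨m, hm⟩ := hrq
    have h2 : Fintype.card F = p * m + 1 := by have := Fintype.card_pos (α := F); omega
    rw [h2, Nat.cast_add, Nat.cast_mul, CharP.cast_eq_zero, zero_mul, zero_add, Nat.cast_one] at h1
    exact one_ne_zero h1
  · rw [mul_inv, mul_comm, ← smul_smul, _root_.smul_pow, hNr, inv_pow, hψr, inv_one, one_smul]
  rw [hmem, hN', Matrix.coe_units_inv, Matrix.charpoly_units_conj, charpoly_scaled_diagonal]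
  have hinv : ((((Finset.univ.val.map fun i => ψ (w i - b)).map fun a => X - C a).prod).map φ) =
      ((Finset.univ.val.map fun i => ψ (w i - b)).map fun a => X - C a).prod := by
    rw [map_prod_X_sub_C]
    congr 2
    conv_rhs => rw [show (fun i => ψ (w i - b)) = ψ ∘ (fun i => w i - b) from rfl, ← Multiset.map_map, ← hb]
    rw [Multiset.map_map, Multiset.map_map, Multiset.map_map]
    refine Multiset.map_congr rfl fun j _ => ?_
    show φ (ψ (w j - b)) = ψ (-(w j - b))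
    rw [hφ, ← AddChar.map_nsmul_eq_pow, nsmul_eq_mul, hg, neg_one_mul]
  conv_rhs => rw [← hinv]
  rw [Polynomial.coeff_map]

end main

/-- Elements of odd prime order r ≠ p of PSL_n(q) and subfield subgroups. Here `T = PSL_n(F)` for a field `F` with `q = p^f` elements (`n ≥ 2`, `(n, q) ≠ (2, 2), (2, 3)`), `F₀` is the subfield with `q₀` elements where `q = q₀^k` for a prime `k`, and `H` is the subgroup of matrices of determinant 1 lying in the subfield group of `F₀` (invertible matrices over `F₀` times scalars) — a maximal subgroup of type GL_n(q₀) (the case `n = 2`, `q₀ = 2` is excluded); Ω is the set of `T`-conjugates of `H` (cosets of `H`), so an element of `T` of prime order `r` (a matrix `x` of determinant 1 with `x^r` scalar, `x` not scalar) fixes a point of Ω when some conjugate of `x` by a matrix of determinant 1 lies in `H`. Let `r ≠ p` be an odd prime dividing the index of `H`, with `(n, r) ≠ (6, 3)` and, when `r = k` divides `q₀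 − 1`, with `(n)_r ≤ (q − 1)_r`. Then every element of `T` of order `r` is conjugate in `T` into `H` if and only if `r = k`, or `k = 2`, `r = n ∈ {3, 5}` and `(q₀ + 1)_r = r`. The two excluded cases, `(n, r) = (6, 3)` and `r = k ∣ q₀ − 1` with `(n)_r > (q − 1)_r`, are ones where this criterion can fail, so they are left out. -/
theorem result {F : Type*} [Field F] [Fintype F] {p : ℕ} [Fact p.Prime] [CharP F p] {q : ℕ} (hq : Fintype.card F = q)
    (n : ℕ) (hn : 2 ≤ n) (hT : (n, q) ≠ (2, 2) ∧ (n, q) ≠ (2, 3))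
    (F₀ : Subfield F) (k q₀ : ℕ) (hk : k.Prime) (hF₀ : Nat.card ↥F₀ = q₀) (hqk : q = q₀ ^ k) (hC5 : ¬ (n = 2 ∧ q₀ = 2)) (r : ℕ) [Fact r.Prime] (hr2 : r ≠ 2) (hrp : r ≠ p) (hgap : ¬ (n = 6 ∧ r = 3)) (hgapk : r = k → r ∣ q₀ - 1 → padicValNat r n ≤ padicValNat r (q - 1)) (hΩ : r ∣ ((Cfsg.Geo.subfieldSubgroup F₀ 1).comap (Matrix.SpecialLinearGroup.toGL : Matrix.SpecialLinearGroup (Fin n) F →* GL (Fin n) F)).index) :
    (∀ x : Matrix.SpecialLinearGroup (Fin n) F,
      (∃ z : F, ((x ^ r : Matrix.SpecialLinearGroup (Fin n) F) : Matrix (Fin n) (Fin n) F) = z • (1 : Matrix (Fin n) (Fin n) F)) →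
      (∀ z : F, (x : Matrix (Fin n) (Fin n) F) ≠ z • (1 : Matrix (Fin n) (Fin n) F)) →
      ∃ P : Matrix.SpecialLinearGroup (Fin n) F, P⁻¹ * x * P ∈ ((Cfsg.Geo.subfieldSubgroup F₀ 1).comap (Matrix.SpecialLinearGroup.toGL : Matrix.SpecialLinearGroup (Fin n) F →* GL (Fin n) F))) ↔
    (r = k ∨ (k = 2 ∧ r = n ∧ (n = 3 ∨ n = 5) ∧ padicValNat r (q₀ + 1) = 1)) := by
  change AllConj n r F₀ ↔ _
  classical
  subst hq
  have hrP : r.Prime := Fact.out
  by_cases hrk : r = k
  · subst hrk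
    exact iff_of_true (allConj_eq (p := p) hF₀ hqk hr2 hrp (by omega) (hgapk rfl)) (Or.inl rfl)
  obtain ⟨⟨e, he, hpe⟩, φ, hφ, hmem⟩ := exists_frob (p := p) F₀ hF₀
  have hg0 : (q₀ : ZMod r) ≠ 0 := by
    rw [Ne, ZMod.natCast_eq_zero_iff, hpe]
    exact fun h => hrp ((Nat.prime_dvd_prime_iff_eq hrP Fact.out).1 (hrP.dvd_of_dvd_pow h))
  obtain ⟨j, hj2, hjn, hjk, hj1⟩ := exists_degree n (by omega) F₀ k q₀ r hk hrk hF₀ hqk hg0 hΩ
  have hcast : ((Fintype.card F : ℕ) : ZMod r) = (q₀ : ZMod r) ^ k := by rw [hqk, Nat.cast_pow]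
  have hq1 : 1 ≤ q₀ := hF₀ ▸ Nat.card_pos
  -- the factorisation for quadratic extensions
  have hsq : k = 2 → Fintype.card F - 1 = (q₀ + 1) * (q₀ - 1) := by
    rintro rfl
    rw [hqk, ← one_pow 2, Nat.sq_sub_sq, one_pow]
  by_cases hrq : r ∣ Fintype.card F - 1
  swap
  · refine iff_of_false (not_allConj_large hF₀ hqk hg0 (by omega) hjn hjk hj1 hrq) ?_
    rintro (h | ⟨hk2, -, -, hv⟩)
    · exact hrk h
    · refine hrq (hsq hk2 ▸ Dvd.dvd.mul_right ?_ _)
      exact dvd_of_one_le_padicValNat hv.ge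
  have hgk : (q₀ : ZMod r) ^ k = 1 := by
    rw [← hcast, ← sub_eq_zero, ← Nat.cast_one, ← Nat.cast_sub Fintype.card_pos, ZMod.natCast_eq_zero_iff]
    exact hrq
  have hg1 : (q₀ : ZMod r) ≠ 1 := fun h => hj1 (by rw [h, one_pow])
  obtain ⟨ω, hω⟩ := exists_primitive (F := F) hrq
  obtain ⟨ψ, hψ, -, -⟩ := exists_char hω
  by_cases hn2 : n = 2
  · subst hn2
    obtain rfl : j = 2 := by omega
    refine iff_of_false (not_allConj_two ψ hψ F₀ q₀ φ hφ hmem hr2 hg0 hg1 hj1) ?_
    rintro (h | ⟨-, -, h, -⟩)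
    · exact hrk h
    · omega
  by_cases hrn : r ∣ n
  swap
  · have hn0 : (n : ZMod r) ≠ 0 := fun h => hrn ((ZMod.natCast_eq_zero_iff _ _).1 h)
    refine iff_of_false (not_allConj_one ψ hψ F₀ q₀ φ hφ hmem (c := ψ (-(n : ZMod r)⁻¹)) (by omega) ?_ hg0 hg1) ?_
    · rw [← AddChar.map_nsmul_eq_pow, ← AddChar.map_add_eq_mul, nsmul_eq_mul, mul_neg,
        mul_inv_cancel₀ hn0, neg_add_cancel, AddChar.map_zero_eq_one]
    · rintro (h | ⟨-, h, -, -⟩)
      · exact hrk h
      · exact hrn (h ▸ dvd_rfl)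
  by_cases hbig : 6 ≤ n
  · refine iff_of_false ?_ ?_
    · rcases lt_or_ge r 5 with h5 | h5
      · have h3 : r = 3 := by
          have := hrP.two_le
          rcases (show r = 2 ∨ r = 3 ∨ r = 4 by omega) with h | h | h
          · exact absurd h hr2
          · exact h
          · exact absurd (h ▸ hrP) (by norm_num)
        exact not_allConj_three ψ hψ F₀ q₀ φ hφ hmem h3 (by omega) hg0 hg1
      · exact not_allConj_five ψ hψ F₀ q₀ φ hφ hmem h5 hbig hg0 hg1
    · rintro (h | ⟨-, -, h, -⟩)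
      · exact hrk h
      · omega
  -- here n = r is three or five
  have hr35 : r = n ∧ (n = 3 ∨ n = 5) := by
    have h1 := Nat.le_of_dvd (by omega) hrn
    have h2 := hrP.two_le
    obtain ⟨d, hd⟩ := hrn
    rcases (show n = 3 ∨ n = 4 ∨ n = 5 by omega) with rfl | rfl | rfl
    · have hr3 : r = 3 := ((Nat.prime_dvd_prime_iff_eq hrP (by norm_num)).1 ⟨d, hd⟩)
      exact ⟨hr3, Or.inl rfl⟩
    · exact absurd ((Nat.prime_dvd_prime_iff_eq hrP Nat.prime_two).1
        (hrP.dvd_of_dvd_pow (show r ∣ 2 ^ 2 from ⟨d, hd⟩))) hr2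
    · have hr5 : r = 5 := ((Nat.prime_dvd_prime_iff_eq hrP (by norm_num)).1 ⟨d, hd⟩)
      exact ⟨hr5, Or.inr rfl⟩
  obtain ⟨rfl, h35⟩ := hr35
  have hk2 : k = 2 := by
    have hord : orderOf (q₀ : ZMod r) = k :=
      haveI := Fact.mk hk
      orderOf_eq_prime hgk hg1
    have hdvd : k ∣ r - 1 := hord ▸ ZMod.orderOf_dvd_card_sub_one hg0
    rcases h35 with rfl | rfl
    · exact (Nat.prime_dvd_prime_iff_eq hk Nat.prime_two).1 hdvd
    · exact (Nat.prime_dvd_prime_iff_eq hk Nat.prime_two).1 (hk.dvd_of_dvd_pow (show k ∣ 2 ^ 2 from hdvd))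
  have hgm : (q₀ : ZMod r) = -1 := by
    rw [hk2] at hgk
    exact (sq_eq_one_iff.1 hgk).resolve_left hg1
  have hdp : r ∣ q₀ + 1 := by
    rw [← ZMod.natCast_eq_zero_iff, Nat.cast_add, hgm, Nat.cast_one, neg_add_cancel]
  have hcop : r.Coprime (q₀ - 1) := by
    refine hrP.coprime_iff_not_dvd.2 fun h => hg1 ?_
    rw [← ZMod.natCast_eq_zero_iff, Nat.cast_sub hq1, Nat.cast_one, sub_eq_zero] at h
    exact h
  by_cases hv : padicValNat r (q₀ + 1) = 1
  · refine iff_of_true (allConj_small (p := p) hF₀ hgm (by omega) hrq ?_) (Or.inr ⟨hk2, rfl, h35, hv⟩)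
    intro h
    rw [hsq hk2, ← pow_two] at h
    have := (Nat.Coprime.pow_left 2 hcop).dvd_of_dvd_mul_right h
    rw [padicValNat_dvd_iff_le (by omega)] at this
    omega
  · refine iff_of_false ?_ (by rintro (h | ⟨-, -, -, h⟩) <;> contradiction)
    have hge : 2 ≤ padicValNat r (q₀ + 1) := by
      have := one_le_padicValNat_of_dvd (show q₀ + 1 ≠ 0 by omega) hdp
      omega
    have hd2 : r ^ 2 ∣ Fintype.card F - 1 := by
      rw [hsq hk2]
      exact Dvd.dvd.mul_right ((padicValNat_dvd_iff_le (by omega)).2 hge) _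
    obtain ⟨γ, hγ⟩ := exists_primitive (F := F) hd2
    have hωr : IsPrimitiveRoot (γ ^ r) r := hγ.pow (pow_pos hrP.pos 2) (pow_two r)
    obtain ⟨ψ', hψ', hψ1, -⟩ := exists_char hωr
    refine not_allConj_one ψ' hψ' F₀ q₀ φ hφ hmem (c := γ⁻¹) (by omega) ?_ hg0 hg1
    rw [hψ1, inv_pow, inv_mul_cancel₀ (pow_ne_zero _ (hγ.ne_zero (pow_ne_zero 2 hrP.ne_zero)))]

end Cfsg.Agent.S5965
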