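import Cfsg.Statements.S5966
import Cfsg.Agent.H47.SubfieldConj

set_option autoImplicit false
open scoped MatrixGroups
open Cfsg

namespace Cfsg.Agent.S5966

/-- Elements of order 3 of PSL_n(q) in characteristic 3 and subfield subgroups. Here `T = PSL_n(F)` for a field `F` with `q` elements, `q` a power of 3 (`n ≥ 2`, `(n, q) ≠ (2, 2), (2, 3)`), `F₀` is the subfield with `q₀` elements where `q = q₀^k` for a prime `k`, and `H` is the subgroup of matrices of determinant 1 lying in the subfield group of `F₀` (invertible matrices over `F₀` times scalars) — a maximal subgroup of type GL_n(q₀) (the case `n = 2`, `q₀ = 2` is excluded); Ω is the set of `T`-conjugates of `H` (cosets of `H`), so an element of `T` of prime order `r` (a matrix `x` of determinant 1 with `x^r` scalar, `x` not scalar) fixes a point of Ω when some conjugate of `x` by a matrix of determinant 1 lies in `H`. Suppose 3 divides the index of `H`. Then every element of `T` of order 3 is conjugate in `T` into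 `H` if and only if `n` is odd, or `n` is even and `k > 2`. -/
theorem result {F : Type*} [Field F] [Fintype F] [CharP F 3] {q : ℕ} (hq : Fintype.card F = q)
    (n : ℕ) (hn : 2 ≤ n) (hT : (n, q) ≠ (2, 3))
    (F₀ : Subfield F) (k q₀ : ℕ) (hk : k.Prime) (hF₀ : Nat.card ↥F₀ = q₀) (hqk : q = q₀ ^ k) (hC5 : ¬ (n = 2 ∧ q₀ = 2)) (hΩ : 3 ∣ ((Cfsg.Geo.subfieldSubgroup F₀ 1).comap (Matrix.SpecialLinearGroup.toGL : Matrix.SpecialLinearGroup (Fin n) F →* GL (Fin n) F)).index) :
    (∀ x : Matrix.SpecialLinearGroup (Fin n) F,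
      (∃ z : F, ((x ^ 3 : Matrix.SpecialLinearGroup (Fin n) F) : Matrix (Fin n) (Fin n) F) = z • (1 : Matrix (Fin n) (Fin n) F)) →
      (∀ z : F, (x : Matrix (Fin n) (Fin n) F) ≠ z • (1 : Matrix (Fin n) (Fin n) F)) →
      ∃ P : Matrix.SpecialLinearGroup (Fin n) F, P⁻¹ * x * P ∈ ((Cfsg.Geo.subfieldSubgroup F₀ 1).comap (Matrix.SpecialLinearGroup.toGL : Matrix.SpecialLinearGroup (Fin n) F →* GL (Fin n) F))) ↔
    (Odd n ∨ (Even n ∧ 2 < k)) := by
  subst hq
  constructor
  · intro hall
    by_contra hcon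
    push Not at hcon
    have he : Even n := Nat.not_odd_iff_even.mp hcon.1
    have hk2 : k = 2 := le_antisymm (hcon.2 he) hk.two_le
    obtain ⟨m, hm⟩ := he
    subst hk2
    obtain ⟨x, hxd, hx3, hxs, hxP⟩ := H47.subfield_conj_not hm (by omega) hF₀ hqk
    obtain ⟨P, hP⟩ := hall ⟨(x : Matrix (Fin n) (Fin n) F), hxd⟩ ⟨1, by
      rw [one_smul]
      have := congrArg Units.val hx3
      rw [Units.val_pow_eq_pow_val, Units.val_one] at this
      exact this⟩ hxs
    apply hxP (Matrix.SpecialLinearGroup.toGL P) P.2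
    obtain ⟨X, hX⟩ : ∃ X : Matrix.SpecialLinearGroup (Fin n) F,
        X = ⟨(x : Matrix (Fin n) (Fin n) F), hxd⟩ := ⟨_, rfl⟩
    have hP' : Matrix.SpecialLinearGroup.toGL (P⁻¹ * X * P) ∈ Cfsg.Geo.subfieldSubgroup F₀ 1 := by
      rw [hX]; exact hP
    have hx : Matrix.SpecialLinearGroup.toGL X = x := by
      rw [hX]; exact Units.ext rfl
    simp only [map_mul, map_inv, hx] at hP'
    exact hP'
  · intro hcase x ⟨z, hz⟩ _
    have hcase' : Odd n ∨ 2 < k := hcase.imp_right And.right
    obtain ⟨P, hPd, hP⟩ := H47.subfield_conj_exists hF₀ hk hqk hcase'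
      (x := Matrix.SpecialLinearGroup.toGL x) x.2 (z := z) hz
    refine ⟨⟨(P : Matrix (Fin n) (Fin n) F), hPd⟩, ?_⟩
    obtain ⟨Y, hY⟩ : ∃ Y : Matrix.SpecialLinearGroup (Fin n) F,
        Y = ⟨(P : Matrix (Fin n) (Fin n) F), hPd⟩ := ⟨_, rfl⟩
    rw [← hY, Subgroup.mem_comap, map_mul, map_mul, map_inv]
    have : Matrix.SpecialLinearGroup.toGL Y = P := by rw [hY]; exact Units.ext rfl
    rw [this]
    exact hP

end Cfsg.Agent.S5966
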