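import Cfsg.Statements.S5967
import Cfsg.Agent.H47.SympInvol

set_option autoImplicit false
open scoped MatrixGroups
open Cfsg

namespace Cfsg.Agent.S5967

/-- Involutions of PSL_n(q) and the symplectic-type subgroups. Here `T = PSL_n(F)` for a field `F` with `q` elements, `n ≥ 4` even, `f` is a nondegenerate alternating form on `F^n`, and `H` is the subgroup of matrices of determinant 1 preserving `f` up to a scalar — a maximal subgroup of type Sp_n(q); Ω is the set of `T`-conjugates of `H` (cosets of `H`), so an element of `T` of prime order `r` (a matrix `x` of determinant 1 with `x^r` scalar, `x` not scalar) fixes a point of Ω when some conjugate of `x` by a matrix of determinant 1 preserves `f` up to a scalar. Suppose the index of `H` is even. Then every involution of `T` is conjugate in `T` into `H` if and only if `(q − 1)_2 ≤ (n)_2`. -/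
theorem result {F : Type*} [Field F] [Fintype F] {p : ℕ} [Fact p.Prime] [CharP F p] {q : ℕ} (hq : Fintype.card F = q)
    (n : ℕ) (hn : 4 ≤ n) (he : Even n) (f : (Fin n → F) → (Fin n → F) → F) (hf : Cfsg.Geo.IsSymplecticForm f)
    (hΩ : 2 ∣ ((Cfsg.Geo.similarityGroup f).comap (Matrix.SpecialLinearGroup.toGL : Matrix.SpecialLinearGroup (Fin n) F →* GL (Fin n) F)).index) :
    (∀ x : Matrix.SpecialLinearGroup (Fin n) F,
      (∃ z : F, ((x ^ 2 : Matrix.SpecialLinearGroup (Fin n) F) : Matrix (Fin n) (Fin n) F) = z • (1 : Matrix (Fin n) (Fin n) F)) →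
      (∀ z : F, (x : Matrix (Fin n) (Fin n) F) ≠ z • (1 : Matrix (Fin n) (Fin n) F)) →
      ∃ P : Matrix.SpecialLinearGroup (Fin n) F, P⁻¹ * x * P ∈ ((Cfsg.Geo.similarityGroup f).comap (Matrix.SpecialLinearGroup.toGL : Matrix.SpecialLinearGroup (Fin n) F →* GL (Fin n) F))) ↔
    padicValNat 2 (q - 1) ≤ padicValNat 2 n := by
  subst hq
  obtain ⟨m, hm⟩ := he
  have hnm : n = 2 * m := by omega
  have hv2 : ∀ l : F, l ≠ 0 → (2 : F) ≠ 0 →
      padicValNat 2 (Fintype.card F - 1) ≤ padicValNat 2 n → l ^ n ≠ -1 := by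
    intro l hl h2 hle hln
    have ho : orderOf (-1 : Fˣ) = 2 ^ 1 := by
      rw [pow_one]
      refine orderOf_eq_prime (by rw [neg_one_sq]) fun h => h2 ?_
      have h' := congrArg Units.val h
      simp only [Units.val_neg, Units.val_one] at h'
      linear_combination -h'
    have key := (H42.exists_pow_eq_iff_of_orderOf (n := n) (by omega) (-1 : Fˣ) 1 ho).mp
      ⟨Units.mk0 l hl, Units.ext (by simpa using hln)⟩
    rw [H42.natCard_units_field] at key
    omega
  constructor
  · intro hall
    by_contra hcon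
    push Not at hcon
    have h2 : (2 : F) ≠ 0 := by
      intro h
      have hc : ringChar F = 2 := CharP.ringChar_of_prime_eq_zero Nat.prime_two (by exact_mod_cast h)
      have hd : ¬ 2 ∣ Fintype.card F - 1 := by
        have := FiniteField.even_card_of_char_two hc
        have := Fintype.one_lt_card (α := F)
        omega
      rw [padicValNat.eq_zero_of_not_dvd hd] at hcon
      omega
    have ho : orderOf (-1 : Fˣ) = 2 ^ 1 := by
      rw [pow_one]
      refine orderOf_eq_prime (by rw [neg_one_sq]) fun h => h2 ?_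
      have h' := congrArg Units.val h
      simp only [Units.val_neg, Units.val_one] at h'
      linear_combination -h'
    obtain ⟨l, hl⟩ := (H42.exists_pow_eq_iff_of_orderOf (n := n) (by omega) (-1 : Fˣ) 1 ho).mpr (by
      rw [H42.natCard_units_field]; omega)
    let d : Fin n → F := fun i => if (i : ℕ) = 0 then -(l : F) else (l : F)
    have hdet : (Matrix.diagonal d).det = 1 := by
      obtain ⟨k, rfl⟩ : ∃ k, n = k + 1 := ⟨n - 1, by omega⟩
      rw [Matrix.det_diagonal, Fin.prod_univ_succ]
      simp only [d, Fin.val_zero, if_pos, Fin.val_succ, Nat.succ_ne_zero, if_false, Finset.prod_const,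
        Finset.card_univ, Fintype.card_fin]
      have := congrArg Units.val hl
      simp only [Units.val_pow_eq_pow_val, Units.val_neg, Units.val_one] at this
      linear_combination -this
    have hns : ∀ z : F, Matrix.diagonal d ≠ z • (1 : Matrix (Fin n) (Fin n) F) := by
      intro z hz
      have e0 := congrFun (congrFun hz ⟨0, by omega⟩) ⟨0, by omega⟩
      have e1 := congrFun (congrFun hz ⟨1, by omega⟩) ⟨1, by omega⟩
      simp [d] at e0 e1
      have : (2 : F) * (l : F) = 0 := by linear_combination e1 - e0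
      simp [h2] at this
    obtain ⟨P, hP⟩ := hall ⟨Matrix.diagonal d, hdet⟩ ⟨(l : F) * l, by
      show ((Matrix.diagonal d) ^ 2 : Matrix (Fin n) (Fin n) F) = _
      rw [pow_two, Matrix.diagonal_mul_diagonal, Matrix.smul_one_eq_diagonal]
      congr 1
      funext i
      simp only [d]
      split_ifs <;> ring⟩ hns
    obtain ⟨X, hX⟩ : ∃ X : Matrix.SpecialLinearGroup (Fin n) F, X = ⟨Matrix.diagonal d, hdet⟩ := ⟨_, rfl⟩
    have hP' : Matrix.SpecialLinearGroup.toGL (P⁻¹ * X * P) ∈ Cfsg.Geo.similarityGroup f := by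
      rw [hX]; exact hP
    simp only [map_mul, map_inv] at hP'
    exact H47.invol_sim_not hn h2 l.ne_zero hf (Matrix.SpecialLinearGroup.toGL X)
      (by rw [hX]; rfl) (Matrix.SpecialLinearGroup.toGL P) hP'
  · intro hle x ⟨z, hz⟩ hns
    have hxd : ((Matrix.SpecialLinearGroup.toGL x : GL (Fin n) F) : Matrix (Fin n) (Fin n) F).det = 1 := x.2
    have hz' : ((Matrix.SpecialLinearGroup.toGL x : GL (Fin n) F) : Matrix (Fin n) (Fin n) F)
        * (Matrix.SpecialLinearGroup.toGL x : GL (Fin n) F) = z • 1 := by
      rw [← hz, pow_two]; rfl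
    have hmain : ∃ P : GL (Fin n) F, (P : Matrix (Fin n) (Fin n) F).det = 1 ∧
        P⁻¹ * Matrix.SpecialLinearGroup.toGL x * P ∈ Cfsg.Geo.similarityGroup f := by
      by_cases h2 : (2 : F) = 0
      · haveI : CharP F 2 := (CharP.charP_iff_prime_eq_zero Nat.prime_two).2 (by exact_mod_cast h2)
        exact H47.invol_sim_two hnm hf hz' hns
      · by_cases hsq : IsSquare z
        · obtain ⟨l, rfl⟩ := hsq
          have hl : l ≠ 0 := by
            rintro rfl
            have h := congrArg Matrix.det hz'
            haveI : Nonempty (Fin n) := ⟨⟨0, by omega⟩⟩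
            rw [Matrix.det_mul, hxd, mul_one, mul_zero, zero_smul, Matrix.det_zero] at h
            exact one_ne_zero h
          exact H47.invol_sim_split hnm (by omega) h2 hf hxd hl hz' (hv2 l hl h2 hle)
        · exact H47.invol_sim_nonsquare hnm (by omega) hf hz' hsq
    obtain ⟨P, hPd, hP⟩ := hmain
    refine ⟨⟨(P : Matrix (Fin n) (Fin n) F), hPd⟩, ?_⟩
    obtain ⟨Y, hY⟩ : ∃ Y : Matrix.SpecialLinearGroup (Fin n) F,
        Y = ⟨(P : Matrix (Fin n) (Fin n) F), hPd⟩ := ⟨_, rfl⟩
    rw [← hY, Subgroup.mem_comap, map_mul, map_mul, map_inv]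
    have : Matrix.SpecialLinearGroup.toGL Y = P := by rw [hY]; exact Units.ext rfl
    rw [this]
    exact hP

end Cfsg.Agent.S5967
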