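import Cfsg.Statements.S5968
import Cfsg.Agent.H47.SympDer

set_option autoImplicit false
open scoped MatrixGroups
open Cfsg

namespace Cfsg.Agent.S5968

/-- Derangements of odd prime order of PSL_n(q) on the cosets of a symplectic-type subgroup. Here `T = PSL_n(F)` for a field `F` with `q` elements, `n ≥ 4` even, `f` is a nondegenerate alternating form on `F^n`, and `H` is the subgroup of matrices of determinant 1 preserving `f` up to a scalar — a maximal subgroup of type Sp_n(q); Ω is the set of `T`-conjugates of `H` (cosets of `H`), so an element of `T` of prime order `r` (a matrix `x` of determinant 1 with `x^r` scalar, `x` not scalar) fixes a point of Ω when some conjugate of `x` by a matrix of determinant 1 preserves `f` up to a scalar. For every odd prime `r` dividing the index of `H`, with `(n, r) ≠ (6, 3)`, there is an element of `T` of order `r` with no conjugate in `H`. (For `n = 6`, `r = 3` this can fail: when `(q − 1)_3 = 3` every element of order 3 is conjugate into `H`.)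 -/
theorem result {F : Type*} [Field F] [Fintype F] {p : ℕ} [Fact p.Prime] [CharP F p] {q : ℕ} (hq : Fintype.card F = q)
    (n : ℕ) (hn : 4 ≤ n) (he : Even n) (f : (Fin n → F) → (Fin n → F) → F) (hf : Cfsg.Geo.IsSymplecticForm f)
    (r : ℕ) [Fact r.Prime] (hr2 : r ≠ 2) (hgap : ¬ (n = 6 ∧ r = 3)) (hΩ : r ∣ ((Cfsg.Geo.similarityGroup f).comap (Matrix.SpecialLinearGroup.toGL : Matrix.SpecialLinearGroup (Fin n) F →* GL (Fin n) F)).index) :
    ∃ x : Matrix.SpecialLinearGroup (Fin n) F,
      (∃ z : F, ((x ^ r : Matrix.SpecialLinearGroup (Fin n) F) : Matrix (Fin n) (Fin n) F) = z • (1 : Matrix (Fin n) (Fin n) F)) ∧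
      (∀ z : F, (x : Matrix (Fin n) (Fin n) F) ≠ z • (1 : Matrix (Fin n) (Fin n) F)) ∧
      ∀ P : Matrix.SpecialLinearGroup (Fin n) F, P⁻¹ * x * P ∉ ((Cfsg.Geo.similarityGroup f).comap (Matrix.SpecialLinearGroup.toGL : Matrix.SpecialLinearGroup (Fin n) F →* GL (Fin n) F)) := by
  subst hq
  have hmain : ∃ x : GL (Fin n) F, (x : Matrix (Fin n) (Fin n) F).det = 1 ∧ x ^ r = 1 ∧ x ≠ 1 ∧
      ∀ P : GL (Fin n) F, P⁻¹ * x * P ∉ Cfsg.Geo.similarityGroup f := by
    by_cases hrp : r = p
    · subst hrp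
      exact H47.symp_der_unipotent hr2 hn hf
    obtain ⟨m, hm⟩ := he
    obtain rfl : n = 2 * m := by omega
    rcases H47.index_similarity_dvd rfl (by omega) hf hΩ with h | ⟨j, hj1, hjm, hj⟩
    · exfalso
      obtain ⟨k, -, hk⟩ := FiniteField.card F p
      rw [hk] at h
      exact hrp ((Nat.prime_dvd_prime_iff_eq Fact.out Fact.out).mp
        ((Fact.out : r.Prime).dvd_of_dvd_pow h))
    by_cases h1 : r ∣ Fintype.card F - 1
    · exact H47.symp_der_diagonal hr2 hn ⟨m, by omega⟩ hgap h1 hf
    · have hpow : (Fintype.card F : ZMod r) ^ (2 * j + 1) = 1 := by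
        rw [← Nat.cast_pow]
        refine Eq.trans ?_ Nat.cast_one
        rw [ZMod.natCast_eq_natCast_iff]
        exact ((Nat.modEq_iff_dvd' (Nat.one_le_pow _ _ Fintype.card_pos)).mpr hj).symm
      have hdiv := orderOf_dvd_of_pow_eq_one hpow
      have hle := Nat.le_of_dvd (by omega) hdiv
      exact H47.symp_der_block hr2 (by omega) rfl (Odd.of_dvd_nat (odd_two_mul_add_one j) hdiv) h1 hf
  obtain ⟨x, hxd, hxr, hx1, hxP⟩ := hmain
  refine ⟨⟨(x : Matrix (Fin n) (Fin n) F), hxd⟩, ⟨1, ?_⟩, ?_, ?_⟩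
  · have := congrArg Units.val hxr
    rw [Units.val_pow_eq_pow_val, Units.val_one] at this
    rw [one_smul]
    exact this
  · intro z hz
    apply hxP 1
    rw [inv_one, one_mul, mul_one]
    have hz0 : z ≠ 0 := by
      rintro rfl
      have hz' : (x : Matrix (Fin n) (Fin n) F) = (0 : F) • (1 : Matrix (Fin n) (Fin n) F) := hz
      haveI : Nonempty (Fin n) := ⟨⟨0, by omega⟩⟩
      rw [hz', zero_smul, Matrix.det_zero] at hxd
      exact zero_ne_one hxd
    refine ⟨Units.mk0 z hz0 * Units.mk0 z hz0, fun u v => ?_⟩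
    rw [show (x : Matrix (Fin n) (Fin n) F) = z • (1 : Matrix (Fin n) (Fin n) F) from hz]
    simp [Matrix.smul_mulVec, hf.bilinear.smul_left, hf.bilinear.smul_right, mul_assoc]
  · intro P hP
    apply hxP (Matrix.SpecialLinearGroup.toGL P)
    obtain ⟨X, hX⟩ : ∃ X : Matrix.SpecialLinearGroup (Fin n) F,
        X = ⟨(x : Matrix (Fin n) (Fin n) F), hxd⟩ := ⟨_, rfl⟩
    have hP' : Matrix.SpecialLinearGroup.toGL (P⁻¹ * X * P) ∈ Cfsg.Geo.similarityGroup f := by
      rw [hX]; exact hP
    have hx : Matrix.SpecialLinearGroup.toGL X = x := by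
      rw [hX]; exact Units.ext rfl
    simp only [map_mul, map_inv, hx] at hP'
    exact hP'

end Cfsg.Agent.S5968
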