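import Cfsg.Statements.S5969
import Cfsg.Agent.H47.QuadNorm
import Cfsg.Agent.H42.PowResidue
-- import your own Cfsg.Agent.* helpers here

set_option autoImplicit false
open scoped MatrixGroups Matrix
open Cfsg

namespace Cfsg.Agent.S5969

/-- Involutions of PSL_n(q) and extension-field subgroups of degree 2. Here `T = PSL_n(F)` for a field `F` with `q = p^f` elements (`n ≥ 2`, `(n, q) ≠ (2, 2), (2, 3)`), `k` is a prime dividing `n`, `K` is a subalgebra of the `n × n` matrices that is a field of degree `k` over `F` (an extension-field structure F_{q^k} on `F^n`), and `H` is the subgroup of matrices of determinant 1 normalizing `K` — a subgroup of type GL_{n/k}(q^k) (maximal except in some small cases; maximality is not assumed); Ω is the set of cosets of `H` in `T`, so an element of `T` of prime order `r` (a matrix `x` of determinant 1 with `x^r` scalar, `x` not scalar) fixes a point of Ω when some conjugate of `x` by a matrix of determinant 1 normalizes `K`. Take `k = 2` and suppose the index of `H` is even. Then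 every involution of `T` is conjugate in `T` into `H` if and only if `n = 2`, or `q` is odd and `(q − 1)_2 ≤ (n)_2`. -/
theorem result {F : Type*} [Field F] [Fintype F] {p : ℕ} [Fact p.Prime] [CharP F p] {q : ℕ} (hq : Fintype.card F = q)
    (n : ℕ) (hn : 2 ≤ n) (hT : (n, q) ≠ (2, 2) ∧ (n, q) ≠ (2, 3))
    (k : ℕ) (hk : k.Prime) (hkn : k ∣ n) (K : Subalgebra F (Matrix (Fin n) (Fin n) F)) (hK : Cfsg.Geo.IsFieldSubalgebra k K) (hk2 : k = 2) (hΩ : 2 ∣ ((Cfsg.Geo.subalgebraNormalizer K).comap (Matrix.SpecialLinearGroup.toGL : Matrix.SpecialLinearGroup (Fin n) F →* GL (Fin n) F)).index) :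
    (∀ x : Matrix.SpecialLinearGroup (Fin n) F,
      (∃ z : F, ((x ^ 2 : Matrix.SpecialLinearGroup (Fin n) F) : Matrix (Fin n) (Fin n) F) = z • (1 : Matrix (Fin n) (Fin n) F)) →
      (∀ z : F, (x : Matrix (Fin n) (Fin n) F) ≠ z • (1 : Matrix (Fin n) (Fin n) F)) →
      ∃ P : Matrix.SpecialLinearGroup (Fin n) F, P⁻¹ * x * P ∈ ((Cfsg.Geo.subalgebraNormalizer K).comap (Matrix.SpecialLinearGroup.toGL : Matrix.SpecialLinearGroup (Fin n) F →* GL (Fin n) F))) ↔
    (n = 2 ∨ (Odd q ∧ padicValNat 2 (q - 1) ≤ padicValNat 2 n)) := by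
  subst hq hk2
  haveI : NeZero n := ⟨by omega⟩
  obtain ⟨m, hm⟩ := hkn
  have hchar : (2 : F) = 0 ↔ ¬ Odd (Fintype.card F) := by
    rw [Nat.not_odd_iff_even]
    constructor
    · intro h
      rw [Nat.even_iff]
      exact FiniteField.even_card_of_char_two
        (CharP.ringChar_of_prime_eq_zero Nat.prime_two (by exact_mod_cast h))
    · intro h
      by_contra h2
      have := FiniteField.odd_card_of_char_ne_two (F := F) (by
        intro hc
        apply h2
        haveI := ringChar.charP F
        have := CharP.cast_eq_zero F (ringChar F)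
        rw [hc] at this
        exact_mod_cast this)
      rw [Nat.even_iff] at h
      omega
  have ho : (2 : F) ≠ 0 → orderOf (-1 : Fˣ) = 2 ^ 1 := by
    intro h2
    rw [pow_one]
    refine orderOf_eq_prime (by rw [neg_one_sq]) fun h => h2 ?_
    have h' := congrArg Units.val h
    simp only [Units.val_neg, Units.val_one] at h'
    linear_combination -h'
  constructor
  · intro hall
    by_contra hcon
    push Not at hcon
    obtain ⟨hn2, hcon⟩ := hcon
    have hn4 : 4 ≤ n := by omega
    let i0 : Fin n := ⟨0, by omega⟩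
    let i1 : Fin n := ⟨1, by omega⟩
    have h01 : i0 ≠ i1 := by simp [i0, i1]
    -- a multiple of `1 + (rank one)` in SL with scalar square
    obtain ⟨M, c, u, w, hc, hu, hw, hMeq, hMd, hMsq, hMns⟩ : ∃ (M : Matrix (Fin n) (Fin n) F) (c : F)
        (u w : Fin n → F), c ≠ 0 ∧ u ≠ 0 ∧ w ≠ 0 ∧ M = c • (1 + Matrix.vecMulVec u w) ∧ M.det = 1 ∧
        (∃ z : F, M * M = z • 1) ∧ ∀ z : F, M ≠ z • 1 := by
      by_cases h2 : (2 : F) = 0
      · obtain ⟨N, hN⟩ : ∃ N : Matrix (Fin n) (Fin n) F,
            N = Matrix.vecMulVec (Pi.single i0 1) (Pi.single i1 1) := ⟨_, rfl⟩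
        have hNN : N * N = 0 := by
          rw [hN, Matrix.vecMulVec_mul_vecMulVec]
          simp [h01.symm]
        obtain ⟨g, hg, -, hgSL⟩ := H42.exists_gl_one_add_sq_zero N hNN
        refine ⟨1 + N, 1, Pi.single i0 1, Pi.single i1 1, one_ne_zero, by simp, by simp,
          by rw [one_smul, hN], ?_, ⟨1, ?_⟩, fun z hz => ?_⟩
        · rw [← hg]
          rw [Cfsg.Geo.specialLinear, MonoidHom.mem_ker] at hgSL
          simpa using congrArg Units.val hgSL
        · rw [one_smul, add_mul, mul_add, mul_add, one_mul, one_mul, mul_one, hNN, add_zero, add_assoc,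
            ← two_smul F N, h2, zero_smul, add_zero]
        · have := congrFun (congrFun hz i0) i1
          simp [hN, Matrix.one_apply, h01, Matrix.vecMulVec_apply] at this
      · have hodd : Odd (Fintype.card F) := by
          by_contra h
          exact h2 (hchar.2 h)
        have hlt := hcon hodd
        obtain ⟨l, hl⟩ := (H42.exists_pow_eq_iff_of_orderOf (n := n) (by omega) (-1 : Fˣ) 1 (ho h2)).mpr (by
          rw [H42.natCard_units_field]; omega)
        have hln : (l : F) ^ n = -1 := by simpa using congrArg Units.val hl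
        let d : Fin n → F := fun i => if i = i0 then -(l : F) else (l : F)
        refine ⟨Matrix.diagonal d, l, (-2 : F) • Pi.single i0 1, Pi.single i0 1, l.ne_zero,
          smul_ne_zero (neg_ne_zero.2 h2) (by simp), by simp, ?_, ?_, ⟨(l : F) * l, ?_⟩, fun z hz => ?_⟩
        · ext i j
          rcases eq_or_ne i j with rfl | hij
          · by_cases h : i = i0
            · subst h; simp [d, Matrix.vecMulVec_apply]; ring
            · simp [d, Matrix.vecMulVec_apply, h]
          · by_cases h : i = i0
            · subst h; simp [Matrix.vecMulVec_apply, hij, hij.symm]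
            · simp [Matrix.vecMulVec_apply, hij, h]
        · rw [Matrix.det_diagonal, ← Finset.mul_prod_erase _ _ (Finset.mem_univ i0),
            Finset.prod_congr rfl (fun j hj => show d j = (l : F) by simp [d, (Finset.mem_erase.1 hj).1]),
            Finset.prod_const, Finset.card_erase_of_mem (Finset.mem_univ i0), Finset.card_univ,
            Fintype.card_fin]
          simp only [d, if_true]
          rw [neg_mul, ← pow_succ', Nat.sub_add_cancel (by omega), hln, neg_neg]
        · rw [Matrix.diagonal_mul_diagonal, Matrix.smul_one_eq_diagonal]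
          congr 1
          funext i
          simp only [d]
          split_ifs <;> ring
        · have e0 := congrFun (congrFun hz i0) i0
          have e1 := congrFun (congrFun hz i1) i1
          simp [d, h01.symm] at e0 e1
          have : (2 : F) * (l : F) = 0 := by linear_combination e1 - e0
          simp [h2] at this
    obtain ⟨X, hX⟩ : ∃ X : Matrix.SpecialLinearGroup (Fin n) F, X = ⟨M, hMd⟩ := ⟨_, rfl⟩
    obtain ⟨P, hP⟩ := hall X (by
      obtain ⟨z, hz⟩ := hMsq
      exact ⟨z, by rw [pow_two, Matrix.SpecialLinearGroup.coe_mul, hX]; exact hz⟩) (by rw [hX]; exact hMns)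
    rw [Subgroup.mem_comap, map_mul, map_mul, map_inv] at hP
    obtain ⟨Pg, hPg⟩ : ∃ Pg : GL (Fin n) F, Pg = Matrix.SpecialLinearGroup.toGL P := ⟨_, rfl⟩
    obtain ⟨Xg, hXg, hXM⟩ : ∃ Xg : GL (Fin n) F, Xg = Matrix.SpecialLinearGroup.toGL X ∧
        (Xg : Matrix (Fin n) (Fin n) F) = M := ⟨_, rfl, by rw [hX]; rfl⟩
    rw [← hPg, ← hXg] at hP
    refine H47.rankOne_not_mem_normalizer (by omega) hK hc
      (u := ((Pg⁻¹ : GL (Fin n) F) : Matrix (Fin n) (Fin n) F) *ᵥ u) (w := w ᵥ* (Pg : Matrix (Fin n) (Fin n) F))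
      ?_ ?_ ?_ hP
    · intro h
      refine hu ?_
      simpa [Matrix.mulVec_mulVec] using congrArg ((Pg : Matrix (Fin n) (Fin n) F) *ᵥ ·) h
    · intro h
      refine hw ?_
      simpa [Matrix.vecMul_vecMul] using congrArg (· ᵥ* ((Pg⁻¹ : GL (Fin n) F) : Matrix (Fin n) (Fin n) F)) h
    · rw [Units.val_mul, Units.val_mul, hXM, hMeq, mul_smul_comm, smul_mul_assoc, mul_add, add_mul, mul_one,
        Units.inv_mul, Matrix.mul_vecMulVec, Matrix.vecMulVec_mul]
  · intro hor x hxz hns
    obtain ⟨z, hz⟩ := hxz
    obtain ⟨g, hg⟩ : ∃ g : GL (Fin n) F, g = Matrix.SpecialLinearGroup.toGL x := ⟨_, rfl⟩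
    have hgd : (g : Matrix (Fin n) (Fin n) F).det = 1 := by rw [hg]; exact x.2
    have hgz : (g : Matrix (Fin n) (Fin n) F) * g = z • 1 := by rw [hg, ← hz, pow_two]; rfl
    have hgns : ∀ c : F, (g : Matrix (Fin n) (Fin n) F) ≠ c • 1 := by rw [hg]; exact hns
    obtain ⟨K', hK', hgK'⟩ : ∃ K' : Subalgebra F (Matrix (Fin n) (Fin n) F),
        Cfsg.Geo.IsFieldSubalgebra 2 K' ∧ g ∈ Cfsg.Geo.subalgebraNormalizer K' := by
      by_cases hn2 : n = 2
      · subst hn2
        exact H47.quad_normalized_two hgd hgz hgns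
      · obtain ⟨hodd, hv⟩ := hor.resolve_left hn2
        have h2 : (2 : F) ≠ 0 := fun h => hchar.1 h hodd
        by_cases hsq : IsSquare z
        · obtain ⟨l, rfl⟩ := hsq
          have hl : l ≠ 0 := by
            rintro rfl
            have h := congrArg Matrix.det hgz
            rw [Matrix.det_mul, hgd, mul_one, mul_zero, zero_smul, Matrix.det_zero] at h
            exact one_ne_zero h
          refine H47.quad_normalized_split (m := m) hm (by omega) h2 hgd hl hgz fun hln => ?_
          have key := (H42.exists_pow_eq_iff_of_orderOf (n := n) (by omega) (-1 : Fˣ) 1 (ho h2)).mp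
            ⟨Units.mk0 l hl, Units.ext (by simpa using hln)⟩
          rw [H42.natCard_units_field] at key
          omega
        · exact H47.quad_normalized_nonsquare hgz hsq
    obtain ⟨P, hPd, hP⟩ := H47.exists_sl_conj_mem_normalizer (by omega) (by omega) hK hK' hgK'
    refine ⟨⟨(P : Matrix (Fin n) (Fin n) F), hPd⟩, ?_⟩
    obtain ⟨Y, hY⟩ : ∃ Y : Matrix.SpecialLinearGroup (Fin n) F,
        Y = ⟨(P : Matrix (Fin n) (Fin n) F), hPd⟩ := ⟨_, rfl⟩
    rw [← hY, Subgroup.mem_comap, map_mul, map_mul, map_inv, ← hg]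
    have : Matrix.SpecialLinearGroup.toGL Y = P := by rw [hY]; exact Units.ext rfl
    rw [this]
    exact hP

end Cfsg.Agent.S5969
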