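import Cfsg.Statements.S5970
import Cfsg.Agent.H47.CyclicNorm
-- import your own Cfsg.Agent.* helpers here

set_option autoImplicit false
open scoped MatrixGroups Matrix
open Cfsg

namespace Cfsg.Agent.S5970

/-- Elements of order `n` of PSL_n(q), `n` prime, and the normalizer of a Singer cycle. Here `T = PSL_n(F)` for a field `F` with `q = p^f` elements (`n ≥ 2`, `(n, q) ≠ (2, 2), (2, 3)`), `k` is a prime dividing `n`, `K` is a subalgebra of the `n × n` matrices that is a field of degree `k` over `F` (an extension-field structure F_{q^k} on `F^n`), and `H` is the subgroup of matrices of determinant 1 normalizing `K` — a subgroup of type GL_{n/k}(q^k) (maximal except in some small cases; maximality is not assumed); Ω is the set of cosets of `H` in `T`, so an element of `T` of prime order `r` (a matrix `x` of determinant 1 with `x^r` scalar, `x` not scalar) fixes a point of Ω when some conjugate of `x` by a matrix of determinant 1 normalizes `K`. Take `k = n > 3` prime with `n ≠ p` (so `H` is the normalizer of a Singer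 cycle), and suppose `n` divides the index of `H`. Then every element of `T` of order `n` is conjugate in `T` into `H` if and only if the multiplicative order of `q` modulo `n` is `n − 1`. -/
theorem result {F : Type*} [Field F] [Fintype F] {p : ℕ} [Fact p.Prime] [CharP F p] {q : ℕ} (hq : Fintype.card F = q)
    (n : ℕ) (hn : 2 ≤ n) (hT : (n, q) ≠ (2, 2) ∧ (n, q) ≠ (2, 3))
    (k : ℕ) (hk : k.Prime) (hkn : k ∣ n) (K : Subalgebra F (Matrix (Fin n) (Fin n) F)) (hK : Cfsg.Geo.IsFieldSubalgebra k K) (hkn' : k = n) (hn3 : 3 < n) (hnp : n ≠ p) (hΩ : n ∣ ((Cfsg.Geo.subalgebraNormalizer K).comap (Matrix.SpecialLinearGroup.toGL : Matrix.SpecialLinearGroup (Fin n) F →* GL (Fin n) F)).index) :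
    (∀ x : Matrix.SpecialLinearGroup (Fin n) F,
      (∃ z : F, ((x ^ n : Matrix.SpecialLinearGroup (Fin n) F) : Matrix (Fin n) (Fin n) F) = z • (1 : Matrix (Fin n) (Fin n) F)) →
      (∀ z : F, (x : Matrix (Fin n) (Fin n) F) ≠ z • (1 : Matrix (Fin n) (Fin n) F)) →
      ∃ P : Matrix.SpecialLinearGroup (Fin n) F, P⁻¹ * x * P ∈ ((Cfsg.Geo.subalgebraNormalizer K).comap (Matrix.SpecialLinearGroup.toGL : Matrix.SpecialLinearGroup (Fin n) F →* GL (Fin n) F))) ↔
    orderOf (q : ZMod n) = n - 1 := by
  subst hq hkn'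
  haveI : Fact k.Prime := ⟨hk⟩
  constructor
  · intro hall
    by_contra hne
    have hq0 : (Fintype.card F : ZMod k) ≠ 0 := by
      rw [ne_eq, ZMod.natCast_eq_zero_iff]
      intro h
      obtain ⟨f, -, hpf⟩ := FiniteField.card F p
      rw [hpf] at h
      exact hnp ((Nat.prime_dvd_prime_iff_eq hk Fact.out).1 (hk.dvd_of_dvd_pow h))
    set o := orderOf (Fintype.card F : ZMod k) with ho
    have hopos : 0 < o :=
      (isOfFinOrder_iff_pow_eq_one.2 ⟨k - 1, by omega, ZMod.pow_card_sub_one_eq_one hq0⟩).orderOf_pos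
    have hodvd : o ∣ k - 1 := ZMod.orderOf_dvd_card_sub_one hq0
    have hole : o + 2 ≤ k := by
      have := Nat.le_of_dvd (by omega) hodvd
      omega
    have hF : 2 ≤ Nat.card F := Finite.one_lt_card
    have hdq : ∀ j, (Fintype.card F : ZMod k) ^ j = 1 → k ∣ Nat.card F ^ j - 1 := by
      intro j hj
      rw [Nat.card_eq_fintype_card, ← ZMod.natCast_eq_zero_iff, Nat.cast_sub (Nat.one_le_pow _ _ Fintype.card_pos),
        Nat.cast_pow, hj, Nat.cast_one, sub_self]
    obtain ⟨i, hi2, hik, hdvd⟩ : ∃ i, 2 ≤ i ∧ i + 2 ≤ k ∧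
        k ∣ Nat.card (Matrix.SpecialLinearGroup (Fin i) F) := by
      rcases Nat.lt_or_ge o 2 with h | h
      · refine ⟨2, le_rfl, by omega, ?_⟩
        have h2 : k ∣ Nat.card F ^ 2 - 1 := hdq 2 (by
          rw [orderOf_eq_one_iff.1 (show o = 1 by omega), one_pow])
        have hc := H37.card_SL_fin (F := F) 2 (by omega)
        rw [Fin.prod_univ_two] at hc
        simp only [Fin.val_zero, Fin.val_one, pow_zero, pow_one] at hc
        have : Nat.card F ^ 2 - Nat.card F = (Nat.card F - 1) * Nat.card F := by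
          rw [Nat.sub_mul, one_mul, pow_two]
        rw [this, mul_left_comm] at hc
        rw [Nat.eq_of_mul_eq_mul_left (by omega) hc]
        exact h2.mul_right _
      · refine ⟨o, h, hole, ?_⟩
        have h1 : ¬ k ∣ Nat.card F - 1 := by
          intro hd
          rw [Nat.card_eq_fintype_card, ← ZMod.natCast_eq_zero_iff, Nat.cast_sub Fintype.card_pos, sub_eq_zero,
            Nat.cast_one] at hd
          rw [ho, hd, orderOf_one] at h
          omega
        refine (hk.coprime_iff_not_dvd.2 h1).dvd_of_dvd_mul_left ?_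
        rw [H37.card_SL_fin (F := F) o (by omega)]
        refine dvd_trans ?_ (Finset.dvd_prod_of_mem _ (Finset.mem_univ (⟨0, hopos⟩ : Fin o)))
        simp only [pow_zero]
        exact hdq o (pow_orderOf_eq_one _)
    obtain ⟨M, w₁, w₂, hd, hMn, hM1, h1, h2, hw1, hw2⟩ := H47.exists_sl_order_fix hk hi2 hik hdvd
    exact H47.not_all_normalizing hk hK hall (c := 1) (by rw [one_pow, one_mul, hd]) hMn hM1 h1 h2 hw1 hw2
  · intro hq x ⟨z, hz⟩ hns
    exact H47.all_normalizing hk hK x (H47.pred_order_normalized hk (by omega) hq x hz hns)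

end Cfsg.Agent.S5970
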