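import Cfsg.Statements.S5971
import Cfsg.Agent.H47.CyclicNorm
import Cfsg.Agent.H42.PowResidue
-- import your own Cfsg.Agent.* helpers here

set_option autoImplicit false
open scoped MatrixGroups Matrix
open Cfsg

namespace Cfsg.Agent.S5971

/-- Elements of order 3 of PSL_3(q) and the normalizer of a Singer cycle. Here `T = PSL_n(F)` for a field `F` with `q = p^f` elements (`n ≥ 2`, `(n, q) ≠ (2, 2), (2, 3)`), `k` is a prime dividing `n`, `K` is a subalgebra of the `n × n` matrices that is a field of degree `k` over `F` (an extension-field structure F_{q^k} on `F^n`), and `H` is the subgroup of matrices of determinant 1 normalizing `K` — a subgroup of type GL_{n/k}(q^k) (maximal except in some small cases; maximality is not assumed); Ω is the set of cosets of `H` in `T`, so an element of `T` of prime order `r` (a matrix `x` of determinant 1 with `x^r` scalar, `x` not scalar) fixes a point of Ω when some conjugate of `x` by a matrix of determinant 1 normalizes `K`. Take `n = k = 3` and suppose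 3 divides the index of `H`. Then every element of `T` of order 3 is conjugate in `T` into `H` if and only if `q ≡ 4, 7` or `8 (mod 9)`. -/
theorem result {F : Type*} [Field F] [Fintype F] {p : ℕ} [Fact p.Prime] [CharP F p] {q : ℕ} (hq : Fintype.card F = q)
    (n : ℕ) (hn : n = 3) (k : ℕ) (hk : k.Prime) (hkn : k ∣ n) (K : Subalgebra F (Matrix (Fin n) (Fin n) F)) (hK : Cfsg.Geo.IsFieldSubalgebra k K) (hk3 : k = 3) (hΩ : 3 ∣ ((Cfsg.Geo.subalgebraNormalizer K).comap (Matrix.SpecialLinearGroup.toGL : Matrix.SpecialLinearGroup (Fin n) F →* GL (Fin n) F)).index) :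
    (∀ x : Matrix.SpecialLinearGroup (Fin n) F,
      (∃ z : F, ((x ^ 3 : Matrix.SpecialLinearGroup (Fin n) F) : Matrix (Fin n) (Fin n) F) = z • (1 : Matrix (Fin n) (Fin n) F)) →
      (∀ z : F, (x : Matrix (Fin n) (Fin n) F) ≠ z • (1 : Matrix (Fin n) (Fin n) F)) →
      ∃ P : Matrix.SpecialLinearGroup (Fin n) F, P⁻¹ * x * P ∈ ((Cfsg.Geo.subalgebraNormalizer K).comap (Matrix.SpecialLinearGroup.toGL : Matrix.SpecialLinearGroup (Fin n) F →* GL (Fin n) F))) ↔
    (q % 9 = 4 ∨ q % 9 = 7 ∨ q % 9 = 8) := by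
  classical
  subst hq hn hk3
  haveI : Fact (Nat.Prime 3) := ⟨Nat.prime_three⟩
  have hF2 : 2 ≤ Nat.card F := Finite.one_lt_card
  have hcard : Nat.card F = Fintype.card F := Nat.card_eq_fintype_card
  have hprim : ∀ w : Fˣ, w ^ 3 = 1 → w ≠ 1 → orderOf w = 3 ^ 1 := fun w h1 h2 => by
    rw [pow_one]; exact orderOf_eq_prime h1 h2
  have hv3 : ∀ w : Fˣ, w ^ 3 = 1 → w ≠ 1 → ((∃ c : Fˣ, c ^ 3 = w) ↔ 9 ∣ Fintype.card F - 1) := by
    intro w h1 h2
    rw [H42.exists_pow_eq_iff_of_orderOf (by norm_num) w 1 (hprim w h1 h2), H42.natCard_units_field,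
      padicValNat_self, show (9 : ℕ) = 3 ^ 2 by norm_num,
      padicValNat_dvd_iff_le (by omega : Fintype.card F - 1 ≠ 0)]
    omega
  constructor
  · intro hall
    by_cases h0 : Fintype.card F % 3 = 0
    · exfalso
      obtain ⟨f, hp3, hpf⟩ := FiniteField.card F p
      have hp : p = 3 := by
        have h3 : 3 ∣ p ^ (f : ℕ) := hpf ▸ Nat.dvd_of_mod_eq_zero h0
        exact ((Nat.prime_dvd_prime_iff_eq Nat.prime_three hp3).1 (Nat.prime_three.dvd_of_dvd_pow h3)).symm
      subst hp
      have h30 : (3 : F) = 0 := by exact_mod_cast CharP.cast_eq_zero F 3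
      refine H47.not_all_normalizing hk hK hall (c := 1) (M := !![1, 1, 0; 0, 1, 0; 0, 0, 1])
        (w₁ := ![1, 0, 0]) (w₂ := ![0, 0, 1]) ?_ ?_ ?_ ?_ ?_ ?_ ?_
      · simp [Matrix.det_fin_three]
      · rw [pow_succ, pow_two]
        ext i j; fin_cases i <;> fin_cases j <;>
          simp [Matrix.mul_apply, Fin.sum_univ_three, Matrix.one_apply]
        linear_combination h30
      · intro h; simpa using congrFun (congrFun h 0) 1
      · ext i; fin_cases i <;> simp [Matrix.mulVec, dotProduct, Fin.sum_univ_three]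
      · ext i; fin_cases i <;> simp [Matrix.mulVec, dotProduct, Fin.sum_univ_three]
      · intro h; simpa using congrFun h 0
      · intro a h; simpa using congrFun h 2
    by_cases h1 : Fintype.card F % 9 = 1
    · exfalso
      obtain ⟨w, hw⟩ := exists_prime_orderOf_dvd_card' (G := Fˣ) 3 (by
        rw [H42.natCard_units_field]; omega)
      have hw3 : w ^ 3 = 1 := by rw [← hw]; exact pow_orderOf_eq_one w
      have hw1 : w ≠ 1 := by rintro rfl; simp at hw
      obtain ⟨c, hc⟩ := (hv3 w⁻¹ (by rw [inv_pow, hw3, inv_one]) (by simpa using hw1)).2 (by omega)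
      refine H47.not_all_normalizing hk hK hall (c := (c : F)) (M := !![(w : F), 0, 0; 0, 1, 0; 0, 0, 1])
        (w₁ := ![0, 1, 0]) (w₂ := ![0, 0, 1]) ?_ ?_ ?_ ?_ ?_ ?_ ?_
      · have hc' := congrArg Units.val hc
        simp only [Units.val_pow_eq_pow_val] at hc'
        simp [Matrix.det_fin_three, hc']
      · have hw' := congrArg Units.val hw3
        simp only [Units.val_pow_eq_pow_val, Units.val_one] at hw'
        rw [pow_succ, pow_two]
        ext i j; fin_cases i <;> fin_cases j <;>
          simp [Matrix.mul_apply, Fin.sum_univ_three, Matrix.one_apply]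
        linear_combination hw'
      · intro h; exact hw1 (Units.ext (by simpa using congrFun (congrFun h 0) 0))
      · ext i; fin_cases i <;> simp [Matrix.mulVec, dotProduct, Fin.sum_univ_three]
      · ext i; fin_cases i <;> simp [Matrix.mulVec, dotProduct, Fin.sum_univ_three]
      · intro h; simpa using congrFun h 1
      · intro a h; simpa using congrFun h 2
    by_contra hcon
    -- now `q ≡ 2, 5` modulo 9
    have hS : ((Cfsg.Geo.subalgebraNormalizer K).comap (Matrix.SpecialLinearGroup.toGL : Matrix.SpecialLinearGroup (Fin 3) F →* GL (Fin 3) F)).index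
        * Nat.card ((Cfsg.Geo.subalgebraNormalizer K).comap (Matrix.SpecialLinearGroup.toGL : Matrix.SpecialLinearGroup (Fin 3) F →* GL (Fin 3) F))
        = Nat.card (Matrix.SpecialLinearGroup (Fin 3) F) := Subgroup.index_mul_card _
    obtain ⟨X, hX⟩ : ∃ X : Matrix.SpecialLinearGroup (Fin 3) F,
        (X : Matrix (Fin 3) (Fin 3) F) = !![0, 0, 1; 1, 0, 0; 0, 1, 0] :=
      ⟨⟨!![0, 0, 1; 1, 0, 0; 0, 1, 0], by simp [Matrix.det_fin_three]⟩, rfl⟩
    have hX3 : X ^ 3 = 1 := by
      apply Subtype.ext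
      rw [Matrix.SpecialLinearGroup.coe_pow, hX, Matrix.SpecialLinearGroup.coe_one, pow_succ, pow_two]
      ext i j; fin_cases i <;> fin_cases j <;> simp [Matrix.mul_apply, Fin.sum_univ_three]
    have hXns : ∀ z : F, (X : Matrix (Fin 3) (Fin 3) F) ≠ z • (1 : Matrix (Fin 3) (Fin 3) F) := by
      intro z h
      rw [hX] at h
      simpa using congrFun (congrFun h 1) 0
    obtain ⟨P, hP⟩ := hall X ⟨1, by rw [hX3, Matrix.SpecialLinearGroup.coe_one, one_smul]⟩ hXns
    have h3N : 3 ∣ Nat.card ((Cfsg.Geo.subalgebraNormalizer K).comap (Matrix.SpecialLinearGroup.toGL : Matrix.SpecialLinearGroup (Fin 3) F →* GL (Fin 3) F)) := by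
      have hX1 : X ≠ 1 := fun h => hXns 1 (by rw [h, Matrix.SpecialLinearGroup.coe_one, one_smul])
      have ho : orderOf (⟨_, hP⟩ : (Cfsg.Geo.subalgebraNormalizer K).comap (Matrix.SpecialLinearGroup.toGL : Matrix.SpecialLinearGroup (Fin 3) F →* GL (Fin 3) F)) = 3 := by
        refine orderOf_eq_prime (Subtype.ext ?_) (fun h => hX1 ?_)
        · show (P⁻¹ * X * P) ^ 3 = 1
          calc (P⁻¹ * X * P) ^ 3 = P⁻¹ * X ^ 3 * P := by simp [pow_succ, mul_assoc]
            _ = 1 := by rw [hX3, mul_one, inv_mul_cancel]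
        · have h' : P⁻¹ * X * P = 1 := congrArg Subtype.val h
          calc X = P * (P⁻¹ * X * P) * P⁻¹ := by group
            _ = 1 := by rw [h', mul_one, mul_inv_cancel]
      exact (dvd_of_eq ho.symm).trans (orderOf_dvd_natCard _)
    have h9 : 3 * 3 ∣ (Nat.card F - 1) * Nat.card (Matrix.SpecialLinearGroup (Fin 3) F) :=
      Dvd.dvd.mul_left (hS ▸ mul_dvd_mul hΩ h3N) _
    rw [H37.card_SL_fin (F := F) 3 (by norm_num), Fin.prod_univ_three] at h9
    simp only [Fin.val_zero, Fin.val_one, Fin.val_two, pow_zero, pow_one, hcard] at h9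
    rw [← ZMod.natCast_eq_zero_iff] at h9
    have hq1 : 1 ≤ Fintype.card F ^ 3 := Nat.one_le_pow _ _ (by omega)
    have hq2 : Fintype.card F ≤ Fintype.card F ^ 3 := Nat.le_self_pow (by norm_num) _
    have hq3 : Fintype.card F ^ 2 ≤ Fintype.card F ^ 3 := Nat.pow_le_pow_right (by omega) (by norm_num)
    rw [Nat.cast_mul, Nat.cast_mul, Nat.cast_sub hq1, Nat.cast_sub hq2, Nat.cast_sub hq3, Nat.cast_pow,
      Nat.cast_pow, Nat.cast_one, ← ZMod.natCast_mod (Fintype.card F)] at h9
    rcases (show Fintype.card F % 9 = 2 ∨ Fintype.card F % 9 = 5 by omega) with h | h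
    · rw [h] at h9; revert h9; decide
    · rw [h] at h9; revert h9; decide
  · intro hq x ⟨z, hz⟩ hns
    refine H47.all_normalizing hk hK x ?_
    rcases Nat.lt_or_ge (Fintype.card F % 9) 8 with h8 | h8
    swap
    · refine H47.pred_order_normalized hk (by norm_num) ?_ x hz hns
      rw [← ZMod.natCast_mod, show Fintype.card F % 3 = 2 by omega]
      exact orderOf_eq_prime (p := 2) (by decide) (by decide)
    rw [Matrix.SpecialLinearGroup.coe_pow] at hz
    by_cases hpow : ∃ b : F, b ^ 3 = z
    swap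
    · push Not at hpow
      exact H47.nonpower_normalized hk (x := Matrix.SpecialLinearGroup.toGL x) hz hpow
    obtain ⟨μ, rfl⟩ := hpow
    have hμ : μ ≠ 0 := by
      rintro rfl
      have h := congrArg Matrix.det hz
      rw [Matrix.det_pow, x.2, one_pow, zero_pow (by norm_num), zero_smul, Matrix.det_zero] at h
      exact one_ne_zero h
    obtain ⟨Y, hY⟩ : ∃ Y : Matrix (Fin 3) (Fin 3) F, Y = μ⁻¹ • (x : Matrix (Fin 3) (Fin 3) F) := ⟨_, rfl⟩
    have hYn : Y ^ 3 = 1 := by
      rw [hY, smul_pow, hz, smul_smul, inv_pow, inv_mul_cancel₀ (pow_ne_zero _ hμ), one_smul]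
    have hxY : (x : Matrix (Fin 3) (Fin 3) F) = μ • Y := by
      rw [hY, smul_smul, mul_inv_cancel₀ hμ, one_smul]
    have hYns : ∀ a : F, Y ≠ a • (1 : Matrix (Fin 3) (Fin 3) F) := fun a h =>
      hns (μ * a) (by rw [hxY, h, smul_smul])
    have hdY : Y.det = μ⁻¹ ^ 3 := by
      rw [hY, Matrix.det_smul, Fintype.card_fin, x.2, mul_one]
    have hd1 : Y.det = 1 := by
      by_contra hne
      have h3 : Y.det ^ 3 = 1 := by rw [← Matrix.det_pow, hYn, Matrix.det_one]
      have hd0 : Y.det ≠ 0 := fun h => by rw [h] at h3; simp at h3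
      have h9 := (hv3 (Units.mk0 _ hd0) (Units.ext (by simpa using h3))
        (fun h => hne (by simpa using congrArg Units.val h))).1
        ⟨Units.mk0 μ⁻¹ (inv_ne_zero hμ), Units.ext (by simp [hdY])⟩
      omega
    -- Cayley-Hamilton
    obtain ⟨a, b, hCH⟩ : ∃ a b : F, Y.charpoly = Polynomial.X ^ 3 + Polynomial.C a * Polynomial.X ^ 2
        + Polynomial.C b * Polynomial.X + Polynomial.C (-1 : F) := by
      refine ⟨Y.charpoly.coeff 2, Y.charpoly.coeff 1, ?_⟩
      have hdeg : Y.charpoly.natDegree = 3 := by rw [Matrix.charpoly_natDegree_eq_dim, Fintype.card_fin]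
      have h3 : Y.charpoly.coeff 3 = 1 := by
        have := (Matrix.charpoly_monic Y).coeff_natDegree
        rwa [hdeg] at this
      have h0 : Y.charpoly.coeff 0 = -1 := by
        have := Matrix.det_eq_sign_charpoly_coeff Y
        rw [hd1, Fintype.card_fin] at this
        linear_combination this
      conv_lhs => rw [Polynomial.as_sum_range_C_mul_X_pow Y.charpoly, hdeg]
      rw [Finset.sum_range_succ, Finset.sum_range_succ, Finset.sum_range_succ, Finset.sum_range_one, h3, h0,
        map_one, pow_zero, mul_one, pow_one, one_mul]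
      ring
    have hY2 : a • (Y ^ 2) + b • Y = 0 := by
      have := Matrix.aeval_self_charpoly Y
      rw [hCH] at this
      simpa [hYn, Algebra.algebraMap_eq_smul_one, add_comm, add_left_comm, ← add_assoc] using this
    have hab : a • Y + b • (1 : Matrix (Fin 3) (Fin 3) F) = 0 := by
      have h := congrArg (fun M => Y ^ 2 * M) hY2
      simp only [mul_zero, mul_add, mul_smul_comm, ← pow_succ] at h
      rw [← pow_add, show 2 + 2 = 3 + 1 by norm_num, pow_add, pow_one, hYn, one_mul] at h
      exact h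
    obtain ⟨rfl, rfl⟩ : a = 0 ∧ b = 0 := by
      have ha : a = 0 := by
        by_contra ha
        refine hYns (-b / a) ?_
        rw [div_eq_mul_inv, mul_comm, mul_smul, neg_smul, ← eq_neg_of_add_eq_zero_left hab,
          inv_smul_smul₀ ha]
      subst ha
      rw [zero_smul, zero_add] at hab
      exact ⟨rfl, (smul_eq_zero.1 hab).resolve_right one_ne_zero⟩
    obtain ⟨w, hw⟩ := exists_prime_orderOf_dvd_card' (G := Fˣ) 3 (by
      rw [H42.natCard_units_field]; omega)
    let r : Fin 3 → F := fun j => ((w ^ (j : ℕ) : Fˣ) : F)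
    have hr : Function.Injective r := fun i j h => by
      have h' := pow_inj_mod.1 (Units.ext h)
      rw [hw, Nat.mod_eq_of_lt i.isLt, Nat.mod_eq_of_lt j.isLt] at h'
      exact Fin.ext h'
    have hr3 : ∀ j, r j ^ 3 = 1 := fun j => by
      simp only [r]
      rw [← Units.val_pow_eq_pow_val, ← pow_mul, mul_comm, pow_mul, orderOf_dvd_iff_pow_eq_one.1 hw.dvd, one_pow,
        Units.val_one]
    have hev : ∀ j, ∃ v : Fin 3 → F, v ≠ 0 ∧ Y *ᵥ v = r j • v := by
      intro j
      have h : (Matrix.scalar (Fin 3) (r j) - Y).det = 0 := by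
        rw [← Matrix.eval_charpoly, hCH]
        simp [hr3]
      obtain ⟨v, hv, hv'⟩ := Matrix.exists_mulVec_eq_zero_iff.2 h
      refine ⟨v, hv, ?_⟩
      rw [Matrix.sub_mulVec, sub_eq_zero, Matrix.scalar_apply, ← Matrix.smul_one_eq_diagonal,
        Matrix.smul_mulVec, Matrix.one_mulVec] at hv'
      exact hv'.symm
    choose v hv0 hv using hev
    exact H47.cyclic_normalized (by norm_num) hμ (x := Matrix.SpecialLinearGroup.toGL x) hxY hYn (∑ j, v j)
      fun g hg h => H47.cyclic_of_eigen hr hv0 hv (by simpa using hg) h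

end Cfsg.Agent.S5971
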