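import Cfsg.Statements.S5972
import Cfsg.Agent.H47.OrthTSTargets
-- import your own Cfsg.Agent.* helpers here

set_option autoImplicit false
open scoped MatrixGroups
open Cfsg

namespace Cfsg.Agent.S5972

/-- Elements of prime order of Ω_n(q), n = 2d+1 ≥ 7, q odd, with no fixed totally singular `m`-space. Here `T = Ω_n(q)` is realised as the commutator subgroup of the isometry group of the quadratic form `x₀² + Σ xᵢyᵢ` over the field `F` with `q` elements (it has trivial centre, so its elements of prime order `r` are used directly); let `1 ≤ m ≤ d` and let `r` be a prime dividing the number of totally singular `m`-spaces. For `r ≠ p` let `i` be the multiplicative order of `q` modulo `r`, `c = i` for `i` even and `c = 2i` for `i` odd, and write `k = n mod c`, `ℓ = m mod i`, `n' = ⌊n/i⌋`, `m' = ⌊m/i⌋`, `t = (r−1)/i`. Then every element of `T` of order `r` fixes some totally singular `m`-space if and only if either (i) `r = 2` and (`m < (n−1)/2` or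 `q ≡ 1 (mod 4)`); or (ii) `r ≠ p` is odd, `i ≤ m`, `k > 2ℓ`, and (`i` is odd or `n' − 2m' ≥ t`). -/
theorem result {F : Type*} [Field F] [Fintype F] {p : ℕ} [Fact p.Prime] [CharP F p] {q : ℕ} (hq : Fintype.card F = q) (hqodd : Odd q)
    (d m : ℕ) (hd : 3 ≤ d) (hm : 1 ≤ m) (hmd : m ≤ d)
    (r : ℕ) [Fact r.Prime]
    (hrΩ : r ∣ Nat.card {W : Submodule F (Unit ⊕ (Fin d ⊕ Fin d) → F) // Module.finrank F ↥W = m ∧ (∀ w ∈ W, Cfsg.quadFormOdd d F w = 0)})
    (i c : ℕ) (hi : i = orderOf (q : ZMod r)) (hc : c = if Even i then i else 2 * i) :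
    (∀ x : GL (Unit ⊕ (Fin d ⊕ Fin d)) F, x ∈ Cfsg.Geo.omegaGL (Cfsg.quadFormOdd d F) → orderOf x = r →
      ∃ W : Submodule F (Unit ⊕ (Fin d ⊕ Fin d) → F), Module.finrank F ↥W = m ∧ (∀ w ∈ W, Cfsg.quadFormOdd d F w = 0) ∧
        W.map (Matrix.toLin' (x : Matrix (Unit ⊕ (Fin d ⊕ Fin d)) (Unit ⊕ (Fin d ⊕ Fin d)) F)) ≤ W) ↔
    ((r = 2 ∧ (m < d ∨ q % 4 = 1)) ∨
     (r ≠ p ∧ 2 < r ∧ i ≤ m ∧ 2 * (m % i) < (2 * d + 1) % c ∧ (Odd i ∨ (r - 1) / i + 2 * (m / i) ≤ (2 * d + 1) / i))) := by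
  classical
  subst hq
  have hrpr : r.Prime := Fact.out
  have h2 : (2 : F) ≠ 0 := H47.two_ne_of_odd hqodd
  have hQ := H43.qOdd_nondeg h2 d
  have hN : Module.finrank F (Unit ⊕ (Fin d ⊕ Fin d) → F) = 2 * d + 1 := H43.finrank_qOdd d
  have hts : ∀ W : Submodule F (Unit ⊕ (Fin d ⊕ Fin d) → F),
      (Module.finrank F W = m ∧ ∀ w ∈ W, H43.qOdd d F w = 0) ↔ H47.IsTSIn (H43.qOdd d F) ⊤ m W := fun W => by
    simp [H47.IsTSIn]
  simp only [← H43.coe_qOdd, ← and_assoc, hts] at hrΩ ⊢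
  simp only [and_assoc]
  have hrp : r ≠ p := by
    rintro rfl
    exact H47.not_dvd_card_ts (p := r) hQ (m := m) (by rw [hN]; omega)
      (by rw [Nat.card_congr (Equiv.subtypeEquivRight hts)]; exact hrΩ)
  by_cases hr2 : r = 2
  · subst hr2
    have hodd : Fintype.card F % 2 = 1 := Nat.odd_iff.mp hqodd
    have hsq := (H47.isSquare_data h2).1
    by_cases hc : m < d ∨ Fintype.card F % 4 = 1
    · refine iff_of_true ?_ (Or.inl ⟨rfl, hc⟩)
      intro x hx hord
      rw [H45.omegaGL_eq_map] at hx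
      obtain ⟨g, hg, rfl⟩ := hx
      rw [orderOf_injective _ (H45.toGL_injective _)] at hord
      have hg2 : g ^ 2 = 1 := hord ▸ pow_orderOf_eq_one g
      obtain ⟨W, hW, hWi⟩ : ∃ W, H47.IsTSIn (H43.qOdd d F) ⊤ m W ∧ H47.Inv g W := by
        rcases hc with hc | hc
        · exact H47.invol_ts_small hQ h2 hg2 (by rw [hN]; omega)
        · obtain ⟨h, hh, ht⟩ := H47.invol_commutator hQ h2 (by rw [hN]; omega) hg2 hg
          exact H47.invol_ts_max hQ h2 hg2 (Or.inl hN) hh (ht.mpr (Or.inl (hsq.mpr hc))) hmd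
      exact ⟨W, hW, (H47.map_toGL_le_iff g W).mpr hWi⟩
    · refine iff_of_false (fun hall => ?_) (by rintro (⟨-, h⟩ | ⟨-, h, -⟩) <;> [exact hc h; omega])
      obtain ⟨g, hg, hg2, hgd, hgt⟩ := H47.exists_invol_plane hQ h2 (by rw [hN]; omega)
      have hne : g ≠ 1 := fun e => by rw [e, H43.resid_one, finrank_bot] at hgd; omega
      obtain ⟨W, hW, hWx⟩ := hall (H45.toGL _ g) (by rw [H45.omegaGL_eq_map]; exact ⟨g, hg, rfl⟩)
        (by rw [orderOf_injective _ (H45.toGL_injective _)]; exact orderOf_eq_prime hg2 hne)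
      have := H47.no_ts_of_minus_plane hQ h2 hg2 hgd (fun hp => hc (Or.inr (hsq.mp (hgt.mp hp)))) hW
        ((H47.map_toGL_le_iff g W).mp hWx)
      rw [hN] at this
      rcases this with h | ⟨h, -⟩ <;> omega
  rw [H47.omega_reduce_order hQ (by simp; omega) hr2,
    H47.crit_ts_arith hQ hr2 (H47.not_dvd_card hrp) hi hc hN (T := H47.PlusOn (H43.qOdd d F) ⊤) Iff.rfl (by omega) hrΩ]
  have h2r : 2 < r := by have := hrpr.two_le; omega
  rcases Nat.even_or_odd i with hie | hio
  · rw [if_pos hie] at hc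
    subst hc
    have hk : (2 * d + 1) % c % 2 = 1 := by
      obtain ⟨j, hj⟩ := hie
      rw [Nat.mod_mod_of_dvd _ ⟨j, by omega⟩]; omega
    simp only [hie, Nat.not_odd_iff_even.mpr hie, hr2, hrp, h2r, false_and, false_or, true_and, ne_eq, not_false_eq_true,
      Nat.even_iff, Nat.odd_iff]
    by_cases hT : H47.PlusOn (H43.qOdd d F) ⊤ <;> simp only [hT, true_iff, false_iff] <;> omega
  · rw [if_neg (Nat.not_even_iff_odd.mpr hio)] at hc
    subst hc
    have hk : (2 * d + 1) % (2 * i) % 2 = 1 := by rw [Nat.mod_mod_of_dvd _ (dvd_mul_right 2 i)]; omega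
    simp only [hio, Nat.not_even_iff_odd.mpr hio, hr2, hrp, h2r, false_and, false_or, or_false, true_and, true_or, and_true,
      ne_eq, not_false_eq_true]
    by_cases hT : H47.PlusOn (H43.qOdd d F) ⊤ <;>
      simp only [hT, not_true, not_false_eq_true, and_true, and_false, or_false, false_or] <;> omega

end Cfsg.Agent.S5972
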