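import Cfsg.Statements.S5973
import Cfsg.Agent.H47.OrthTSTargets
-- import your own Cfsg.Agent.* helpers here

set_option autoImplicit false
open scoped MatrixGroups
open Cfsg

namespace Cfsg.Agent.S5973

/-- Elements of prime order of PΩ⁺_n(q), n = 2d ≥ 8, with no fixed totally singular `m`-space, `m < n/2`. Here `T = PΩ⁺_n(q)` is realised through `Ω⁺_n(q)`, the commutator subgroup of the isometry group of the quadratic form `Σ xᵢyᵢ` over the field `F` with `q` elements; an element of `T` of prime order `r` is an element `x` of `Ω⁺_n(q)` with `x^r` scalar and `x` not scalar. Let `1 ≤ m < d` and let `r` be a prime dividing the number of totally singular `m`-spaces. For `r ≠ p` let `i` be the multiplicative order of `q` modulo `r`, `c = i` for `i` even and `c = 2i` for `i` odd, and write `k = n mod c`, `ℓ = m mod i`, `n' = ⌊n/i⌋`, `m' = ⌊m/i⌋`, `t = (r−1)/i`. Then every element of `T` of order `r` fixes some totally singular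 `m`-space if and only if one of: (i) `r = 2 ≠ p` and either `q ≡ 1 (mod 4)`, or `q ≡ 3 (mod 4)`, `m ≤ n/2 − 2` and (`m` even or `n ≡ 2 (mod 4)`); (ii) `r ≠ p` odd, `i` odd, `i ≤ m` and `k ≥ 2ℓ`; (iii) `r ≠ p` odd, `i` even, `i ≤ m`, `n' − 2m' ≥ t`, and one of: `i ≥ 2ℓ`, `k = 0`, `n/i` odd and `n' − 2m' > t`; or `k ≥ 2ℓ` and `n'` even; or `k > 2ℓ` and `n'` odd. -/
theorem result {F : Type*} [Field F] [Fintype F] {p : ℕ} [Fact p.Prime] [CharP F p] {q : ℕ} (hq : Fintype.card F = q)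
    (d m : ℕ) (hd : 4 ≤ d) (hm : 1 ≤ m) (hmd : m < d)
    (r : ℕ) [Fact r.Prime]
    (hrΩ : r ∣ Nat.card {W : Submodule F (Fin d ⊕ Fin d → F) // Module.finrank F ↥W = m ∧ (∀ w ∈ W, Cfsg.quadFormPlus d F w = 0)})
    (i c : ℕ) (hi : i = orderOf (q : ZMod r)) (hc : c = if Even i then i else 2 * i) :
    (∀ x : GL (Fin d ⊕ Fin d) F, x ∈ Cfsg.Geo.omegaGL (Cfsg.quadFormPlus d F) →
      (∃ z : F, ((x ^ r : GL (Fin d ⊕ Fin d) F) : Matrix (Fin d ⊕ Fin d) (Fin d ⊕ Fin d) F) = z • (1 : Matrix (Fin d ⊕ Fin d) (Fin d ⊕ Fin d) F)) →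
      (∀ z : F, (x : Matrix (Fin d ⊕ Fin d) (Fin d ⊕ Fin d) F) ≠ z • (1 : Matrix (Fin d ⊕ Fin d) (Fin d ⊕ Fin d) F)) →
      ∃ W : Submodule F (Fin d ⊕ Fin d → F), Module.finrank F ↥W = m ∧ (∀ w ∈ W, Cfsg.quadFormPlus d F w = 0) ∧
        W.map (Matrix.toLin' (x : Matrix (Fin d ⊕ Fin d) (Fin d ⊕ Fin d) F)) ≤ W) ↔
    ((r = 2 ∧ p ≠ 2 ∧ (q % 4 = 1 ∨ (q % 4 = 3 ∧ m + 2 ≤ d ∧ (Even m ∨ (2 * d) % 4 = 2)))) ∨
     (r ≠ p ∧ 2 < r ∧ Odd i ∧ i ≤ m ∧ 2 * (m % i) ≤ (2 * d) % c) ∨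
     (r ≠ p ∧ 2 < r ∧ Even i ∧ i ≤ m ∧ (r - 1) / i + 2 * (m / i) ≤ (2 * d) / i ∧
       ((2 * (m % i) ≤ i ∧ (2 * d) % c = 0 ∧ Odd ((2 * d) / i) ∧ (r - 1) / i + 2 * (m / i) < (2 * d) / i) ∨
        (2 * (m % i) ≤ (2 * d) % c ∧ Even ((2 * d) / i)) ∨
        (2 * (m % i) < (2 * d) % c ∧ Odd ((2 * d) / i))))) := by
  classical
  subst hq
  have hrpr : r.Prime := Fact.out
  have hQ := H43.qPlus_nondeg (F := F) d
  have hN : Module.finrank F (Fin d ⊕ Fin d → F) = 2 * d := H43.finrank_qPlus d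
  have hTV := H47.plusOn_qPlus d F
  have hts : ∀ W : Submodule F (Fin d ⊕ Fin d → F),
      (Module.finrank F W = m ∧ ∀ w ∈ W, H43.qPlus d F w = 0) ↔ H47.IsTSIn (H43.qPlus d F) ⊤ m W := fun W => by
    simp [H47.IsTSIn]
  simp only [← H43.coe_qPlus, ← and_assoc, hts] at hrΩ ⊢
  simp only [and_assoc]
  have hrp : r ≠ p := by
    rintro rfl
    exact H47.not_dvd_card_ts (p := r) hQ (m := m) (by rw [hN]; omega)
      (by rw [Nat.card_congr (Equiv.subtypeEquivRight hts)]; exact hrΩ)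
  by_cases hr2 : r = 2
  · subst hr2
    have hp2 : p ≠ 2 := Ne.symm hrp
    have h2 : (2 : F) ≠ 0 := fun h => hp2
      ((Nat.prime_dvd_prime_iff_eq Fact.out Nat.prime_two).mp ((CharP.cast_eq_zero_iff F p 2).mp (by exact_mod_cast h)))
    have hodd : Fintype.card F % 2 = 1 := FiniteField.odd_card_of_char_ne_two (by rw [ringChar.eq F p]; exact hp2)
    have hsq := (H47.isSquare_data h2).1
    obtain ⟨v₀, hv₀⟩ := H43.exists_qmap_eq hQ (by rw [hN]; omega) 1 one_ne_zero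
    rw [H47.omega_reduce_two_full _ (v₀ := v₀) (by rw [hv₀]; exact one_ne_zero) h2
      ((H47.exists_ts_iff (H47.ndOn_top hQ) m).mpr (Or.inl (by rw [finrank_top, hN]; omega))),
      H47.crit_ts_i hQ h2 hN (by omega) (by omega), iff_true_intro hTV, true_iff, hsq, (H47.isSquare_data h2).2]
    by_cases hc : m + 2 ≤ d ∨ Fintype.card F % 4 = 1
    · have hA : ∀ g ∈ commutator (H43.orthGroup (H43.qPlus d F)), g ^ 2 = 1 →
          ∃ W, H47.IsTSIn (H43.qPlus d F) ⊤ m W ∧ H47.Inv g W := fun g hg hg2 => by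
        rcases hc with hc | hc
        · exact H47.invol_ts_small hQ h2 hg2 (by rw [hN]; omega)
        · obtain ⟨h, hh, ht⟩ := H47.invol_commutator hQ h2 (by rw [hN]; omega) hg2 hg
          exact H47.invol_ts_max hQ h2 hg2 (Or.inr ⟨hN, hTV⟩) hh (ht.mpr (Or.inl (hsq.mpr hc))) (by omega)
      rw [and_iff_right hA]
      simp only [Nat.lt_irrefl, false_and, and_false, or_false, true_and, ne_eq, hp2, not_false_eq_true, Nat.even_iff]
      omega
    · refine iff_of_false (fun ⟨hall, _⟩ => ?_) ?_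
      · obtain ⟨g, hg, hg2, hgd, hgt⟩ := H47.exists_invol_plane hQ h2 (by rw [hN]; omega)
        obtain ⟨W, hW, hWi⟩ := hall g hg hg2
        have hnp : ¬ H47.PlusOn (H43.qPlus d F) (H43.resid g) := fun hp => hc (Or.inr (hsq.mp (hgt.mp hp)))
        obtain ⟨-, -, hsum, htype⟩ := H47.invol_spaces hQ h2 hg2
        have hKp : ¬ H47.PlusOn (H43.qPlus d F) (LinearMap.ker (H43.resMap g)) := fun hp =>
          hnp (((htype ⟨d - 1, by omega⟩ ⟨1, by omega⟩).mp hTV).mp hp)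
        have := H47.no_ts_of_minus_plane hQ h2 hg2 hgd hnp hW hWi
        rw [hN] at this
        rcases this with h | ⟨-, h⟩
        · omega
        · exact hKp h
      · rintro (⟨-, -, h⟩ | ⟨-, h, -⟩ | ⟨-, h, -⟩) <;> [exact hc (by omega); omega; omega]
  rw [H47.omega_reduce hQ (by simp; omega) hr2,
    H47.crit_ts_arith hQ hr2 (H47.not_dvd_card hrp) hi hc hN (iff_true_intro hTV) (by omega) hrΩ]
  have h2r : 2 < r := by have := hrpr.two_le; omega
  rcases Nat.even_or_odd i with hie | hio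
  · simp only [hie, Nat.not_odd_iff_even.mpr hie, hr2, hrp, h2r, true_iff, false_and, and_false, false_or, or_false, true_and,
      ne_eq, not_false_eq_true, not_true, Nat.even_iff, Nat.odd_iff]
  · simp only [hio, Nat.not_even_iff_odd.mpr hio, hr2, hrp, h2r, false_and, and_false, false_or, or_false, true_and, and_true,
      ne_eq, not_false_eq_true, not_true]
    omega

end Cfsg.Agent.S5973
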