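import Cfsg.Statements.S5974
import Cfsg.Agent.H47.OrthEven
import Cfsg.Agent.H47.OrthInvol
import Cfsg.Agent.H47.OrthEvenTwo
import Cfsg.Agent.H47.OrthEvenData
import Cfsg.Agent.H47.OrthUniTwoOdd

set_option autoImplicit false
open scoped MatrixGroups
open Cfsg

namespace Cfsg.Agent.S5974

/-- Elements of prime order of PΩ⁺_n(q), n = 2d ≥ 8, with no fixed nondegenerate hyperbolic `m`-space. Here `T = PΩ⁺_n(q)` is realised through `Ω⁺_n(q)`, the commutator subgroup of the isometry group of `Q = Σ xᵢyᵢ` over the field `F` with `q` elements; an element of `T` of prime order `r` is an element `x` of `Ω⁺_n(q)` with `x^r` scalar and `x` not scalar. A hyperbolic `m`-space is a subspace `W` of even dimension `m` on which the polar form of `Q` is nondegenerate and which contains a totally singular subspace of dimension `m/2`. Let `m` be even with `2 ≤ m < n/2`, and let `r` be a prime dividing the number of hyperbolic `m`-spaces, with `r = 2` or `r ≠ p`. For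 `r ≠ p` let `i` be the multiplicative order of `q` modulo `r`, `c = i` for `i` even and `c = 2i` for `i` odd, and write `k = n mod c`, `ℓ' = m mod c`. Then every element of `T` of order `r` fixes some hyperbolic `m`-space if and only if one of: (i) `r = 2` and (`n ≡ 2 (mod 4)`, or `m ≡ 0 (mod 4)`, or `q ≡ 1 (mod 4)`); (ii) `r ≠ p` odd, `i` odd, `c ≤ m` and `k ≥ ℓ'`; (iii) `r ≠ p` odd, `i` even, and either `k = 0` and (`n/i` odd, or `ℓ' = 0` and `m/i` even), or `i ≤ m` and (`k > ℓ' > 0`, or `k = ℓ' > 0` and `(n + m − 2k)/i` even, or `k > ℓ' = 0` and `m/i` even). -/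
theorem result {F : Type*} [Field F] [Fintype F] {p : ℕ} [Fact p.Prime] [CharP F p] {q : ℕ} (hq : Fintype.card F = q)
    (d m : ℕ) (hd : 4 ≤ d) (hm : 2 ≤ m) (hme : Even m) (hmd : m < d)
    (r : ℕ) [Fact r.Prime] (hr : r = 2 ∨ r ≠ p)
    (hrΩ : r ∣ Nat.card {W : Submodule F (Fin d ⊕ Fin d → F) // (Module.finrank F ↥W = m ∧ (∀ u ∈ W, u ≠ 0 → ∃ v ∈ W, QuadraticMap.polar (Cfsg.quadFormPlus d F) u v ≠ 0) ∧
          ∃ U : Submodule F (Fin d ⊕ Fin d → F), U ≤ W ∧ 2 * Module.finrank F ↥U = m ∧ ∀ u ∈ U, Cfsg.quadFormPlus d F u = 0)})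
    (i c : ℕ) (hi : i = orderOf (q : ZMod r)) (hc : c = if Even i then i else 2 * i) :
    (∀ x : GL (Fin d ⊕ Fin d) F, x ∈ Cfsg.Geo.omegaGL (Cfsg.quadFormPlus d F) →
      (∃ z : F, ((x ^ r : GL (Fin d ⊕ Fin d) F) : Matrix (Fin d ⊕ Fin d) (Fin d ⊕ Fin d) F) = z • (1 : Matrix (Fin d ⊕ Fin d) (Fin d ⊕ Fin d) F)) →
      (∀ z : F, (x : Matrix (Fin d ⊕ Fin d) (Fin d ⊕ Fin d) F) ≠ z • (1 : Matrix (Fin d ⊕ Fin d) (Fin d ⊕ Fin d) F)) →
      ∃ W : Submodule F (Fin d ⊕ Fin d → F), (Module.finrank F ↥W = m ∧ (∀ u ∈ W, u ≠ 0 → ∃ v ∈ W, QuadraticMap.polar (Cfsg.quadFormPlus d F) u v ≠ 0) ∧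
          ∃ U : Submodule F (Fin d ⊕ Fin d → F), U ≤ W ∧ 2 * Module.finrank F ↥U = m ∧ ∀ u ∈ U, Cfsg.quadFormPlus d F u = 0) ∧
        W.map (Matrix.toLin' (x : Matrix (Fin d ⊕ Fin d) (Fin d ⊕ Fin d) F)) ≤ W) ↔
    ((r = 2 ∧ ((2 * d) % 4 = 2 ∨ m % 4 = 0 ∨ q % 4 = 1)) ∨
     (r ≠ p ∧ 2 < r ∧ Odd i ∧ c ≤ m ∧ m % c ≤ (2 * d) % c) ∨
     (r ≠ p ∧ 2 < r ∧ Even i ∧
       (((2 * d) % c = 0 ∧ (Odd ((2 * d) / i) ∨ (m % c = 0 ∧ Even (m / i)))) ∨
        (i ≤ m ∧ ((m % c < (2 * d) % c ∧ 0 < m % c) ∨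
                  ((2 * d) % c = m % c ∧ 0 < m % c ∧ Even ((2 * d + m - 2 * ((2 * d) % c)) / i)) ∨
                  (0 < (2 * d) % c ∧ m % c = 0 ∧ Even (m / i))))))) := by
  classical
  subst hq
  have hrpr : r.Prime := Fact.out
  have hQ := H43.qPlus_nondeg (F := F) d
  have hN : Module.finrank F (Fin d ⊕ Fin d → F) = 2 * d := H43.finrank_qPlus d
  have hcard : 5 ≤ Fintype.card (Fin d ⊕ Fin d) := by simp; omega
  have hTV : H47.PlusOn (H43.qPlus d F) (⊤ : Submodule F (Fin d ⊕ Fin d → F)) ↔ True :=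
    iff_true_intro (H47.plusOn_qPlus d F)
  simp only [← H43.coe_qPlus, H47.clsEven_plus_iff_alt] at hrΩ ⊢
  by_cases hr2 : r = 2
  · subst hr2
    by_cases hp2 : p = 2
    · subst hp2
      have h20 : (2 : F) = 0 := by exact_mod_cast CharP.cast_eq_zero F 2
      rw [H47.crit_char2_same hQ h20 hN hd hme (by omega) (by omega) hTV]
      have hq2 := H47.card_mod_two (F := F)
      simp only [true_imp_iff, not_true_eq_false, false_imp_iff, and_true, ne_eq, Nat.lt_irrefl, false_and, and_false,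
        or_false, true_and, Nat.odd_iff]
      obtain ⟨j, hj⟩ := hme
      constructor <;> intro h <;> omega
    · have h2 : (2 : F) ≠ 0 := fun h => hp2
        ((Nat.prime_dvd_prime_iff_eq Fact.out Nat.prime_two).mp ((CharP.cast_eq_zero_iff F p 2).mp (by exact_mod_cast h)))
      have hq2 : Fintype.card F % 2 = 1 := FiniteField.odd_card_of_char_ne_two (by
        rw [ringChar.eq F p]; exact hp2)
      rw [H47.crit_two_even hQ h2 hN (by omega) hme (by omega) (by omega) True, iff_true_intro (H47.plusOn_qPlus d F),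
        (H47.isSquare_data h2).1, (H47.isSquare_data h2).2]
      simp only [true_iff, Nat.lt_irrefl, false_and, and_false, or_false, true_and, Nat.even_iff]
      obtain ⟨j, hj⟩ := hme
      constructor <;> intro h <;> omega
  have hrp : r ≠ p := hr.resolve_left hr2
  rw [H47.omega_reduce hQ hcard hr2]
  have h2r : 2 < r := by have := hrpr.two_le; omega
  refine H47.crit_even_dim hQ hr2 (H47.not_dvd_card hrp) hi hc hN (even_two_mul d) hme (by omega) (by omega) hTV hrΩ _ ?_ ?_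
  · rcases Nat.even_or_odd i with hie | hio
    · rw [if_pos hie] at hc
      subst hc
      by_cases hk : (2 * d) % c = m % c
      · rw [H47.div_sum_sub (Nat.pos_of_ne_zero fun e => by subst e; simp at hk; omega) hk.symm]
        simp [hie, hr2, hrp, h2r, Nat.not_odd_iff_even.mpr hie, Nat.even_iff, Nat.odd_iff, hk]
        omega
      · simp [hie, hr2, hrp, h2r, Nat.not_odd_iff_even.mpr hie, Nat.even_iff, Nat.odd_iff, hk]
        omega
    · simp [hio, hr2, hrp, h2r, Nat.not_even_iff_odd.mpr hio]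
      omega
  · intro hcm
    rcases Nat.even_or_odd i with hie | hio
    · rw [if_pos hie] at hc
      subst hc
      by_cases hk : (2 * d) % c = m % c
      · rw [H47.div_sum_sub (Nat.pos_of_ne_zero fun e => by subst e; simp at hk; omega) hk.symm]
        simp [hie, hr2, hrp, h2r, hcm, Nat.not_odd_iff_even.mpr hie, Nat.even_iff, Nat.odd_iff, hk]
        omega
      · simp [hie, hr2, hrp, h2r, hcm, Nat.not_odd_iff_even.mpr hie, Nat.even_iff, Nat.odd_iff, hk]
        omega
    · simp [hio, hr2, hrp, h2r, hcm, Nat.not_even_iff_odd.mpr hio]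
      omega

end Cfsg.Agent.S5974
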