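import Cfsg.Statements.S5979
import Cfsg.Agent.H47.TensorSL

set_option autoImplicit false
open scoped MatrixGroups Matrix Kronecker
open Cfsg

namespace Cfsg.Agent.S5979

/-- Elements of prime order of PSL_n(q) and the stabilizers of tensor decompositions with factors of different dimensions. Here `T = PSL_n(F)` for a field `F` with `q` elements and `n = a·b` with `2 ≤ a < b`; a tensor decomposition `F^n ≅ F^a ⊗ F^b` is given by a bijection `e` of index sets and a change of basis `P`, and `H` is the subgroup of matrices of determinant 1 in its stabilizer (the conjugate by `P` of the group of Kronecker products `g₁ ⊗ g₂`) — a subgroup of type GL_a(q) ⊗ GL_b(q) (maximality is not assumed); Ω is the set of cosets of `H` in `T`, so an element of `T` of prime order `r` (a matrix `x` of determinant 1 with `x^r` scalar, `x` not scalar) fixes a point of Ω exactly when some conjugate of `x` by a matrix of determinant 1 lies in `H`. Let `r` be a prime dividing the index of `H`. Then every element of `T` of order `r` fixes a point of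 Ω if and only if `r = 2`, `a = 2`, `q` is odd and `(q − 1)_2 ≤ (n)_2` (2-parts). -/
theorem result {F : Type*} [Field F] [Fintype F] {p : ℕ} [Fact p.Prime] [CharP F p] {q : ℕ} (hq : Fintype.card F = q)
    (n a b : ℕ) (hab : n = a * b) (ha : 2 ≤ a) (hlt : a < b) (e : Fin n ≃ Fin a × Fin b) (P : GL (Fin n) F)
    (r : ℕ) [Fact r.Prime]
    (hΩ : r ∣ (Cfsg.Geo.tensorProductSubgroup a b e P).relIndex (Cfsg.Geo.specialLinear (Fin n) F)) :
    (∀ x ∈ Cfsg.Geo.specialLinear (Fin n) F, (∃ z : F, ((x ^ r : GL (Fin n) F) : Matrix (Fin n) (Fin n) F) = z • (1 : Matrix (Fin n) (Fin n) F)) →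
      (∀ z : F, (x : Matrix (Fin n) (Fin n) F) ≠ z • (1 : Matrix (Fin n) (Fin n) F)) →
      ∃ g ∈ Cfsg.Geo.specialLinear (Fin n) F, g⁻¹ * x * g ∈ Cfsg.Geo.tensorProductSubgroup a b e P) ↔
    (r = 2 ∧ a = 2 ∧ Odd q ∧ padicValNat 2 (q - 1) ≤ padicValNat 2 n) := by
  classical
  subst hab
  have hr : r.Prime := Fact.out
  have hp : p.Prime := Fact.out
  have hn : 6 ≤ a * b := Nat.mul_le_mul ha (show 3 ≤ b by omega)
  have hn2 : a ∣ a * b := dvd_mul_right a b
  subst hq
  obtain ⟨f, -, hqf⟩ := FiniteField.card F p
  have hq2 : 2 ≤ Fintype.card F := Fintype.one_lt_card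
  constructor
  · intro hall
    have hder : ∀ x : GL (Fin (a * b)) F, (x : Matrix (Fin (a * b)) (Fin (a * b)) F).det = 1 →
        (∃ z : F, ((x ^ r : GL (Fin (a * b)) F) : Matrix (Fin (a * b)) (Fin (a * b)) F) = z • 1) →
        (∀ z : F, (x : Matrix (Fin (a * b)) (Fin (a * b)) F) ≠ z • 1) →
        ∃ g, g⁻¹ * x * g ∈ Cfsg.Geo.tensorProductSubgroup a b e P := fun x hd hz hns => by
      obtain ⟨g, -, hg⟩ := hall x (H47.mem_sl_iff.mpr hd) hz hns
      exact ⟨g, hg⟩
    let i0 : Fin (a * b) := ⟨0, by omega⟩
    let i1 : Fin (a * b) := ⟨1, by omega⟩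
    let i2 : Fin (a * b) := ⟨2, by omega⟩
    have h01 : i0 ≠ i1 := by simp [i0, i1]
    have h02 : i0 ≠ i2 := by simp [i0, i2]
    have h12 : i1 ≠ i2 := by simp [i1, i2]
    have hdiag : ∀ (f : Fin (a * b) → F), ∏ i, f i = 1 →
        ∃ x : GL (Fin (a * b)) F, (x : Matrix (Fin (a * b)) (Fin (a * b)) F) = Matrix.diagonal f ∧
          (x : Matrix (Fin (a * b)) (Fin (a * b)) F).det = 1 := fun f hf =>
      ⟨Matrix.GeneralLinearGroup.mkOfDetNeZero (Matrix.diagonal f) (by rw [Matrix.det_diagonal, hf]; exact one_ne_zero),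
        rfl, by show (Matrix.diagonal f).det = 1; rw [Matrix.det_diagonal, hf]⟩
    -- the characteristic
    by_cases hrp : r = p
    · exfalso
      subst hrp
      let u : Fin (a * b) → F := Pi.single i0 1
      let v : Fin (a * b) → F := Pi.single i1 1
      set N : Matrix (Fin (a * b)) (Fin (a * b)) F := Matrix.vecMulVec u v with hN
      have hvu : v ⬝ᵥ u = 0 := by simp [u, v, h01.symm]
      have hN2 : N * N = 0 := by rw [hN, Matrix.vecMulVec_mul_vecMulVec, hvu, zero_smul, Matrix.vecMulVec_zero]
      have hd : (1 + N).det = 1 := by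
        rw [hN, Matrix.vecMulVec_eq Unit, Matrix.det_one_add_replicateCol_mul_replicateRow, hvu, add_zero]
      let x : GL (Fin (a * b)) F := Matrix.GeneralLinearGroup.mkOfDetNeZero (1 + N) (by rw [hd]; exact one_ne_zero)
      have hxr : x ^ r = 1 := Units.ext (by
        haveI : Nonempty (Fin (a * b)) := ⟨i0⟩
        haveI : CharP (Matrix (Fin (a * b)) (Fin (a * b)) F) r := Matrix.charP r
        rw [Units.val_pow_eq_pow_val, Units.val_one]
        show (1 + N) ^ r = 1
        rw [add_pow_char_of_commute r (Commute.one_left _), one_pow,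
          show N ^ r = 0 from pow_eq_zero_of_le hr.two_le (by rw [pow_two]; exact hN2), add_zero])
      obtain ⟨g, hg⟩ := hder x hd ⟨1, by rw [hxr, one_smul, Units.val_one]⟩ fun z hz => by
        have := congrFun (congrFun hz i0) i1
        simp [x, hN, u, v, Matrix.vecMulVec_apply, h01] at this
      have h1 : ((x : Matrix (Fin (a * b)) (Fin (a * b)) F) - (1 : F) • 1).rank ≤ 1 := by
        show (1 + N - (1 : F) • 1).rank ≤ 1
        rw [one_smul, add_sub_cancel_left]; exact Matrix.rank_vecMulVec_le _ _
      have h := H47.dvd_rank_of_small e P hg (c := 1) (by omega) 1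
      have h0 : ((x : Matrix (Fin (a * b)) (Fin (a * b)) F) - (1 : F) • 1).rank = 0 := by
        rcases Nat.eq_zero_or_pos ((x : Matrix (Fin (a * b)) (Fin (a * b)) F) - (1 : F) • 1).rank with h0 | h0
        · exact h0
        · have := Nat.le_of_dvd h0 h; omega
      have hz : LinearMap.range ((x : Matrix (Fin (a * b)) (Fin (a * b)) F) - (1 : F) • 1).mulVecLin = ⊥ :=
        Submodule.finrank_eq_zero.mp h0
      have he : ((x : Matrix (Fin (a * b)) (Fin (a * b)) F) - (1 : F) • 1) *ᵥ (Pi.single i1 1) = 0 :=
        (Submodule.mem_bot F).mp (hz ▸ (⟨Pi.single i1 1, rfl⟩ : _ ∈ LinearMap.range ((x : Matrix (Fin (a * b)) (Fin (a * b)) F) - (1 : F) • 1).mulVecLin))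
      have := congrFun he i0
      simp [x, hN, u, v, Matrix.mulVec_single, Matrix.vecMulVec_apply, h01] at this
    have hrq : ¬ r ∣ Fintype.card F := fun h =>
      hrp ((Nat.prime_dvd_prime_iff_eq hr hp).mp (hr.dvd_of_dvd_pow (hqf ▸ h)))
    by_cases hr1 : r ∣ Fintype.card F - 1
    swap
    · exfalso
      have hdvd : r ∣ Nat.card (Cfsg.Geo.specialLinear (Fin (a * b)) F) := hΩ.trans (Subgroup.index_dvd_card _)
      obtain ⟨x0, hx0⟩ := exists_prime_orderOf_dvd_card' (G := Cfsg.Geo.specialLinear (Fin (a * b)) F) r hdvd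
      have hi := H47.rank_sub_one_ge hrq (g := (x0 : GL (Fin (a * b)) F))
        (by have := congrArg Subtype.val (pow_orderOf_eq_one x0); rwa [hx0] at this)
        (fun h => by
          have : x0 = 1 := Subtype.ext h
          rw [this, orderOf_one] at hx0; exact hr.one_lt.ne hx0)
      have hin := hi.trans ((Matrix.rank_le_card_width _).trans_eq (Fintype.card_fin _))
      obtain ⟨x, hxd, hxr, hx1, hxrk⟩ := H47.exists_block_element hrq hr1 hin
      obtain ⟨g, hg⟩ := hder x hxd ⟨1, by rw [hxr, one_smul, Units.val_one]⟩ fun z hz => by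
        apply hx1
        have hp' := congrArg Units.val hxr
        rw [Units.val_pow_eq_pow_val, hz, smul_pow, one_pow, Units.val_one] at hp'
        have hzr : z ^ r = 1 := by simpa using congrFun (congrFun hp' i0) i0
        have hz0 : z ≠ 0 := fun h0 => by rw [h0, zero_pow hr.ne_zero] at hzr; exact zero_ne_one hzr
        have h1 : z = 1 := orderOf_eq_one_iff.mp (Nat.eq_one_of_dvd_coprimes
          ((hr.coprime_iff_not_dvd).mpr hr1) (orderOf_dvd_of_pow_eq_one hzr)
          (orderOf_dvd_of_pow_eq_one (FiniteField.pow_card_sub_one_eq_one z hz0)))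
        exact Units.ext (by rw [hz, h1, one_smul, Units.val_one])
      exact H47.tensor_der_block e P hrq hr1 ha hlt hxr hx1 hxrk hg
    by_cases hr2 : r = 2
    swap
    · exfalso
      obtain ⟨w, hw⟩ := exists_prime_orderOf_dvd_card' (G := Fˣ) r (by rwa [Nat.card_units, Nat.card_eq_fintype_card])
      set f : Fin (a * b) → F := fun i => if i = i0 then (w : F) else if i = i1 then ((w⁻¹ : Fˣ) : F) else 1 with hf
      have hw1 : (w : F) ≠ 1 := fun h => by
        rw [Units.val_eq_one.mp h, orderOf_one] at hw; exact hr.one_lt.ne hw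
      have hw2 : ((w⁻¹ : Fˣ) : F) ≠ w := fun h => by
        have hinv : w * w = 1 := by
          conv_lhs => arg 1; rw [← Units.ext h]
          exact inv_mul_cancel w
        have := orderOf_dvd_of_pow_eq_one (show w ^ 2 = 1 by rw [pow_two, hinv])
        rw [hw] at this
        exact hr2 ((Nat.prime_dvd_prime_iff_eq hr Nat.prime_two).mp this)
      have hprod : ∏ i, f i = 1 := by
        rw [← Finset.mul_prod_erase _ _ (Finset.mem_univ i0), ← Finset.mul_prod_erase _ _
          (Finset.mem_erase.mpr ⟨h01.symm, Finset.mem_univ i1⟩), Finset.prod_eq_one (fun i hi => ?_)]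
        · simp [hf, h01.symm]
        · simp only [Finset.mem_erase] at hi; simp [hf, hi.1, hi.2.1]
      obtain ⟨x, hxv, hxd⟩ := hdiag f hprod
      have hwr : w ^ r = 1 := hw ▸ pow_orderOf_eq_one w
      obtain ⟨g, hg⟩ := hder x hxd ⟨1, by
          rw [Units.val_pow_eq_pow_val, hxv, Matrix.diagonal_pow, one_smul, ← Matrix.diagonal_one]
          congr 1
          funext i
          simp only [hf, Pi.pow_apply]
          split_ifs <;> simp [← Units.val_pow_eq_pow_val, hwr]⟩ fun z hz => by
        rw [hxv] at hz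
        have e0 := congrFun (congrFun hz i0) i0
        have e2 := congrFun (congrFun hz i2) i2
        simp [hf, h02.symm, h12.symm] at e0 e2
        exact hw1 (e0.trans e2.symm)
      have hrk : ∀ c : F, ((x : Matrix (Fin (a * b)) (Fin (a * b)) F) - c • 1).rank = Fintype.card {i // f i ≠ c} :=
        fun c => by rw [hxv, H47.rank_diag_sub]
      have hsm : Fintype.card {i // f i ≠ 1} ≤ 2 := by
        rw [Fintype.card_subtype]
        refine (Finset.card_le_card (t := {i0, i1}) fun i hi => ?_).trans Finset.card_le_two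
        simp [hf] at hi ⊢
        by_contra hh
        push Not at hh
        rw [if_neg hh.1, if_neg hh.2] at hi
        exact hi rfl
      have h := H47.dvd_rank_of_small e P hg (c := 1) (by rw [hrk]; omega) (w : F)
      rw [hrk] at h
      have hbig : Fintype.card {i // f i ≠ (w : F)} = a * b - 1 := by
        have : Fintype.card {i // f i ≠ (w : F)} = Fintype.card {i : Fin (a * b) // i ≠ i0} :=
          Fintype.card_congr (Equiv.subtypeEquivRight fun i => by
            simp only [hf]
            split_ifs with c1 c2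
            · simp [c1]
            · simpa [c1] using hw2
            · simp [c1, hw1.symm])
        rw [this, Fintype.card_subtype_compl, Fintype.card_subtype_eq, Fintype.card_fin]
      rw [hbig] at h
      have := Nat.le_of_dvd Nat.one_pos ((Nat.dvd_add_right h).mp (show a ∣ (a * b - 1) + 1 by
        rw [Nat.sub_add_cancel (by omega)]; exact hn2))
      omega
    subst hr2
    have hodd : Odd (Fintype.card F) := by
      rw [Nat.odd_iff]; omega
    have h2 : (2 : F) ≠ 0 := fun h => by
      have := (Nat.prime_dvd_prime_iff_eq hp Nat.prime_two).mp ((CharP.cast_eq_zero_iff F p 2).mp (by exact_mod_cast h))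
      exact hrp this.symm
    have hm1 : (-1 : F) ≠ 1 := fun h => h2 (by linear_combination -h)
    refine ⟨rfl, ?_, hodd, ?_⟩
    · by_contra ha2
      set f : Fin (a * b) → F := fun i => if i = i0 ∨ i = i1 then -1 else 1 with hf
      have hprod : ∏ i, f i = 1 := by
        rw [← Finset.mul_prod_erase _ _ (Finset.mem_univ i0), ← Finset.mul_prod_erase _ _
          (Finset.mem_erase.mpr ⟨h01.symm, Finset.mem_univ i1⟩), Finset.prod_eq_one (fun i hi => ?_)]
        · simp [hf]
        · simp only [Finset.mem_erase] at hi; simp [hf, hi.1, hi.2.1]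
      obtain ⟨x, hxv, hxd⟩ := hdiag f hprod
      obtain ⟨g, hg⟩ := hder x hxd ⟨1, by
          rw [Units.val_pow_eq_pow_val, hxv, Matrix.diagonal_pow, one_smul, ← Matrix.diagonal_one]
          congr 1
          funext i
          simp only [hf, Pi.pow_apply]
          split_ifs <;> simp⟩ fun z hz => by
        rw [hxv] at hz
        have e0 := congrFun (congrFun hz i0) i0
        have e2 := congrFun (congrFun hz i2) i2
        simp [hf, h02.symm, h12.symm] at e0 e2
        exact hm1 (e0.trans e2.symm)
      have hsm : Fintype.card {i // f i ≠ 1} = 2 := by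
        rw [Fintype.card_subtype, show (Finset.univ.filter fun i => f i ≠ 1) = {i0, i1} by
          ext i; simp [hf, hm1]
          tauto]
        exact Finset.card_pair h01
      have h := H47.dvd_rank_of_small e P hg (c := 1) (by rw [hxv, H47.rank_diag_sub, hsm]; omega) 1
      rw [hxv, H47.rank_diag_sub, hsm] at h
      have := Nat.le_of_dvd (by norm_num) h
      omega
    · by_contra hpad
      push Not at hpad
      haveI : Fact (Nat.Prime 2) := ⟨Nat.prime_two⟩
      set t := padicValNat 2 (a * b) with ht
      have hdvd : 2 ^ (t + 1) ∣ Fintype.card F - 1 :=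
        (padicValNat_dvd_iff_le (show Fintype.card F - 1 ≠ 0 by omega)).mpr hpad
      obtain ⟨g0, hg0⟩ := IsCyclic.exists_ofOrder_eq_natCard (α := Fˣ)
      rw [Nat.card_units, Nat.card_eq_fintype_card] at hg0
      obtain ⟨c, hc⟩ := hdvd
      have hc0 : c ≠ 0 := by rintro rfl; omega
      set l : Fˣ := g0 ^ c with hl
      have hlo : orderOf l = 2 ^ (t + 1) := by
        rw [hl, orderOf_pow' _ hc0, hg0, hc, Nat.gcd_mul_left_left, Nat.mul_div_cancel _ (Nat.pos_of_ne_zero hc0)]
      have hneg : (l : F) ^ 2 ^ t = -1 := by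
        have h1 : ((l : F) ^ 2 ^ t) ^ 2 = 1 := by
          rw [← pow_mul, ← pow_succ, ← Units.val_pow_eq_pow_val, ← hlo, pow_orderOf_eq_one, Units.val_one]
        refine (sq_eq_one_iff.mp h1).resolve_left fun h => ?_
        have := orderOf_dvd_of_pow_eq_one (show l ^ 2 ^ t = 1 from Units.ext (by simpa using h))
        rw [hlo] at this
        have := Nat.le_of_dvd (pow_pos (by norm_num) t) this
        rw [pow_succ] at this
        have := pow_pos (show 0 < 2 by norm_num) t
        omega
      obtain ⟨m, hm⟩ : 2 ^ t ∣ a * b := pow_padicValNat_dvd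
      have hm2 : Odd m := by
        rw [← Nat.not_even_iff_odd]
        rintro ⟨k, rfl⟩
        have := (padicValNat_dvd_iff_le (p := 2) (show a * b ≠ 0 by omega) (n := t + 1)).mp
          ⟨k, by rw [hm, pow_succ]; ring⟩
        omega
      have hln : (l : F) ^ (a * b) = -1 := by rw [hm, pow_mul, hneg, hm2.neg_one_pow]
      set f : Fin (a * b) → F := fun i => if i = i0 then -(l : F) else l with hf
      have hprod : ∏ i, f i = 1 := by
        rw [← Finset.mul_prod_erase _ _ (Finset.mem_univ i0), Finset.prod_eq_pow_card (b := (l : F)) (fun i hi => ?_),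
          Finset.card_erase_of_mem (Finset.mem_univ i0), Finset.card_univ, Fintype.card_fin]
        · rw [show f i0 = -(l : F) by simp [hf], neg_mul, ← pow_succ', Nat.sub_add_cancel (by omega), hln, neg_neg]
        · simp only [Finset.mem_erase] at hi; simp [hf, hi.1]
      obtain ⟨x, hxv, hxd⟩ := hdiag f hprod
      have hnl : -(l : F) ≠ l := fun h => h2 ((mul_eq_zero.mp (show (2 : F) * l = 0 by linear_combination -h)).resolve_right l.ne_zero)
      obtain ⟨g, hg⟩ := hder x hxd ⟨(l : F) ^ 2, by
          rw [Units.val_pow_eq_pow_val, hxv, Matrix.diagonal_pow, Matrix.smul_one_eq_diagonal]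
          congr 1
          funext i
          simp only [hf, Pi.pow_apply]
          split_ifs <;> simp⟩ fun z hz => by
        rw [hxv] at hz
        have e0 := congrFun (congrFun hz i0) i0
        have e2 := congrFun (congrFun hz i2) i2
        simp [hf, h02.symm] at e0 e2
        exact hnl (e0.trans e2.symm)
      have hsm : Fintype.card {i // f i ≠ (l : F)} = 1 := by
        rw [Fintype.card_subtype, show (Finset.univ.filter fun i => f i ≠ (l : F)) = {i0} by
          ext i; simp [hf, hnl]]
        exact Finset.card_singleton i0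
      have h := H47.dvd_rank_of_small e P hg (c := (l : F)) (by rw [hxv, H47.rank_diag_sub, hsm]; omega) (l : F)
      rw [hxv, H47.rank_diag_sub, hsm] at h
      have := Nat.le_of_dvd Nat.one_pos h
      omega
  · rintro ⟨rfl, rfl, hodd, hpad⟩ x hx ⟨z, hz⟩ hns
    haveI : Fact (Nat.Prime 2) := ⟨Nat.prime_two⟩
    have hqm : Fintype.card F % 2 = 1 := Nat.odd_iff.mp hodd
    have h2 : (2 : F) ≠ 0 := fun h => by
      have := (Nat.prime_dvd_prime_iff_eq hp Nat.prime_two).mp ((CharP.cast_eq_zero_iff F p 2).mp (by exact_mod_cast h))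
      subst this
      rw [hqf, Nat.pow_mod] at hqm
      simp at hqm
    have hxd : (x : Matrix (Fin (2 * b)) (Fin (2 * b)) F).det = 1 := congrArg Units.val hx
    have hxx : (x : Matrix (Fin (2 * b)) (Fin (2 * b)) F) * x = z • 1 := by
      rw [← pow_two, ← Units.val_pow_eq_pow_val, hz]
    have hzn : z ^ (2 * b) = 1 := by
      have := congrArg Matrix.det hxx
      rw [Matrix.det_mul, hxd, one_mul, Matrix.det_smul, Matrix.det_one, mul_one, Fintype.card_fin] at this
      exact this.symm
    have hz0 : z ≠ 0 := fun h0 => by rw [h0, zero_pow (by omega)] at hzn; exact zero_ne_one hzn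
    set Φ := H47.tensHom e P with hΦ
    have hmem : ∀ (A : GL (Fin 2) F) (B : GL (Fin b) F) (k : GL (Fin 2 × Fin b) F),
        (k : Matrix (Fin 2 × Fin b) (Fin 2 × Fin b) F) = (A : Matrix (Fin 2) (Fin 2) F) ⊗ₖ (B : Matrix (Fin b) (Fin b) F) →
        Φ k ∈ Cfsg.Geo.tensorProductSubgroup 2 b e P := fun A B k hk => by
      rw [H47.tens_eq_map]; exact ⟨k, ⟨A, B, hk⟩, rfl⟩
    by_cases hsq : IsSquare z
    · obtain ⟨l, rfl⟩ := hsq
      have hl0 : l ≠ 0 := left_ne_zero_of_mul hz0
      have hnl : -l ≠ l := fun h => h2 ((mul_eq_zero.mp (show (2 : F) * l = 0 by linear_combination -h)).resolve_right hl0)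
      obtain ⟨K, hK⟩ := H47.scalar_gl_exists (ι := Fin (2 * b)) l hl0
      have hKx : (K⁻¹ * x) ^ 2 = 1 := by
        have hc : Commute K⁻¹ x := (show Commute K x from H47.scalar_comm hK x).inv_left
        have hK2 : K ^ 2 = x ^ 2 := Units.ext (by
          rw [Units.val_pow_eq_pow_val, hK, smul_pow, one_pow, pow_two, hz])
        rw [hc.mul_pow, inv_pow, hK2, inv_mul_cancel]
      obtain ⟨G, c, hG⟩ := H42.exists_diagonalize Nat.prime_two (by omega : 2 ∣ Fintype.card F - 1) (K⁻¹ * x) hKx
      set f : Fin (2 * b) → F := fun i => l * ((c i : Fˣ) : F) with hf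
      have hxG : (x : Matrix (Fin (2 * b)) (Fin (2 * b)) F) = (G : Matrix (Fin (2 * b)) (Fin (2 * b)) F)
          * Matrix.diagonal f * ((G⁻¹ : GL (Fin (2 * b)) F) : Matrix (Fin (2 * b)) (Fin (2 * b)) F) := by
        have h : x = K * (G * (H42.diagGL fun i => (c i : Fˣ)) * G⁻¹) := by rw [← hG, mul_inv_cancel_left]
        rw [h, Units.val_mul, Units.val_mul, Units.val_mul, hK, H42.coe_diagGL, Matrix.smul_mul, Matrix.one_mul,
          show Matrix.diagonal f = l • Matrix.diagonal (fun i => ((c i : Fˣ) : F)) by rw [← Matrix.diagonal_smul]; rfl,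
          Matrix.mul_smul, Matrix.smul_mul]
      have hfv : ∀ i, f i = -l ∨ f i = l := fun i => by
        have h := congrArg Units.val ((mem_rootsOfUnity 2 _).mp (c i).2)
        rw [Units.val_pow_eq_pow_val, Units.val_one, sq_eq_one_iff] at h
        rcases h with h | h <;> simp [hf, h]
      set v := Fintype.card {i // f i = -l} with hv
      have hdetf : ∏ i, f i = l ^ (2 * b) * (-1) ^ v := by
        have e1 : ∏ i, f i = ∏ i, l * (if f i = -l then -1 else 1) := Finset.prod_congr rfl fun i _ => by
          rcases hfv i with h | h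
          · rw [if_pos h, h]; ring
          · rw [if_neg (fun e => hnl (e.symm.trans h)), mul_one, h]
        rw [e1, Finset.prod_mul_distrib, Finset.prod_const, Finset.card_univ, Fintype.card_fin, Finset.prod_ite,
          Finset.prod_const_one, mul_one, Finset.prod_const, hv, Fintype.card_subtype]
      have hfd : ∏ i, f i = 1 := by
        rw [← Matrix.det_diagonal, ← hxd, hxG, Matrix.det_mul, Matrix.det_mul, mul_right_comm, ← Matrix.det_mul,
          Units.mul_inv, Matrix.det_one, one_mul]
      obtain ⟨k, hk⟩ : Even v := by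
        by_contra hv'
        rw [Nat.not_even_iff_odd] at hv'
        rw [hfd, hv'.neg_one_pow] at hdetf
        have hln : l ^ (2 * b) = -1 := by linear_combination hdetf
        obtain ⟨m, hm, hmo⟩ : ∃ m, Fintype.card F - 1 = 2 ^ padicValNat 2 (Fintype.card F - 1) * m ∧ Odd m := by
          obtain ⟨m, hm⟩ : 2 ^ padicValNat 2 (Fintype.card F - 1) ∣ Fintype.card F - 1 := pow_padicValNat_dvd
          refine ⟨m, hm, Nat.not_even_iff_odd.mp ?_⟩
          rintro ⟨k, rfl⟩
          have := (padicValNat_dvd_iff_le (p := 2) (show Fintype.card F - 1 ≠ 0 by omega)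
            (n := padicValNat 2 (Fintype.card F - 1) + 1)).mp ⟨k, by
              conv_lhs => rw [hm]
              rw [pow_succ]; ring⟩
          omega
        have hd : Fintype.card F - 1 ∣ 2 * b * m := by
          rw [hm]
          exact mul_dvd_mul_right ((padicValNat_dvd_iff_le (by omega)).mpr hpad) m
        obtain ⟨w, hw⟩ := hd
        have h1 : (l ^ (2 * b)) ^ m = 1 := by
          rw [← pow_mul, hw, pow_mul, FiniteField.pow_card_sub_one_eq_one l hl0, one_pow]
        rw [hln, hmo.neg_one_pow] at h1
        exact h2 (by linear_combination -h1)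
      have hkb : k ≤ b := by
        have := Fintype.card_subtype_le (fun i => f i = -l)
        rw [← hv, hk, Fintype.card_fin] at this; omega
      let g2 : Fin b → F := fun j => if (j : ℕ) < k then -1 else 1
      let h' : Fin (2 * b) → F := fun i => l * g2 (e i).2
      have hh : ∀ i, h' i = -l ∨ h' i = l := fun i => by
        simp only [h', g2]; split_ifs <;> simp
      have hm1 : (-1 : F) ≠ 1 := fun h => h2 (by linear_combination -h)
      have hcount : Fintype.card {i // f i = -l} = Fintype.card {i // h' i = -l} := by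
        rw [← hv, hk]
        have e1 : Fintype.card {i // h' i = -l} = Fintype.card (Fin 2 × {j : Fin b // (j : ℕ) < k}) :=
          Fintype.card_congr
            { toFun := fun i => ((e i.1).1, ⟨(e i.1).2, by
                by_contra hj
                have := i.2
                simp only [h', g2, if_neg hj, mul_one] at this
                exact hnl this.symm⟩)
              invFun := fun p => ⟨e.symm (p.1, p.2.1), by simp [h', g2, p.2.2]⟩
              left_inv := fun i => Subtype.ext (by simp)
              right_inv := fun p => by simp }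
        rw [e1, Fintype.card_prod, Fintype.card_fin, Fintype.card_fin_lt_of_le hkb]
        omega
      obtain ⟨π, hπ⟩ := H47.exists_perm_of_count hnl hfv hh hcount
      let Pm : GL (Fin (2 * b)) F :=
        ⟨(1 : Matrix (Fin (2 * b)) (Fin (2 * b)) F).submatrix id π, (1 : Matrix (Fin (2 * b)) (Fin (2 * b)) F).submatrix π id,
          by rw [Matrix.submatrix_mul_equiv, Matrix.one_mul, Matrix.submatrix_id_id],
          by rw [← Matrix.submatrix_mul _ _ _ id _ Function.bijective_id, Matrix.one_mul, Matrix.submatrix_one_equiv]⟩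
      have hPm : Matrix.diagonal f * (Pm : Matrix (Fin (2 * b)) (Fin (2 * b)) F)
          = (Pm : Matrix (Fin (2 * b)) (Fin (2 * b)) F) * Matrix.diagonal h' := by
        ext i j
        rw [Matrix.diagonal_mul, Matrix.mul_diagonal]
        by_cases hij : i = π j
        · subst hij; simp only [Pm, hπ, Matrix.submatrix_apply]; ring
        · simp [Pm, Matrix.one_apply, hij]
      have hd0 : ((G * Pm * P⁻¹ : GL (Fin (2 * b)) F) : Matrix (Fin (2 * b)) (Fin (2 * b)) F).det ≠ 0 :=
        (Matrix.isUnits_det_units _).ne_zero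
      set δ := ((G * Pm * P⁻¹ : GL (Fin (2 * b)) F) : Matrix (Fin (2 * b)) (Fin (2 * b)) F).det with hδ
      set j0 : Fin (2 * b) := ⟨0, by omega⟩
      let dv : Fin (2 * b) → F := fun i => if i = j0 then δ⁻¹ else 1
      have hdv : (Matrix.diagonal dv).det = δ⁻¹ := by
        rw [Matrix.det_diagonal, Fintype.prod_ite_eq']
      let D : GL (Fin (2 * b)) F := Matrix.GeneralLinearGroup.mkOfDetNeZero (Matrix.diagonal dv)
        (by rw [hdv]; exact inv_ne_zero hd0)
      let B : GL (Fin b) F := Matrix.GeneralLinearGroup.mkOfDetNeZero (Matrix.diagonal g2) (by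
        rw [Matrix.det_diagonal, Finset.prod_ne_zero_iff]
        intro j _; simp only [g2]; split_ifs <;> simp)
      obtain ⟨A, hA⟩ := H47.scalar_gl_exists (ι := Fin 2) l hl0
      let kk : GL (Fin 2 × Fin b) F := Matrix.GeneralLinearGroup.mkOfDetNeZero
        ((A : Matrix (Fin 2) (Fin 2) F) ⊗ₖ (B : Matrix (Fin b) (Fin b) F)) (by
          rw [Matrix.det_kronecker]
          exact mul_ne_zero (pow_ne_zero _ (Matrix.isUnits_det_units A).ne_zero) (pow_ne_zero _ (Matrix.isUnits_det_units B).ne_zero))
      refine ⟨G * Pm * D * P⁻¹, H47.mem_sl_iff.mpr ?_, ?_⟩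
      · have : ((G * Pm * D * P⁻¹ : GL (Fin (2 * b)) F) : Matrix (Fin (2 * b)) (Fin (2 * b)) F).det
            = δ * (Matrix.diagonal dv).det := by
          rw [hδ]; simp only [Units.val_mul, Matrix.det_mul]
          show _ * (Matrix.diagonal dv).det * _ = _
          ring
        rw [this, hdv, mul_inv_cancel₀ hd0]
      · have hkey : (G * Pm * D * P⁻¹)⁻¹ * x * (G * Pm * D * P⁻¹) = Φ kk := by
          have hkv : (kk : Matrix (Fin 2 × Fin b) (Fin 2 × Fin b) F).submatrix e e = Matrix.diagonal h' := by
            show ((A : Matrix (Fin 2) (Fin 2) F) ⊗ₖ (Matrix.diagonal g2)).submatrix e e = _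
            rw [hA, Matrix.smul_one_eq_diagonal, Matrix.diagonal_kronecker_diagonal, Matrix.submatrix_diagonal_equiv]
            rfl
          let Dh : GL (Fin (2 * b)) F := (Cfsg.Geo.glReindex e.symm) kk
          have hDh : (Dh : Matrix (Fin (2 * b)) (Fin (2 * b)) F) = Matrix.diagonal h' := hkv
          have e1 : x * (G * Pm) = (G * Pm) * Dh := Units.ext (by
            simp only [Units.val_mul, hDh]
            rw [hxG, Matrix.mul_assoc _ _ ((G : Matrix (Fin (2 * b)) (Fin (2 * b)) F) * _), ← Matrix.mul_assoc _ (G : Matrix (Fin (2 * b)) (Fin (2 * b)) F),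
              Units.inv_mul, Matrix.one_mul, Matrix.mul_assoc, hPm, ← Matrix.mul_assoc])
          have e2 : Dh * D = D * Dh := Units.ext (by
            simp only [Units.val_mul, hDh]
            show Matrix.diagonal h' * Matrix.diagonal dv = Matrix.diagonal dv * Matrix.diagonal h'
            rw [Matrix.diagonal_mul_diagonal, Matrix.diagonal_mul_diagonal]; congr 1; funext i; ring)
          calc (G * Pm * D * P⁻¹)⁻¹ * x * (G * Pm * D * P⁻¹)
              = P * D⁻¹ * ((G * Pm)⁻¹ * (x * (G * Pm))) * D * P⁻¹ := by group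
            _ = P * D⁻¹ * (Dh * D) * P⁻¹ := by rw [e1]; group
            _ = P * Dh * P⁻¹ := by rw [e2]; group
            _ = Φ kk := rfl
        rw [hkey]; exact hmem A B kk rfl
    · set J : Matrix (Fin 2) (Fin 2) F := !![0, z; 1, 0] with hJ
      let A : GL (Fin 2) F := Matrix.GeneralLinearGroup.mkOfDetNeZero J (by simp [hJ, Matrix.det_fin_two, hz0])
      have hAA : (A : Matrix (Fin 2) (Fin 2) F) * A = z • 1 := by
        show J * J = z • 1
        ext i j; fin_cases i <;> fin_cases j <;> simp [hJ, Matrix.mul_apply, Fin.sum_univ_two]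
      let kk : GL (Fin 2 × Fin b) F := Matrix.GeneralLinearGroup.mkOfDetNeZero
        ((A : Matrix (Fin 2) (Fin 2) F) ⊗ₖ (1 : Matrix (Fin b) (Fin b) F)) (by
          rw [Matrix.det_kronecker]
          simp [(Matrix.isUnits_det_units A).ne_zero])
      have hyy : (Φ kk : Matrix (Fin (2 * b)) (Fin (2 * b)) F) * Φ kk = z • 1 := by
        rw [← Units.val_mul, ← map_mul, hΦ, H47.tensHom_val, Units.val_mul]
        show _ * ((((A : Matrix (Fin 2) (Fin 2) F) ⊗ₖ (1 : Matrix (Fin b) (Fin b) F))) * ((A : Matrix (Fin 2) (Fin 2) F) ⊗ₖ (1 : Matrix (Fin b) (Fin b) F))).submatrix e e * _ = _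
        rw [← Matrix.mul_kronecker_mul, hAA, Matrix.one_mul, Matrix.smul_kronecker, Matrix.one_kronecker_one,
          show (z • (1 : Matrix (Fin 2 × Fin b) (Fin 2 × Fin b) F)).submatrix e e = z • 1 by
            ext i j; simp [Matrix.one_apply, e.injective.eq_iff],
          Matrix.mul_smul, Matrix.mul_one, Matrix.smul_mul, Units.mul_inv]
      have hm : ((2 * (Fintype.card F - 1) : ℕ) : F) ≠ 0 := by
        rw [Nat.cast_mul, Nat.cast_sub (by omega), Nat.cast_ofNat, FiniteField.cast_card_eq_zero, Nat.cast_one, zero_sub]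
        exact mul_ne_zero h2 (neg_ne_zero.mpr one_ne_zero)
      have hpow : ∀ y : GL (Fin (2 * b)) F, (y : Matrix (Fin (2 * b)) (Fin (2 * b)) F) * y = z • 1 →
          y ^ (2 * (Fintype.card F - 1)) = 1 := fun y hy => Units.ext (by
        rw [Units.val_pow_eq_pow_val, pow_mul, pow_two, hy, smul_pow, one_pow,
          FiniteField.pow_card_sub_one_eq_one z hz0, one_smul, Units.val_one])
      obtain ⟨g, hg, hgy⟩ := H47.sl_conj_charpoly (by omega) hm (hpow x hxx) (hpow _ hyy)
        ((H47.charpoly_nonsquare hxx hsq).trans (H47.charpoly_nonsquare hyy hsq).symm)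
      exact ⟨g, hg, hgy ▸ hmem A 1 kk rfl⟩

end Cfsg.Agent.S5979
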