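import Cfsg.Statements.S5980
import Cfsg.Agent.H47.TensorSp
import Cfsg.Agent.H47.Symp

set_option autoImplicit false
open scoped MatrixGroups Matrix Kronecker
open Cfsg

namespace Cfsg.Agent.S5980

/-- Elements of prime order of PSp_n(q), q odd, and the stabilizers of tensor decompositions Sp_a(q) ⊗ O_b(q). Here `T = PSp_{2d}(F)` for a field `F` with `q` elements, `q` odd, `d ≥ 2`, realised through the matrices preserving the standard alternating form `f`; `2d = a·b` with `a` even, `b ≥ 3`, and the bijection `e` and change of basis `P` exhibit `f` as a non-zero scalar multiple of the tensor product of a non-degenerate alternating form `f₁` on `F^a` and a non-degenerate symmetric bilinear form `f₂` on `F^b`; `H` is the subgroup of `T` stabilizing this tensor decomposition (the elements of `T` in the conjugate by `P` of the group of Kronecker products) — a subgroup of type Sp_a(q) ⊗ O^ε_b(q) (maximality is not assumed). Ω is the set of cosets of `H` in `T`, so an element of `T` of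 prime order `r` (`x ∈ T` with `x^r` scalar, `x` not scalar) fixes a point of Ω exactly when some `T`-conjugate of `x` lies in `H`. Let `r` be a prime dividing the index of `H`. Then every element of `T` of order `r` fixes a point of Ω if and only if `r = 2` and `a = 2`. -/
theorem result {F : Type*} [Field F] [Fintype F] {p : ℕ} [Fact p.Prime] [CharP F p] {q : ℕ} (hq : Fintype.card F = q)
    (hodd : Odd q) (d : ℕ) (hd : 2 ≤ d) (a b : ℕ) (hab : 2 * d = a * b) (ha : Even a) (ha2 : 2 ≤ a) (hb : 3 ≤ b)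
    (e : (Fin d ⊕ Fin d) ≃ Fin a × Fin b) (P : GL (Fin d ⊕ Fin d) F)
    (f₁ : (Fin a → F) → (Fin a → F) → F) (f₂ : (Fin b → F) → (Fin b → F) → F)
    (hf₁ : Cfsg.Geo.IsSymplecticForm f₁) (hf₂ : Cfsg.Geo.IsSymmetricForm f₂)
    (hS : Cfsg.Geo.IsTensorFormStructure id (Cfsg.sympForm d F) f₁ f₂ e P)
    (r : ℕ) [Fact r.Prime]
    (hΩ : r ∣ (Cfsg.Geo.tensorProductSubgroup a b e P).relIndex (Cfsg.spGL d F)) :
    (∀ x ∈ Cfsg.spGL d F, (∃ z : F, ((x ^ r : GL (Fin d ⊕ Fin d) F) : Matrix (Fin d ⊕ Fin d) (Fin d ⊕ Fin d) F) = z • (1 : Matrix (Fin d ⊕ Fin d) (Fin d ⊕ Fin d) F)) →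
      (∀ z : F, (x : Matrix (Fin d ⊕ Fin d) (Fin d ⊕ Fin d) F) ≠ z • (1 : Matrix (Fin d ⊕ Fin d) (Fin d ⊕ Fin d) F)) →
      ∃ g ∈ Cfsg.spGL d F, g⁻¹ * x * g ∈ Cfsg.Geo.tensorProductSubgroup a b e P) ↔ (r = 2 ∧ a = 2) := by
  classical
  subst hq
  have hr : r.Prime := Fact.out
  have hp : p.Prime := Fact.out
  obtain ⟨nf, -, hqf⟩ := FiniteField.card F p
  have hqm : Fintype.card F % 2 = 1 := Nat.odd_iff.mp hodd
  have h2 : (2 : F) ≠ 0 := fun h => by
    have := (Nat.prime_dvd_prime_iff_eq hp Nat.prime_two).mp ((CharP.cast_eq_zero_iff F p 2).mp (by exact_mod_cast h))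
    subst this
    rw [hqf, Nat.pow_mod] at hqm
    simp at hqm
  have hm1 : (-1 : F) ≠ 1 := fun h => h2 (by linear_combination -h)
  have hn : 6 ≤ 2 * d := hab ▸ Nat.mul_le_mul ha2 hb
  set i0 : Fin d := ⟨0, by omega⟩
  set i2 : Fin d := ⟨1, by omega⟩
  have h02 : i2 ≠ i0 := by simp [i0, i2]
  constructor
  · intro hall
    have hder : ∀ x ∈ Cfsg.spGL d F,
        (∃ z : F, ((x ^ r : GL (Fin d ⊕ Fin d) F) : Matrix (Fin d ⊕ Fin d) (Fin d ⊕ Fin d) F) = z • 1) →
        (∀ z : F, (x : Matrix (Fin d ⊕ Fin d) (Fin d ⊕ Fin d) F) ≠ z • 1) →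
        ∃ g, g⁻¹ * x * g ∈ Cfsg.Geo.tensorProductSubgroup a b e P := fun x hx hz hns => by
      obtain ⟨g, -, hg⟩ := hall x hx hz hns
      exact ⟨g, hg⟩
    have hadvd : a ∣ 2 * d := hab ▸ dvd_mul_right a b
    by_cases hrp : r = p
    · exfalso
      subst hrp
      obtain ⟨x, hxS, u, v, hxv, hxr, hxns⟩ := H47.exists_spd_transvection (F := F) (p := r) (d := d) (by omega)
      obtain ⟨g, hg⟩ := hder x hxS ⟨1, by rw [hxr, one_smul, Units.val_one]⟩ hxns
      have h1 : ((x : Matrix (Fin d ⊕ Fin d) (Fin d ⊕ Fin d) F) - (1 : F) • 1).rank ≤ 1 := by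
        rw [one_smul, hxv, add_sub_cancel_left]; exact Matrix.rank_vecMulVec_le _ _
      have h := H47.dvd_rank_of_small e P hg (c := 1) (by omega) 1
      have h0 : ((x : Matrix (Fin d ⊕ Fin d) (Fin d ⊕ Fin d) F) - (1 : F) • 1).rank = 0 := by
        rcases Nat.eq_zero_or_pos ((x : Matrix (Fin d ⊕ Fin d) (Fin d ⊕ Fin d) F) - (1 : F) • 1).rank with h0 | h0
        · exact h0
        · have := Nat.le_of_dvd h0 h; omega
      have hz : LinearMap.range ((x : Matrix (Fin d ⊕ Fin d) (Fin d ⊕ Fin d) F) - (1 : F) • 1).mulVecLin = ⊥ :=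
        Submodule.finrank_eq_zero.mp h0
      refine hxns 1 (sub_eq_zero.mp (Matrix.ext_iff_mulVec.2 fun w => ?_))
      rw [Matrix.zero_mulVec]
      exact (Submodule.mem_bot F).mp (hz ▸ (⟨w, rfl⟩ : _ ∈ LinearMap.range ((x : Matrix (Fin d ⊕ Fin d) (Fin d ⊕ Fin d) F) - (1 : F) • 1).mulVecLin))
    have hrq : ¬ r ∣ Fintype.card F := fun h =>
      hrp ((Nat.prime_dvd_prime_iff_eq hr hp).mp (hr.dvd_of_dvd_pow (hqf ▸ h)))
    by_cases hr2 : r = 2
    · subst hr2
      refine ⟨rfl, ?_⟩
      by_contra ha'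
      set f : Fin d ⊕ Fin d → F := Sum.elim (fun i => if i = i0 then -1 else 1) (fun i => if i = i0 then -1 else 1) with hf
      obtain ⟨x, hxS, hxv⟩ := H47.exists_sp_diag (h := f) fun i => by simp only [hf, Sum.elim_inl, Sum.elim_inr]; split_ifs <;> ring
      obtain ⟨g, hg⟩ := hder x hxS ⟨1, by
          rw [Units.val_pow_eq_pow_val, hxv, Matrix.diagonal_pow, one_smul, ← Matrix.diagonal_one]
          congr 1
          funext i
          rcases i with i | i <;> simp only [hf, Pi.pow_apply, Sum.elim_inl, Sum.elim_inr] <;> split_ifs <;> simp⟩ fun z hz => by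
        rw [hxv] at hz
        have e0 := congrFun (congrFun hz (Sum.inl i0)) (Sum.inl i0)
        have e2 := congrFun (congrFun hz (Sum.inl i2)) (Sum.inl i2)
        simp [hf, h02] at e0 e2
        exact hm1 (e0.trans e2.symm)
      have hsm : Fintype.card {i // f i ≠ 1} = 2 := by
        rw [Fintype.card_subtype, show (Finset.univ.filter fun i => f i ≠ 1) = {Sum.inl i0, Sum.inr i0} by
          ext i; rcases i with i | i <;> simp [hf, hm1]]
        exact Finset.card_pair (by simp)
      have h := H47.dvd_rank_of_small e P hg (c := 1) (by rw [hxv, H47.rank_diag_sub, hsm]; omega) 1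
      rw [hxv, H47.rank_diag_sub, hsm] at h
      have := Nat.le_of_dvd (by norm_num) h
      obtain ⟨k, hk⟩ := ha
      omega
    exfalso
    by_cases hr1 : r ∣ Fintype.card F - 1
    · obtain ⟨w, hw⟩ := exists_prime_orderOf_dvd_card' (G := Fˣ) r (by rwa [Nat.card_units, Nat.card_eq_fintype_card])
      set f : Fin d ⊕ Fin d → F :=
        Sum.elim (fun i => if i = i0 then (w : F) else 1) (fun i => if i = i0 then ((w⁻¹ : Fˣ) : F) else 1) with hf
      have hw1 : (w : F) ≠ 1 := fun h => by
        rw [Units.val_eq_one.mp h, orderOf_one] at hw; exact hr.one_lt.ne hw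
      have hw2 : ((w⁻¹ : Fˣ) : F) ≠ w := fun h => by
        have hinv : w * w = 1 := by
          conv_lhs => arg 1; rw [← Units.ext h]
          exact inv_mul_cancel w
        have := orderOf_dvd_of_pow_eq_one (show w ^ 2 = 1 by rw [pow_two, hinv])
        rw [hw] at this
        exact hr2 ((Nat.prime_dvd_prime_iff_eq hr Nat.prime_two).mp this)
      obtain ⟨x, hxS, hxv⟩ := H47.exists_sp_diag (h := f) fun i => by
        simp only [hf, Sum.elim_inl, Sum.elim_inr]; split_ifs <;> simp
      have hwr : w ^ r = 1 := hw ▸ pow_orderOf_eq_one w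
      obtain ⟨g, hg⟩ := hder x hxS ⟨1, by
          rw [Units.val_pow_eq_pow_val, hxv, Matrix.diagonal_pow, one_smul, ← Matrix.diagonal_one]
          congr 1
          funext i
          rcases i with i | i <;> simp only [hf, Pi.pow_apply, Sum.elim_inl, Sum.elim_inr] <;> split_ifs <;>
            simp [← Units.val_pow_eq_pow_val, hwr]⟩ fun z hz => by
        rw [hxv] at hz
        have e0 := congrFun (congrFun hz (Sum.inl i0)) (Sum.inl i0)
        have e2 := congrFun (congrFun hz (Sum.inl i2)) (Sum.inl i2)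
        simp [hf, h02] at e0 e2
        exact hw1 (e0.trans e2.symm)
      have hsm : Fintype.card {i // f i ≠ 1} ≤ 2 := by
        rw [Fintype.card_subtype]
        refine (Finset.card_le_card (t := {Sum.inl i0, Sum.inr i0}) fun i hi => ?_).trans Finset.card_le_two
        rcases i with i | i <;> simp [hf] at hi ⊢ <;> tauto
      have h := H47.dvd_rank_of_small e P hg (c := 1) (by rw [hxv, H47.rank_diag_sub]; omega) (w : F)
      rw [hxv, H47.rank_diag_sub] at h
      have hbig : Fintype.card {i // f i ≠ (w : F)} = 2 * d - 1 := by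
        have : Fintype.card {i // f i ≠ (w : F)} = Fintype.card {i : Fin d ⊕ Fin d // i ≠ Sum.inl i0} :=
          Fintype.card_congr (Equiv.subtypeEquivRight fun i => by
            rcases i with i | i <;> simp only [hf, Sum.elim_inl, Sum.elim_inr] <;> split_ifs with c
            · simp [c]
            · simp [c, hw1.symm]
            · simpa [c] using hw2
            · simp [hw1.symm])
        rw [this, Fintype.card_subtype_compl, Fintype.card_subtype_eq]
        simp; omega
      rw [hbig] at h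
      have := Nat.le_of_dvd Nat.one_pos ((Nat.dvd_add_right h).mp (show a ∣ (2 * d - 1) + 1 by
        rw [Nat.sub_add_cancel (by omega)]; exact hadvd))
      omega
    · have hdvd : r ∣ Nat.card (Cfsg.spGL d F) := hΩ.trans (Subgroup.index_dvd_card _)
      obtain ⟨x0, hx0⟩ := exists_prime_orderOf_dvd_card' (G := Cfsg.spGL d F) r hdvd
      have hbd := H47.sp_order_bound hr2 hrq x0.2
        (by have := congrArg Subtype.val (pow_orderOf_eq_one x0); rwa [hx0] at this)
        (fun h => by
          have : x0 = 1 := Subtype.ext h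
          rw [this, orderOf_one] at hx0; exact hr.one_lt.ne hx0)
      set i := orderOf (Fintype.card F : ZMod r) with hi
      set δ := (if Odd i then 2 else 1) * i with hδ
      have hev : Even δ := by
        rw [hδ]; split_ifs with h
        · exact even_two_mul i
        · rw [one_mul]; exact Nat.not_odd_iff_even.mp h
      obtain ⟨d₀, hd₀⟩ := hev
      obtain ⟨x, hxS, hxr, hx1, L, R, hLR⟩ :=
        H47.exists_sp_block_element (d := d) (d₀ := d₀) hr2 hrq (by rw [← hi, ← hδ, hd₀]; omega) (by omega)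
      obtain ⟨g, hg⟩ := hder x hxS ⟨1, by rw [hxr, one_smul, Units.val_one]⟩ fun z hz => by
        apply hx1
        have hp' := congrArg Units.val hxr
        rw [Units.val_pow_eq_pow_val, hz, smul_pow, one_pow, Units.val_one] at hp'
        have hzr : z ^ r = 1 := by simpa using congrFun (congrFun hp' (Sum.inl i0)) (Sum.inl i0)
        have hz0 : z ≠ 0 := fun h0 => by rw [h0, zero_pow hr.ne_zero] at hzr; exact zero_ne_one hzr
        have h1 : z = 1 := orderOf_eq_one_iff.mp (Nat.eq_one_of_dvd_coprimes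
          ((hr.coprime_iff_not_dvd).mpr hr1) (orderOf_dvd_of_pow_eq_one hzr)
          (orderOf_dvd_of_pow_eq_one (FiniteField.pow_card_sub_one_eq_one z hz0)))
        exact Units.ext (by rw [hz, h1, one_smul, Units.val_one])
      exact H47.tensor_der_eigen hr2 hrq hr1 ha2 ha hb e P hxr hx1 (H47.spd_charpoly_inv hxS hr.pos hxr) L R hLR
        (by simp [← hi, ← hδ]; omega) hg
  · rintro ⟨rfl, rfl⟩ x hx ⟨z, hz⟩ hns
    obtain ⟨c, hc0, hc⟩ := hS
    set G₁ := Cfsg.Geo.gramMatrix f₁ with hG₁
    set G₂ := Cfsg.Geo.gramMatrix f₂ with hG₂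
    set Φ := H47.tensHom e P with hΦ
    have hfog : ∀ u v : Fin 2 × Fin b → F, Cfsg.Geo.formOfGram id (G₁ ⊗ₖ G₂) u v = u ⬝ᵥ ((G₁ ⊗ₖ G₂) *ᵥ v) :=
      fun u v => by
        simp [Cfsg.Geo.formOfGram, dotProduct, Matrix.mulVec, Finset.mul_sum, mul_assoc]
    have hsp : ∀ k : GL (Fin 2 × Fin b) F,
        (k : Matrix (Fin 2 × Fin b) (Fin 2 × Fin b) F)ᵀ * (G₁ ⊗ₖ G₂) * k = G₁ ⊗ₖ G₂ → Φ k ∈ Cfsg.spGL d F := by
      intro k hk u v
      show Cfsg.sympForm d F _ _ = _
      have hrep : ∀ w : Fin d ⊕ Fin d → F, ∃ s : Fin 2 × Fin b → F,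
          w = (P : Matrix (Fin d ⊕ Fin d) (Fin d ⊕ Fin d) F) *ᵥ (s ∘ e) := fun w =>
        ⟨(((P⁻¹ : GL (Fin d ⊕ Fin d) F) : Matrix (Fin d ⊕ Fin d) (Fin d ⊕ Fin d) F) *ᵥ w) ∘ e.symm, by
          rw [Function.comp_assoc, Equiv.symm_comp_self, Function.comp_id, Matrix.mulVec_mulVec, Units.mul_inv,
            Matrix.one_mulVec]⟩
      obtain ⟨s, rfl⟩ := hrep u
      obtain ⟨t, rfl⟩ := hrep v
      have hact : ∀ s : Fin 2 × Fin b → F,
          (Φ k : Matrix (Fin d ⊕ Fin d) (Fin d ⊕ Fin d) F) *ᵥ ((P : Matrix (Fin d ⊕ Fin d) (Fin d ⊕ Fin d) F) *ᵥ (s ∘ e))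
            = (P : Matrix (Fin d ⊕ Fin d) (Fin d ⊕ Fin d) F) *ᵥ (((k : Matrix (Fin 2 × Fin b) (Fin 2 × Fin b) F) *ᵥ s) ∘ e) := by
        intro s
        rw [hΦ, H47.tensHom_val, Matrix.mulVec_mulVec, Matrix.mul_assoc _ _ (P : Matrix (Fin d ⊕ Fin d) (Fin d ⊕ Fin d) F),
          Units.inv_mul, Matrix.mul_one, ← Matrix.mulVec_mulVec, Matrix.submatrix_mulVec_equiv, Function.comp_assoc,
          Equiv.self_comp_symm, Function.comp_id]
      show Cfsg.sympForm d F ((Φ k : Matrix (Fin d ⊕ Fin d) (Fin d ⊕ Fin d) F) *ᵥ _)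
        ((Φ k : Matrix (Fin d ⊕ Fin d) (Fin d ⊕ Fin d) F) *ᵥ _) = _
      rw [hact, hact, hc, hc, hfog, hfog, ← Matrix.vecMul_transpose, ← Matrix.dotProduct_mulVec, Matrix.mulVec_mulVec,
        Matrix.mulVec_mulVec, hk]
    have hA2 : ∀ A : Matrix (Fin 2) (Fin 2) F, Aᵀ * G₁ * A = A.det • G₁ := by
      have h00 : ∀ i, G₁ i i = 0 := fun i => hf₁.alternating _
      have h10 : G₁ 1 0 = -G₁ 0 1 := hf₁.skew _ _
      intro A
      ext i j
      fin_cases i <;> fin_cases j <;>
        simp [Matrix.mul_apply, Fin.sum_univ_two, Matrix.det_fin_two, h00, h10] <;> ring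
    have hmem : ∀ (A : GL (Fin 2) F) (B : GL (Fin b) F) (k : GL (Fin 2 × Fin b) F),
        (k : Matrix (Fin 2 × Fin b) (Fin 2 × Fin b) F) = (A : Matrix (Fin 2) (Fin 2) F) ⊗ₖ (B : Matrix (Fin b) (Fin b) F) →
        Φ k ∈ Cfsg.Geo.tensorProductSubgroup 2 b e P := fun A B k hk => by
      rw [H47.tens_eq_map]; exact ⟨k, ⟨A, B, hk⟩, rfl⟩
    have hcard : Fintype.card (Fin d ⊕ Fin d) = 2 * d := by simp; omega
    have hxx : (x : Matrix (Fin d ⊕ Fin d) (Fin d ⊕ Fin d) F) * x = z • 1 := by
      rw [← pow_two, ← Units.val_pow_eq_pow_val, hz]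
    have hzz : z * z = 1 := by
      have h := H47.spd_adj.mp (pow_mem hx 2)
      rw [hz, H49.adjS_scalar, Matrix.smul_mul, Matrix.one_mul, smul_smul] at h
      simpa using congrFun (congrFun h (Sum.inl i0)) (Sum.inl i0)
    rcases mul_self_eq_one_iff.mp hzz with rfl | rfl
    · rw [one_smul] at hxx
      -- an orthogonal basis of the second form
      haveI : Invertible (2 : F) := invertibleOfNonzero h2
      let β : LinearMap.BilinForm F (Fin b → F) :=
        LinearMap.mk₂ F f₂ hf₂.bilinear.add_left hf₂.bilinear.smul_left hf₂.bilinear.add_right hf₂.bilinear.smul_right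
      obtain ⟨b₀, hb₀⟩ := LinearMap.BilinForm.exists_orthogonal_basis (B := β) ⟨fun u v => hf₂.symm u v⟩
      let bs : Module.Basis (Fin b) F (Fin b → F) := b₀.reindex (finCongr (by simp))
      have horth : ∀ i j, i ≠ j → f₂ (bs i) (bs j) = 0 := fun i j hij => by
        simp only [bs, Module.Basis.reindex_apply]
        exact hb₀ (fun e => hij (by simpa using e))
      let M : Matrix (Fin b) (Fin b) F := Matrix.of fun s i => bs i s
      have hMd : M.det ≠ 0 := by
        intro h0
        obtain ⟨v, hv, hv0⟩ := Matrix.exists_mulVec_eq_zero_iff.mpr h0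
        refine hv (funext (Fintype.linearIndependent_iff.mp bs.linearIndependent v ?_))
        funext s
        simpa [M, Matrix.mulVec, dotProduct, mul_comm] using congrFun hv0 s
      have hgram : Mᵀ * G₂ * M = Matrix.diagonal fun i => f₂ (bs i) (bs i) := by
        have he : ∀ i j, (Mᵀ * G₂ * M) i j = f₂ (bs i) (bs j) := fun i j => by
          rw [H47.bilin_eq_gram hf₂.bilinear, Matrix.mul_assoc]
          simp [M, Matrix.mul_apply, dotProduct, Matrix.mulVec, hG₂, Cfsg.Geo.gramMatrix]
        ext i j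
        rw [he]
        by_cases hij : i = j
        · subst hij; simp
        · simp [hij, horth i j hij]
      -- the moved space of `x` is even
      have hdetx := H47.spd_det hx
      obtain ⟨Q, fx, hQ⟩ := H47.exists_diag_any (E := F) Nat.prime_two (by omega : 2 ∣ Fintype.card F - 1)
        (show x ^ 2 = 1 from Units.ext (by rw [Units.val_pow_eq_pow_val, pow_two, hxx, Units.val_one]))
      rw [Algebra.algebraMap_self, RingHom.coe_id, Matrix.map_id] at hQ
      set fv : Fin d ⊕ Fin d → F := fun i => ((fx i : Fˣ) : F) with hfv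
      have hrkx : ((x : Matrix (Fin d ⊕ Fin d) (Fin d ⊕ Fin d) F) - 1).rank = Fintype.card {i // fv i ≠ 1} := by
        have e1 : (x : Matrix (Fin d ⊕ Fin d) (Fin d ⊕ Fin d) F) - 1 = (Q : Matrix (Fin d ⊕ Fin d) (Fin d ⊕ Fin d) F)
            * (Matrix.diagonal fv - (1 : F) • 1) * ((Q⁻¹ : GL (Fin d ⊕ Fin d) F) : Matrix (Fin d ⊕ Fin d) (Fin d ⊕ Fin d) F) := by
          rw [one_smul, Matrix.mul_sub, Matrix.sub_mul, Matrix.mul_one, Units.mul_inv, ← hQ]
        rw [e1, Matrix.rank_mul_eq_left_of_isUnit_det _ _ (Matrix.isUnits_det_units _),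
          Matrix.rank_mul_eq_right_of_isUnit_det _ _ (Matrix.isUnits_det_units _), H47.rank_diag_sub]
      have hpm : ∀ i, fv i = 1 ∨ fv i = -1 := fun i => by
        have h := congrArg Units.val ((mem_rootsOfUnity 2 _).mp (fx i).2)
        rw [Units.val_pow_eq_pow_val, Units.val_one, sq_eq_one_iff] at h
        exact h
      obtain ⟨v, hv⟩ : Even (Fintype.card {i // fv i ≠ 1}) := by
        rw [← neg_one_pow_eq_one_iff_even hm1, Fintype.card_subtype, ← Finset.prod_const]
        have hd1 : ∏ i, fv i = 1 := by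
          rw [← Matrix.det_diagonal, ← hdetx, hQ, Matrix.det_mul, Matrix.det_mul, mul_right_comm, ← Matrix.det_mul,
            Units.mul_inv, Matrix.det_one, one_mul]
        rw [Finset.prod_filter]
        refine (Finset.prod_congr rfl fun i _ => ?_).trans hd1
        rcases hpm i with h | h <;> simp [h, hm1]
      have hvb : v ≤ b := by
        have := Fintype.card_subtype_le (fun i => fv i ≠ 1)
        rw [hv, hcard] at this; omega
      let h : Fin b → F := fun j => if (j : ℕ) < v then -1 else 1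
      let Mg : GL (Fin b) F := Matrix.GeneralLinearGroup.mkOfDetNeZero M hMd
      let Hg : GL (Fin b) F := Matrix.GeneralLinearGroup.mkOfDetNeZero (Matrix.diagonal h) (by
        rw [Matrix.det_diagonal, Finset.prod_ne_zero_iff]
        intro j _; simp only [h]; split_ifs <;> simp)
      set B : GL (Fin b) F := Mg * Hg * Mg⁻¹ with hB
      have hBG : (B : Matrix (Fin b) (Fin b) F)ᵀ * G₂ * B = G₂ := by
        set N := ((Mg⁻¹ : GL (Fin b) F) : Matrix (Fin b) (Fin b) F)
        have hMN : M * N = 1 := Units.mul_inv Mg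
        rw [hB, Units.val_mul, Units.val_mul]
        show (M * Matrix.diagonal h * N)ᵀ * G₂ * (M * Matrix.diagonal h * N) = G₂
        rw [Matrix.transpose_mul, Matrix.transpose_mul, Matrix.diagonal_transpose]
        calc Nᵀ * (Matrix.diagonal h * Mᵀ) * G₂ * (M * Matrix.diagonal h * N)
            = Nᵀ * (Matrix.diagonal h * (Mᵀ * G₂ * M) * Matrix.diagonal h) * N := by simp only [Matrix.mul_assoc]
          _ = Nᵀ * (Mᵀ * G₂ * M) * N := by
              rw [hgram, Matrix.diagonal_mul_diagonal, Matrix.diagonal_mul_diagonal]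
              congr 3
              funext j
              simp only [h]; split_ifs <;> ring
          _ = (M * N)ᵀ * G₂ * (M * N) := by rw [Matrix.transpose_mul]; simp only [Matrix.mul_assoc]
          _ = G₂ := by rw [hMN, Matrix.transpose_one, Matrix.one_mul, Matrix.mul_one]
      let kk : GL (Fin 2 × Fin b) F := Matrix.GeneralLinearGroup.mkOfDetNeZero
        ((1 : Matrix (Fin 2) (Fin 2) F) ⊗ₖ (B : Matrix (Fin b) (Fin b) F)) (by
          rw [Matrix.det_kronecker]; simp [(Matrix.isUnits_det_units B).ne_zero])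
      have hkG : (kk : Matrix (Fin 2 × Fin b) (Fin 2 × Fin b) F)ᵀ * (G₁ ⊗ₖ G₂) * kk = G₁ ⊗ₖ G₂ := by
        show ((1 : Matrix (Fin 2) (Fin 2) F) ⊗ₖ (B : Matrix (Fin b) (Fin b) F))ᵀ * _ * ((1 : Matrix (Fin 2) (Fin 2) F) ⊗ₖ (B : Matrix (Fin b) (Fin b) F)) = _
        rw [← Matrix.kroneckerMap_transpose, Matrix.transpose_one, ← Matrix.mul_kronecker_mul, ← Matrix.mul_kronecker_mul,
          Matrix.one_mul, Matrix.mul_one, hBG]
      have hyS := hsp kk hkG
      have hyy : (Φ kk : Matrix (Fin d ⊕ Fin d) (Fin d ⊕ Fin d) F) * Φ kk = 1 := by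
        rw [← Units.val_mul, ← map_mul]
        have : kk * kk = 1 := Units.ext (by
          show ((1 : Matrix (Fin 2) (Fin 2) F) ⊗ₖ (B : Matrix (Fin b) (Fin b) F)) * ((1 : Matrix (Fin 2) (Fin 2) F) ⊗ₖ (B : Matrix (Fin b) (Fin b) F)) = 1
          rw [← Matrix.mul_kronecker_mul, Matrix.one_mul, ← Units.val_mul]
          have : B * B = 1 := by
            have hH : Hg * Hg = 1 := Units.ext (by
              show Matrix.diagonal h * Matrix.diagonal h = 1
              rw [Matrix.diagonal_mul_diagonal, ← Matrix.diagonal_one]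
              congr 1; funext j; simp only [h]; split_ifs <;> ring)
            rw [hB]
            calc Mg * Hg * Mg⁻¹ * (Mg * Hg * Mg⁻¹) = Mg * (Hg * Hg) * Mg⁻¹ := by group
              _ = 1 := by rw [hH]; group
          rw [this, Units.val_one, Matrix.one_kronecker_one])
        rw [this, map_one, Units.val_one]
      obtain ⟨g, hg, hgy⟩ := H47.sp_invol_conj_rank h2 hx hyS hxx hyy (by
        rw [hrkx, hv]
        have e1 := H47.tensHom_rank e P kk 1
        rw [one_smul, one_smul] at e1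
        rw [hΦ, e1]
        have e2 := H47.rank_sub_of_left_scalar (a := 2) (A := (1 : Matrix (Fin 2) (Fin 2) F))
          (B := (B : Matrix (Fin b) (Fin b) F)) (α := 1) (one_smul _ _).symm 1
        rw [one_smul, one_smul, one_smul] at e2
        show v + v = ((1 : Matrix (Fin 2) (Fin 2) F) ⊗ₖ (B : Matrix (Fin b) (Fin b) F) - 1).rank
        rw [e2]
        have e3 := H47.rank_conj_sub Mg⁻¹ Hg 1
        rw [one_smul, inv_inv, ← hB] at e3
        rw [e3]
        have e4 : ((Hg : Matrix (Fin b) (Fin b) F) - 1).rank = v := by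
          show (Matrix.diagonal h - 1).rank = v
          have := H47.rank_diag_sub h (1 : F)
          rw [one_smul] at this
          rw [this, show Fintype.card {j // h j ≠ 1} = Fintype.card {j : Fin b // (j : ℕ) < v} from
            Fintype.card_congr (Equiv.subtypeEquivRight fun j => by simp only [h]; split_ifs with hj <;> simp [hj, hm1]),
            Fintype.card_fin_lt_of_le hvb]
        rw [e4]; ring)
      exact ⟨g, hg, hgy ▸ hmem 1 B kk (by simp [kk])⟩
    · set J : Matrix (Fin 2) (Fin 2) F := !![0, -1; 1, 0] with hJ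
      let A : GL (Fin 2) F := Matrix.GeneralLinearGroup.mkOfDetNeZero J (by simp [hJ, Matrix.det_fin_two])
      let kk : GL (Fin 2 × Fin b) F := Matrix.GeneralLinearGroup.mkOfDetNeZero
        (J ⊗ₖ (1 : Matrix (Fin b) (Fin b) F)) (by
          rw [Matrix.det_kronecker]; simp [hJ, Matrix.det_fin_two])
      have hkG : (kk : Matrix (Fin 2 × Fin b) (Fin 2 × Fin b) F)ᵀ * (G₁ ⊗ₖ G₂) * kk = G₁ ⊗ₖ G₂ := by
        show (J ⊗ₖ (1 : Matrix (Fin b) (Fin b) F))ᵀ * _ * (J ⊗ₖ (1 : Matrix (Fin b) (Fin b) F)) = _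
        rw [← Matrix.kroneckerMap_transpose, Matrix.transpose_one, ← Matrix.mul_kronecker_mul, ← Matrix.mul_kronecker_mul,
          Matrix.one_mul, Matrix.mul_one, hA2, show J.det = 1 by simp [hJ, Matrix.det_fin_two], one_smul]
      have hkk : (kk : Matrix (Fin 2 × Fin b) (Fin 2 × Fin b) F) * kk = (-1 : F) • 1 := by
        show (J ⊗ₖ (1 : Matrix (Fin b) (Fin b) F)) * (J ⊗ₖ (1 : Matrix (Fin b) (Fin b) F)) = _
        rw [← Matrix.mul_kronecker_mul, show J * J = (-1 : F) • 1 by
          ext i j; fin_cases i <;> fin_cases j <;> simp [hJ, Matrix.mul_apply, Fin.sum_univ_two],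
          Matrix.one_mul, Matrix.smul_kronecker, Matrix.one_kronecker_one]
      have hyS := hsp kk hkG
      have hyy : (Φ kk : Matrix (Fin d ⊕ Fin d) (Fin d ⊕ Fin d) F) * Φ kk = (-1 : F) • 1 := by
        rw [← Units.val_mul, ← map_mul, hΦ, H47.tensHom_val, Units.val_mul, hkk,
          show ((-1 : F) • (1 : Matrix (Fin 2 × Fin b) (Fin 2 × Fin b) F)).submatrix e e = (-1 : F) • 1 by
            ext i j; by_cases h : i = j <;> simp [Matrix.one_apply, e.injective.eq_iff, h],
          Matrix.mul_smul, Matrix.mul_one, Matrix.smul_mul, Units.mul_inv]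
      exact H47.sp_square_neg_conj h2 (hmem A 1 kk rfl) hx hyS hxx hyy

end Cfsg.Agent.S5980
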