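import Cfsg.Statements.S5981
import Cfsg.Agent.H47.OrthSimPos
import Cfsg.Agent.H47.OrthIndex
import Cfsg.Agent.H45.OrthTransfer
-- import your own Cfsg.Agent.* helpers here

set_option autoImplicit false
open scoped MatrixGroups Matrix
open Cfsg

namespace Cfsg.Agent.S5981

/-- Elements of prime order of PSL_n(q), q odd, and the subgroups of orthogonal type. Here `T = PSL_n(F)` for a field `F` with `q` elements, `q` odd, `n ≥ 3`; `Q` is a non-degenerate quadratic form on `F^n` (of either type when `n` is even) and `H` is the subgroup of matrices of determinant 1 that preserve `Q` up to a scalar — a subgroup of type O^ε_n(q) (maximality is not assumed); Ω is the set of cosets of `H` in `T`, so an element of `T` of prime order `r` (a matrix `x` of determinant 1 with `x^r` scalar, `x` not scalar) fixes a point of Ω exactly when some conjugate of `x` by a matrix of determinant 1 preserves `Q` up to a scalar. Let `r` be a prime dividing the index of `H`, with `(n, r) ≠ (6, 3)`. Then every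 element of `T` of order `r` fixes a point of Ω if and only if `r = 2`, or `r ∈ {3, 5}`, `n = r` and `(q − 1)_r = r` (the `r`-part of `q − 1` is exactly `r`). The case `(n, r) = (6, 3)` is not covered by this statement. -/
theorem result {F : Type*} [Field F] [Fintype F] {p : ℕ} [Fact p.Prime] [CharP F p] {q : ℕ} (hq : Fintype.card F = q)
    (hodd : Odd q) (n : ℕ) (hn : 3 ≤ n) (Q : (Fin n → F) → F) (hQ : Cfsg.Geo.IsNondegenerateQuadraticForm Q)
    (r : ℕ) [Fact r.Prime] (hgap : ¬ (n = 6 ∧ r = 3))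
    (hΩ : r ∣ (Cfsg.Geo.quadSimilarityGroup Q).relIndex (Cfsg.Geo.specialLinear (Fin n) F)) :
    (∀ x ∈ Cfsg.Geo.specialLinear (Fin n) F, (∃ z : F, ((x ^ r : GL (Fin n) F) : Matrix (Fin n) (Fin n) F) = z • (1 : Matrix (Fin n) (Fin n) F)) →
      (∀ z : F, (x : Matrix (Fin n) (Fin n) F) ≠ z • (1 : Matrix (Fin n) (Fin n) F)) →
      ∃ g ∈ Cfsg.Geo.specialLinear (Fin n) F, g⁻¹ * x * g ∈ Cfsg.Geo.quadSimilarityGroup Q) ↔
    (r = 2 ∨ ((r = 3 ∨ r = 5) ∧ n = r ∧ padicValNat r (q - 1) = 1)) := by
  classical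
  subst hq
  obtain ⟨Q₀, rfl, hQ₀⟩ := H45.exists_quadForm hQ
  have hQn : (QuadraticMap.polarBilin Q₀).Nondegenerate := hQ₀
  haveI : Nonempty (Fin n) := ⟨⟨0, by omega⟩⟩
  have hprime : r.Prime := Fact.out
  constructor
  · intro hall
    by_contra hcon
    push Not at hcon
    obtain ⟨hr2, hexc⟩ := hcon
    have hG0 := H47.polarGram_det_ne_zero hQn
    have hH : ∀ g ∈ Cfsg.Geo.quadSimilarityGroup ⇑Q₀, ∃ c : Fˣ,
        (g : Matrix (Fin n) (Fin n) F)ᵀ * H47.polarGram Q₀ * g = (c : F) • H47.polarGram Q₀ := by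
      rintro g ⟨c, hc⟩
      exact ⟨c, H47.quadSim_gram hc⟩
    have hfinish : ∀ (x : GL (Fin n) F) (z : F), (x : Matrix (Fin n) (Fin n) F).det = 1 →
        (x : Matrix (Fin n) (Fin n) F) ^ r = z • 1 → (∀ a : F, (x : Matrix (Fin n) (Fin n) F) ≠ a • 1) →
        (∀ P : GL (Fin n) F, P⁻¹ * x * P ∉ Cfsg.Geo.quadSimilarityGroup ⇑Q₀) → False := by
      intro x z hd hz hns hP
      obtain ⟨g, -, hg⟩ := hall x (H47.mem_sl_iff.2 hd) ⟨z, by rw [Units.val_pow_eq_pow_val, hz]⟩ hns
      exact hP g hg
    have hfinish' : (∃ x : GL (Fin n) F, (x : Matrix (Fin n) (Fin n) F).det = 1 ∧ x ^ r = 1 ∧ x ≠ 1 ∧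
        ∀ P : GL (Fin n) F, P⁻¹ * x * P ∉ Cfsg.Geo.quadSimilarityGroup ⇑Q₀) → False := by
      rintro ⟨x, hd, hr1, hx1, hP⟩
      refine hfinish x 1 hd (by rw [← Units.val_pow_eq_pow_val, hr1, Units.val_one, one_smul]) ?_ hP
      intro a ha
      apply hP 1
      rw [inv_one, one_mul, mul_one]
      have ha0 : a ≠ 0 := by
        rintro rfl
        rw [ha, zero_smul, Matrix.det_zero] at hd
        exact zero_ne_one hd
      refine ⟨Units.mk0 (a * a) (mul_ne_zero ha0 ha0), fun v => ?_⟩
      rw [ha, Matrix.smul_mulVec, Matrix.one_mulVec, QuadraticMap.map_smul, smul_eq_mul, Units.val_mk0]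
    by_cases hrp : r ∣ Fintype.card F
    · obtain ⟨f, -, hf⟩ := FiniteField.card F p
      rw [hf] at hrp
      obtain rfl : r = p :=
        (Nat.prime_dvd_prime_iff_eq hprime Fact.out).1 (hprime.dvd_of_dvd_pow hrp)
      exact hfinish' (H47.orth_der_transvection hr2 (by omega) hQn)
    by_cases hr1 : r ∣ Fintype.card F - 1
    · obtain ⟨x, z, hd, hz, hns, hP⟩ := H47.orth_der_diag hr2 hn hgap
        (fun h => hexc h.1 h.2.1 h.2.2) hr1 hG0 hH
      exact hfinish x z hd hz hns hP
    rcases H47.orth_index_cases hodd hn hQn hr2 hrp hr1 hΩ with ⟨j, hj, hjn, hdvd⟩ | ⟨hdvd, hcard⟩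
    · have hpow : (Fintype.card F : ZMod r) ^ j = 1 := by
        rw [← Nat.cast_pow]
        refine Eq.trans ?_ Nat.cast_one
        rw [ZMod.natCast_eq_natCast_iff]
        exact ((Nat.modEq_iff_dvd' (Nat.one_le_pow _ _ Fintype.card_pos)).mpr hdvd).symm
      have hd := orderOf_dvd_of_pow_eq_one hpow
      have hle := Nat.le_of_dvd hj.pos hd
      exact hfinish' (H47.congr_der_block hr2 (by omega) rfl (Odd.of_dvd_nat hj hd) hr1 hG0 hH)
    · exact hfinish' (H47.orth_der_fpf (by omega) hdvd hr1 hQn hcard)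
  · intro hor x hx hz hns
    obtain ⟨z, hz⟩ := hz
    rw [Units.val_pow_eq_pow_val] at hz
    have hd := H47.mem_sl_iff.1 hx
    rcases hor with rfl | ⟨hr, rfl, hv⟩
    · rw [pow_two] at hz
      by_cases hsq : IsSquare z
      · obtain ⟨l, rfl⟩ := hsq
        have hl : l ≠ 0 := by
          rintro rfl
          have h := congrArg Matrix.det hz
          rw [Matrix.det_mul, hd, one_mul, mul_zero, zero_smul, Matrix.det_zero] at h
          exact one_ne_zero h
        exact H47.quadSim_split hodd (by omega) hQn hl hz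
      · rcases Nat.even_or_odd n with ⟨m, hm⟩ | ⟨m, hm⟩
        · exact H47.quadSim_nonsquare hodd (by omega : n = 2 * m) (by omega) hQn hz hsq
        · exfalso
          apply hsq
          have h := congrArg Matrix.det hz
          rw [Matrix.det_mul, hd, one_mul, Matrix.det_smul, Matrix.det_one, mul_one, Fintype.card_fin, hm,
            pow_succ, pow_mul] at h
          have hz0 : z ≠ 0 := by rintro rfl; simp at h
          refine ⟨(z ^ m)⁻¹, ?_⟩
          rw [← mul_inv, ← pow_add, ← two_mul, pow_mul]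
          refine eq_inv_of_mul_eq_one_left ?_
          rw [mul_comm]; exact h.symm
    · exact H47.quadSim_small hodd hr hv hQn hd hz

end Cfsg.Agent.S5981
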