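import Cfsg.Statements.S5982
import Cfsg.Agent.H47.UnitSimNeg
import Cfsg.Agent.H47.UnitSimSmall

set_option autoImplicit false
open scoped MatrixGroups
open Cfsg

namespace Cfsg.Agent.S5982

/-- Elements of prime order of PSL_n(q), q = q₀², and the subgroups of unitary type. Here `T = PSL_n(F)` for a field `F` with `q = q₀²` elements (`n ≥ 3`), `f` is a non-degenerate unitary form on `F^n` for the involutory automorphism `x ↦ x^{q₀}`, and `H` is the subgroup of matrices of determinant 1 that preserve `f` up to a scalar — a subgroup of type GU_n(q₀) (maximality is not assumed); Ω is the set of cosets of `H` in `T`, so an element of `T` of prime order `r` (a matrix `x` of determinant 1 with `x^r` scalar, `x` not scalar) fixes a point of Ω exactly when some conjugate of `x` by a matrix of determinant 1 preserves `f` up to a scalar. Let `r` be a prime dividing the index of `H`, with `r = 2` or `r` different from the characteristic `p`, and with `(n, r) ≠ (6, 3)`. Then every element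 of `T` of order `r` fixes a point of Ω if and only if either `r = 2` and (`p = 2` or `(n)_2 ≤ (q − 1)_2`), or `r ∈ {3, 5}`, `n = r` and `(q₀ − 1)_r = r`. (Odd `r = p` and the case `(n, r) = (6, 3)` are not covered by this statement.) -/
theorem result {F : Type*} [Field F] [Fintype F] {p : ℕ} [Fact p.Prime] [CharP F p] {q : ℕ} (hq : Fintype.card F = q)
    (q₀ : ℕ) (hq₀ : q = q₀ ^ 2) (n : ℕ) (hn : 3 ≤ n) (f : (Fin n → F) → (Fin n → F) → F) (hf : Cfsg.Geo.IsUnitaryFormPow q₀ f)
    (r : ℕ) [Fact r.Prime] (hr : r = 2 ∨ r ≠ p) (hgap : ¬ (n = 6 ∧ r = 3))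
    (hΩ : r ∣ (Cfsg.Geo.similarityGroup f).relIndex (Cfsg.Geo.specialLinear (Fin n) F)) :
    (∀ x ∈ Cfsg.Geo.specialLinear (Fin n) F, (∃ z : F, ((x ^ r : GL (Fin n) F) : Matrix (Fin n) (Fin n) F) = z • (1 : Matrix (Fin n) (Fin n) F)) →
      (∀ z : F, (x : Matrix (Fin n) (Fin n) F) ≠ z • (1 : Matrix (Fin n) (Fin n) F)) →
      ∃ g ∈ Cfsg.Geo.specialLinear (Fin n) F, g⁻¹ * x * g ∈ Cfsg.Geo.similarityGroup f) ↔
    ((r = 2 ∧ (p = 2 ∨ padicValNat 2 n ≤ padicValNat 2 (q - 1))) ∨ ((r = 3 ∨ r = 5) ∧ n = r ∧ padicValNat r (q₀ - 1) = 1)) := by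
  classical
  subst hq
  have hprime : r.Prime := Fact.out
  have hF : Fintype.card F = q₀ ^ 2 := hq₀
  have hq1 := H51.one_lt_q hF
  have hn0 : 0 < n := by omega
  haveI : Nonempty (Fin n) := ⟨⟨0, hn0⟩⟩
  obtain ⟨C, hC⟩ := H47.exists_herm_coords hF hf
  set H₀ := Cfsg.Geo.similarityGroup (Cfsg.hermForm n F q₀) with hH₀
  set S := Cfsg.Geo.specialLinear (Fin n) F
  have hSmap : S.map (MulAut.conj C).toMonoidHom = S := by
    ext g
    rw [Subgroup.mem_map_equiv]
    simp only [S, H47.mem_sl_iff, MulAut.conj_symm_apply, Units.val_mul]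
    rw [Matrix.det_mul, Matrix.det_mul, mul_right_comm, ← Matrix.det_mul, Units.inv_mul, Matrix.det_one, one_mul]
  have hΩ₀ : r ∣ H₀.relIndex S := by
    rw [hC, Subgroup.relIndex_comap, hSmap] at hΩ
    exact hΩ
  have hmod2 : ∀ {x : GL (Fin n) F} {z : F}, (x : Matrix (Fin n) (Fin n) F) ^ 2 = z • 1 →
      (x : Matrix (Fin n) (Fin n) F) * x = z • 1 := fun h => by rwa [pow_two] at h
  have hpq : p = 2 ↔ (2 : F) = 0 := by
    refine ⟨fun h => by subst h; exact CharTwo.two_eq_zero, fun h => ?_⟩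
    have : ((2 : ℕ) : F) = 0 := by exact_mod_cast h
    exact (Nat.prime_dvd_prime_iff_eq Fact.out Nat.prime_two).1 ((CharP.cast_eq_zero_iff F p 2).1 this)
  -- move between the two coordinate systems
  have hmove : ∀ (D x : GL (Fin n) F) (w : F),
      (x : Matrix (Fin n) (Fin n) F) = w • 1 → ((D * x * D⁻¹ : GL (Fin n) F) : Matrix (Fin n) (Fin n) F) = w • 1 := by
    intro D x w h
    rw [Units.val_mul, Units.val_mul, h, Matrix.mul_smul, Matrix.mul_one, Matrix.smul_mul, Units.mul_inv]
  have hpowconj : ∀ (D x : GL (Fin n) F), (D * x * D⁻¹) ^ r = D * x ^ r * D⁻¹ := fun D x => by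
    rw [← MulAut.conj_apply, ← map_pow, MulAut.conj_apply]
  have hdet : ∀ (D x : GL (Fin n) F), ((D * x * D⁻¹ : GL (Fin n) F) : Matrix (Fin n) (Fin n) F).det
      = (x : Matrix (Fin n) (Fin n) F).det := fun D x => by
    rw [Units.val_mul, Units.val_mul, Matrix.det_mul, Matrix.det_mul, mul_right_comm, ← Matrix.det_mul,
      Units.mul_inv, Matrix.det_one, one_mul]
  constructor
  · intro hall
    by_contra hcon
    have hfinish : ∀ (x : GL (Fin n) F) (z : F), (x : Matrix (Fin n) (Fin n) F).det = 1 →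
        (x : Matrix (Fin n) (Fin n) F) ^ r = z • 1 → (∀ a : F, (x : Matrix (Fin n) (Fin n) F) ≠ a • 1) →
        (∀ P : GL (Fin n) F, P⁻¹ * x * P ∉ H₀) → False := by
      intro x z hd hz hns hP
      obtain ⟨g, -, hg⟩ := hall (C⁻¹ * x * C⁻¹⁻¹) (H47.mem_sl_iff.2 (by rw [hdet, hd])) ⟨z, by
          rw [hpowconj]
          exact hmove _ _ z (by rw [Units.val_pow_eq_pow_val, hz])⟩ (fun a ha => hns a (by
          have := hmove C _ a ha
          simpa [mul_assoc] using this))
      rw [hC, Subgroup.mem_comap] at hg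
      refine hP (C * g * C⁻¹) ?_
      have e : (C * g * C⁻¹)⁻¹ * x * (C * g * C⁻¹) = (MulAut.conj C).toMonoidHom (g⁻¹ * (C⁻¹ * x * C⁻¹⁻¹) * g) := by
        simp only [MulEquiv.coe_toMonoidHom, MulAut.conj_apply]; group
      rw [e]; exact hg
    have hfinish' : (∃ x : GL (Fin n) F, (x : Matrix (Fin n) (Fin n) F).det = 1 ∧ x ^ r = 1 ∧ x ≠ 1 ∧
        ∀ P : GL (Fin n) F, P⁻¹ * x * P ∉ H₀) → False := by
      rintro ⟨x, hd, hr1, hx1, hP⟩
      refine hfinish x 1 hd (by rw [← Units.val_pow_eq_pow_val, hr1, Units.val_one, one_smul]) ?_ hP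
      intro a ha
      apply hP 1
      rw [inv_one, one_mul, mul_one, H47.mem_hermSim_iff hF]
      have ha0 : a ≠ 0 := by
        rintro rfl
        rw [ha, zero_smul, Matrix.det_zero] at hd
        exact zero_ne_one hd
      refine ⟨Units.mk0 (a ^ q₀ * a) (mul_ne_zero (pow_ne_zero _ ha0) ha0), ?_⟩
      rw [ha, H51.adj_smul, H51.adj_one, Matrix.smul_mul, Matrix.one_mul, smul_smul, Units.val_mk0]
    rcases eq_or_ne r 2 with rfl | hr2
    · push Not at hcon
      obtain ⟨hp2, hv⟩ := hcon.1 rfl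
      have h2 : (2 : F) ≠ 0 := fun h => hp2 (hpq.2 h)
      have hchar : ringChar F ≠ 2 := by rw [ringChar.eq F p]; exact hp2
      have hqodd : Odd q₀ := by
        have := FiniteField.odd_card_of_char_ne_two hchar
        rw [← Nat.odd_iff, hF, Nat.odd_pow_iff two_ne_zero] at this
        exact this
      have hFodd := Nat.odd_iff.2 (FiniteField.odd_card_of_char_ne_two hchar)
      set k := padicValNat 2 (Fintype.card F - 1) with hk
      obtain ⟨m, hm⟩ : 2 ∣ n := dvd_of_one_le_padicValNat (by omega)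
      have hm0 : m ≠ 0 := by omega
      have hkm : k ≤ padicValNat 2 m := by
        rw [hm, padicValNat.mul two_ne_zero hm0, padicValNat_self] at hv
        omega
      have hcard : Fintype.card F - 1 ≠ 0 := by have := Fintype.one_lt_card (α := F); omega
      obtain ⟨g, hg⟩ := IsCyclic.exists_generator (α := Fˣ)
      obtain ⟨o, ho⟩ : 2 ^ k ∣ Fintype.card F - 1 := pow_padicValNat_dvd
      have hog : orderOf g = Fintype.card F - 1 := by
        rw [orderOf_eq_card_of_forall_mem_zpowers hg, Nat.card_units, Nat.card_eq_fintype_card]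
      have hoo : Odd o := by
        rw [← Nat.not_even_iff_odd, even_iff_two_dvd]
        rintro ⟨o', rfl⟩
        have h1 : k + 1 ≤ padicValNat 2 (Fintype.card F - 1) :=
          (padicValNat_dvd_iff_le hcard).mp ⟨o', by rw [ho]; ring⟩
        omega
      have hw : (g ^ o) ^ m = 1 := by
        obtain ⟨m', hm'⟩ : 2 ^ k ∣ m := (padicValNat_dvd_iff_le hm0).mpr hkm
        rw [hm', ← pow_mul, ← mul_assoc, mul_comm o, ← ho, pow_mul, ← hog, pow_orderOf_eq_one, one_pow]
      have hwns : ¬ IsSquare ((g ^ o : Fˣ) : F) := by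
        intro hsq
        rw [FiniteField.isSquare_iff hchar (Units.ne_zero _), ← Units.val_pow_eq_pow_val, Units.val_eq_one,
          ← pow_mul] at hsq
        have h1 := orderOf_dvd_of_pow_eq_one hsq
        rw [hog] at h1
        have h2' : Fintype.card F - 1 = 2 * (Fintype.card F / 2) := by rcases hFodd with ⟨a, ha⟩; omega
        have hhalf : Fintype.card F / 2 ≠ 0 := by omega
        rw [h2', mul_comm o] at h1
        have h3 : (2 : ℕ) ∣ o := Nat.dvd_of_mul_dvd_mul_left (Nat.pos_of_ne_zero hhalf) (by rwa [mul_comm 2] at h1)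
        exact Nat.not_even_iff_odd.2 hoo (even_iff_two_dvd.2 h3)
      set z : F := -((g ^ o : Fˣ) : F) with hzdef
      have hzns : ¬ IsSquare z := fun h => hwns (by
        have := (H47.neg_one_square hF).mul h
        rwa [hzdef, neg_one_mul, neg_neg] at this)
      let ε : Fin n ≃ Fin 2 × Fin m := (finCongr hm).trans finProdFinEquiv.symm
      let B : Matrix (Fin 2) (Fin 2) F := !![0, z; 1, 0]
      let M : Matrix (Fin n) (Fin n) F := (Matrix.blockDiagonal fun _ : Fin m => B).submatrix ε ε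
      have hMd : M.det = 1 := by
        rw [Matrix.det_submatrix_equiv_self, Matrix.det_blockDiagonal]
        simp only [B, Matrix.det_fin_two_of, zero_mul, zero_sub, mul_one, Finset.prod_const, Finset.card_univ,
          Fintype.card_fin, hzdef, neg_neg]
        rw [← Units.val_pow_eq_pow_val, hw, Units.val_one]
      have hM2 : M * M = z • 1 := by
        have hB : B * B = z • 1 := by
          ext a c; fin_cases a <;> fin_cases c <;> simp [B, Matrix.mul_apply, Fin.sum_univ_two]
        rw [Matrix.submatrix_mul_equiv, ← Matrix.blockDiagonal_mul, hB]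
        rw [show (fun _ : Fin m => z • (1 : Matrix (Fin 2) (Fin 2) F)) = z • (1 : Fin m → Matrix (Fin 2) (Fin 2) F) from rfl,
          Matrix.blockDiagonal_smul, Matrix.blockDiagonal_one]
        ext a c
        simp [Matrix.one_apply]
      let x : GL (Fin n) F := Matrix.GeneralLinearGroup.mkOfDetNeZero M (by rw [hMd]; exact one_ne_zero)
      refine hfinish x z hMd (by rw [pow_two]; exact hM2) (fun a ha => ?_) (fun P => ?_)
      · change M = a • 1 at ha
        apply hzns
        rw [ha, Matrix.smul_mul, Matrix.one_mul, smul_smul] at hM2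
        exact ⟨a, by simpa using (congrFun (congrFun hM2 (Classical.arbitrary _)) (Classical.arbitrary (Fin n))).symm⟩
      · refine H47.nonsquare_not_hermSim hF hqodd hn0 (z := z) ?_ hzns
        rw [← Units.val_mul, show P⁻¹ * x * P * (P⁻¹ * x * P) = P⁻¹ * (x * x) * P by group]
        rw [Units.val_mul, Units.val_mul, Units.val_mul, show (x : Matrix (Fin n) (Fin n) F) * x = z • 1 from hM2,
          Matrix.mul_smul, Matrix.mul_one, Matrix.smul_mul, Units.inv_mul]
    have hrp : ¬ r ∣ q₀ := by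
      intro h
      obtain ⟨k, -, hk, hpp⟩ := H51.exists_q_pow hF
      rw [ringChar.eq F p] at hk hpp
      rw [hk] at h
      rcases hr with h' | h'
      · exact hr2 h'
      · exact h' ((Nat.prime_dvd_prime_iff_eq hprime hpp).1 (hprime.dvd_of_dvd_pow h))
    obtain ⟨i, hi1, hin, hi⟩ := H47.herm_index_cases hF hn0 hrp hΩ₀
    have h2r : (2 : ZMod r) ≠ 0 := by
      intro h
      have : ((2 : ℕ) : ZMod r) = 0 := by exact_mod_cast h
      exact hr2 ((Nat.prime_dvd_prime_iff_eq hprime Nat.prime_two).1 ((ZMod.natCast_eq_zero_iff _ _).1 this))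
    have hneg : (1 : ZMod r) ≠ -1 := fun h => h2r (by linear_combination h)
    have hsq : ((q₀ : ZMod r) ^ i) ^ 2 = 1 := by rw [hi, neg_sq, ← pow_mul, mul_comm, pow_mul, neg_one_sq, one_pow]
    by_cases hr1 : r ∣ Fintype.card F - 1
    · have hr0 : r ∣ q₀ - 1 := by
        rw [hF, show q₀ ^ 2 - 1 = (q₀ + 1) * (q₀ - 1) by simpa [sq] using Nat.sq_sub_sq q₀ 1] at hr1
        rcases hprime.dvd_mul.1 hr1 with h | h
        · exfalso
          rw [← ZMod.natCast_eq_zero_iff, Nat.cast_add, Nat.cast_one, add_eq_zero_iff_eq_neg] at h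
          rw [h] at hi
          exact h2r (by
            have h' : ((-1 : ZMod r) ^ i) * ((-1 : ZMod r) ^ i) = 1 := by
              rw [← mul_pow, neg_one_mul, neg_neg, one_pow]
            linear_combination (-1 : ZMod r) ^ i * hi - 2 * h')
        · exact h
      have hexc : ¬ ((r = 3 ∨ r = 5) ∧ n = r ∧ padicValNat r (q₀ - 1) = 1) := fun h => hcon (Or.inr h)
      obtain ⟨x, z, hd, hz, hns, hP⟩ := H47.herm_der_diag hF hr2 hn hgap hexc hr0
      exact hfinish x z hd hz hns hP
    · have hQ : (Fintype.card F : ZMod r) ^ i = 1 := by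
        rw [hF, Nat.cast_pow, ← pow_mul, mul_comm, pow_mul, hsq]
      have hdvd := orderOf_dvd_of_pow_eq_one hQ
      refine hfinish' (H47.herm_der_block hF ((Nat.le_of_dvd (by omega) hdvd).trans hin) rfl
        (Nat.pos_of_ne_zero fun h => ?_) hr1 fun j hj => ?_)
      · rw [h, zero_dvd_iff] at hdvd; omega
      · have h1 : ((q₀ : ZMod r) ^ (2 * j)) ^ i = (-(q₀ : ZMod r)) ^ i := by rw [hj]
        rw [neg_pow, hi, ← pow_mul, show 2 * j * i = i * 2 * j by ring, pow_mul, pow_mul, hsq, one_pow] at h1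
        apply hneg
        refine h1.trans ?_
        rw [mul_neg, ← mul_pow, neg_one_mul, neg_neg, one_pow]
  · intro hor x hx hz hns
    obtain ⟨z, hz⟩ := hz
    rw [Units.val_pow_eq_pow_val] at hz
    set x₀ : GL (Fin n) F := C * x * C⁻¹ with hx₀
    have hd : (x₀ : Matrix (Fin n) (Fin n) F).det = 1 := by rw [hx₀, hdet]; exact H47.mem_sl_iff.1 hx
    have hz₀ : (x₀ : Matrix (Fin n) (Fin n) F) ^ r = z • 1 := by
      rw [← Units.val_pow_eq_pow_val, hx₀, hpowconj]
      exact hmove _ _ z (by rw [Units.val_pow_eq_pow_val, hz])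
    suffices h : ∃ P : GL (Fin n) F, P ∈ S ∧ P⁻¹ * x₀ * P ∈ H₀ by
      obtain ⟨P, hP, hP'⟩ := h
      refine ⟨C⁻¹ * P * C⁻¹⁻¹, H47.mem_sl_iff.2 (by rw [hdet]; exact H47.mem_sl_iff.1 hP), ?_⟩
      rw [hC, Subgroup.mem_comap]
      have e : (MulAut.conj C).toMonoidHom ((C⁻¹ * P * C⁻¹⁻¹)⁻¹ * x * (C⁻¹ * P * C⁻¹⁻¹)) = P⁻¹ * x₀ * P := by
        simp only [MulEquiv.coe_toMonoidHom, MulAut.conj_apply, hx₀]; group
      rw [e]; exact hP'
    rcases hor with ⟨rfl, hor⟩ | ⟨hr35, rfl, hv⟩
    · rcases eq_or_ne p 2 with rfl | hp2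
      · refine H47.hermSim_char_two hF (hmod2 hz₀) fun a ha => hns a ?_
        have := hmove C⁻¹ _ a ha
        simpa [hx₀, mul_assoc] using this
      · exact H47.hermSim_two hF hn0 (fun _ => hor.resolve_left hp2) hd (hmod2 hz₀) (fun h => hp2 (hpq.2 h))
    · have hr1 : n ∣ q₀ - 1 := dvd_of_one_le_padicValNat hv.ge
      have hr2 : n ≠ 2 := by omega
      have hndvd : ¬ n ∣ q₀ + 1 := fun h => hr2 (by
        have h' := Nat.dvd_sub h hr1
        rw [show q₀ + 1 - (q₀ - 1) = 2 by omega] at h'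
        have := Nat.le_of_dvd two_pos h'
        omega)
      refine H47.hermSim_small hF hr35 ?_ (fun a ha => ?_) hd hz₀
      · rw [hF, show q₀ ^ 2 - 1 = (q₀ + 1) * (q₀ - 1) by simpa [sq] using Nat.sq_sub_sq q₀ 1,
          padicValNat.mul (by omega) (by omega), padicValNat.eq_zero_of_not_dvd hndvd, hv]
      · obtain ⟨k, hk⟩ := hr1
        conv_lhs => rw [show q₀ = n * k + 1 by omega, pow_succ, pow_mul, ha, one_pow, one_mul]

end Cfsg.Agent.S5982
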