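import Cfsg.Statements.S5983
import Cfsg.Agent.H47.SpOrthNeg
import Cfsg.Agent.H45.OrthTransfer

set_option autoImplicit false
open scoped MatrixGroups
open Cfsg

namespace Cfsg.Agent.S5983

/-- Elements of prime order of PSp_n(q), q even, and the subgroups of orthogonal type. Here `T = Sp_{2d}(F)` for a field `F` of characteristic 2 with `q` elements (`d ≥ 2`, `(d, q) ≠ (2, 2)`), realised as the invertible matrices preserving the standard alternating form; `Q` is a non-degenerate quadratic form on `F^{2d}` whose polar form is that alternating form, and `H` is the subgroup of `T` preserving `Q` up to a scalar (equivalently preserving `Q`) — a subgroup of type O^±_{2d}(q) (maximality is not assumed); `Q` is of plus type when `F^{2d}` contains a `d`-dimensional subspace on which `Q` vanishes, of minus type otherwise. Ω is the set of cosets of `H` in `T`, so an element of `T` of prime order `r` (`x ∈ T` with `x^r` scalar, `x` not scalar) fixes a point of Ω exactly when some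 `T`-conjugate of `x` preserves `Q`. Let `r` be a prime dividing the index of `H`. Then every element of `T` of order `r` fixes a point of Ω if and only if `r = 2` and either `Q` is of plus type or `d` is odd. -/
theorem result {F : Type*} [Field F] [Fintype F] {p : ℕ} [Fact p.Prime] [CharP F p] {q : ℕ} (hq : Fintype.card F = q)
    (hp : p = 2) (d : ℕ) (hd : 2 ≤ d) (hT : (d, q) ≠ (2, 2)) (Q : (Fin d ⊕ Fin d → F) → F) (hQ : Cfsg.Geo.IsNondegenerateQuadraticForm Q)
    (hQf : ∀ u v, QuadraticMap.polar Q u v = Cfsg.sympForm d F u v)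
    (r : ℕ) [Fact r.Prime]
    (hΩ : r ∣ (Cfsg.Geo.quadSimilarityGroup Q).relIndex (Cfsg.spGL d F)) :
    (∀ x ∈ Cfsg.spGL d F, (∃ z : F, ((x ^ r : GL (Fin d ⊕ Fin d) F) : Matrix (Fin d ⊕ Fin d) (Fin d ⊕ Fin d) F) = z • (1 : Matrix (Fin d ⊕ Fin d) (Fin d ⊕ Fin d) F)) →
      (∀ z : F, (x : Matrix (Fin d ⊕ Fin d) (Fin d ⊕ Fin d) F) ≠ z • (1 : Matrix (Fin d ⊕ Fin d) (Fin d ⊕ Fin d) F)) →
      ∃ g ∈ Cfsg.spGL d F, g⁻¹ * x * g ∈ Cfsg.Geo.quadSimilarityGroup Q) ↔
    (r = 2 ∧ (Cfsg.Geo.IsPlusTypeOn Q ⊤ ∨ Odd d)) := by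
  classical
  subst hq
  subst hp
  obtain ⟨Q₀, rfl, hQ₀⟩ := H45.exists_quadForm hQ
  have hpol : H47.HasSpPolar Q₀ := hQf
  have hd0 : 0 < d := by omega
  constructor
  · intro hall
    rcases eq_or_ne r 2 with rfl | hr2
    · refine ⟨rfl, ?_⟩
      by_contra hcon
      push Not at hcon
      obtain ⟨x, hxS, hx2, hx1, hder⟩ := H47.sp_invol_der hd0 (Nat.not_odd_iff_even.1 hcon.2) hpol hcon.1
      obtain ⟨g, hg, hmem⟩ := hall x hxS ⟨1, by rw [one_smul, pow_two, Units.val_mul, hx2]⟩
        (fun z hz => hx1 (by rw [hz, H47.sp_scalar_one hd0 hxS hz, one_smul]))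
      exact hder g hg hmem
    · exfalso
      obtain ⟨x, hxS, hxr, hx1, hder⟩ := H47.sp_odd_der hd hpol hr2 hΩ
      obtain ⟨g, hg, hmem⟩ := hall x hxS ⟨1, by rw [one_smul, hxr, Units.val_one]⟩
        (fun z hz => hx1 (Units.ext (by rw [hz, H47.sp_scalar_one hd0 hxS hz, one_smul, Units.val_one])))
      exact hder g hg hmem
  · rintro ⟨rfl, hok⟩ x hx ⟨z, hz⟩ -
    have hz1 : z = 1 := H47.sp_scalar_one hd0 ((Cfsg.spGL d F).pow_mem hx 2) hz
    refine H47.sp_invol_conj hd0 hpol hx ?_ hok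
    rw [← Units.val_mul, ← pow_two, hz, hz1, one_smul]

end Cfsg.Agent.S5983
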