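import Cfsg.Statements.S5984
import Cfsg.Agent.H47.GUPairNeg

set_option autoImplicit false
open scoped MatrixGroups
open Cfsg

namespace Cfsg.Agent.S5984

/-- Elements of prime order of PSU_n(q) and the stabilizers of pairs of complementary totally singular subspaces. Here `T = PSU_n(q)` is realised through `SU_n(q)`, the matrices of determinant 1 over the field `F` with `q²` elements preserving the hermitian form `Σ uᵢ vᵢ^q`, with `n ≥ 4` even; `D` is a pair of complementary subspaces of dimension `n/2` on each of which the form vanishes identically, and `H` is the subgroup of `SU_n(q)` fixing or interchanging the two members — a subgroup of type GL_{n/2}(q²).2 (maximality is not assumed). Ω is the set of cosets of `H`, so an element of `T` of prime order `r` (`x ∈ SU_n(q)` with `x^r` scalar, `x` not scalar) fixes a point of Ω exactly when some `SU_n(q)`-conjugate of `x` lies in `H`. Let `r` be a prime dividing the index of `H`. Then every element of `T` of order `r` fixes a point of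 Ω if and only if `r = 2`, `q` is odd and `(q + 1)_2 ≤ (n)_2` (2-parts). -/
theorem result {F : Type*} [Field F] [Fintype F] {p : ℕ} [Fact p.Prime] [CharP F p] {q : ℕ} (hq : Fintype.card F = q ^ 2)
    (n : ℕ) (hn : 4 ≤ n) (he : Even n) (D : Fin 2 → Submodule F (Fin n → F)) (hD : Cfsg.Geo.IsMDecomposition (n / 2) D)
    (hDs : ∀ i, Cfsg.Geo.IsTotallySingularFor (Cfsg.hermForm n F q) (D i))
    (r : ℕ) [Fact r.Prime]
    (hΩ : r ∣ (Cfsg.Geo.decompositionStabilizer D).relIndex (Cfsg.GU n F q ⊓ Cfsg.Geo.specialLinear (Fin n) F)) :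
    (∀ x ∈ Cfsg.GU n F q ⊓ Cfsg.Geo.specialLinear (Fin n) F, (∃ z : F, ((x ^ r : GL (Fin n) F) : Matrix (Fin n) (Fin n) F) = z • (1 : Matrix (Fin n) (Fin n) F)) →
      (∀ z : F, (x : Matrix (Fin n) (Fin n) F) ≠ z • (1 : Matrix (Fin n) (Fin n) F)) →
      ∃ g ∈ Cfsg.GU n F q ⊓ Cfsg.Geo.specialLinear (Fin n) F, g⁻¹ * x * g ∈ Cfsg.Geo.decompositionStabilizer D) ↔
    (r = 2 ∧ Odd q ∧ padicValNat 2 (q + 1) ≤ padicValNat 2 n) := by
  classical
  obtain ⟨m, rfl⟩ := he
  rw [show (m + m) / 2 = m by omega] at hD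
  have hm : 0 < m := by omega
  have hprime : r.Prime := Fact.out
  obtain ⟨e, Q, M, hM, hG, h0, h1⟩ := H47.exists_pair_coords hq rfl hD hDs
  constructor
  · intro hall
    have key : ∀ (x : GL (Fin (m + m)) F) (l z : F), x ∈ Cfsg.GU (m + m) F q →
        (x : Matrix (Fin (m + m)) (Fin (m + m)) F).det = 1 → l ^ (q + 1) = 1 →
        (x : Matrix (Fin (m + m)) (Fin (m + m)) F) ^ r = z • 1 →
        Odd ((x : Matrix (Fin (m + m)) (Fin (m + m)) F) - l • 1).rank →
        ((r = 2 ∧ z = l * l ∧ ((x : Matrix (Fin (m + m)) (Fin (m + m)) F) - l • 1).rank = 1) ∨ (r ≠ 2 ∧ z = 1)) →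
        False := by
      intro x l z hxU hxd hl hxr hodd hkind
      have hns : ∀ a : F, (x : Matrix (Fin (m + m)) (Fin (m + m)) F) ≠ a • 1 := by
        intro a ha
        rw [ha, ← sub_smul] at hodd
        by_cases hal : a - l = 0
        · rw [hal, zero_smul, Matrix.rank_zero] at hodd
          exact Nat.not_odd_zero hodd
        · rw [Matrix.rank_of_isUnit _ ((Matrix.isUnit_iff_isUnit_det _).mpr (by
            rw [Matrix.det_smul, Matrix.det_one, mul_one]; exact (pow_ne_zero _ hal).isUnit)), Fintype.card_fin] at hodd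
          exact Nat.not_even_iff_odd.2 hodd ⟨m, rfl⟩
      obtain ⟨g, hg, hgD⟩ := hall x (Subgroup.mem_inf.mpr ⟨hxU, H47.mem_sl_iff.2 hxd⟩)
        ⟨z, by rw [Units.val_pow_eq_pow_val, hxr]⟩ hns
      set y : GL (Fin (m + m)) F := g⁻¹ * x * g with hy
      have hgU := (Subgroup.mem_inf.mp hg).1
      have hyU : y ∈ Cfsg.GU (m + m) F q :=
        Subgroup.mul_mem _ (Subgroup.mul_mem _ (Subgroup.inv_mem _ hgU) hxU) hgU
      have hconj : ∀ A : F, ((y : Matrix (Fin (m + m)) (Fin (m + m)) F) - A • 1).rank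
          = ((x : Matrix (Fin (m + m)) (Fin (m + m)) F) - A • 1).rank := fun A => by
        rw [show (y : Matrix (Fin (m + m)) (Fin (m + m)) F) - A • 1
          = ((g⁻¹ : GL (Fin (m + m)) F) : Matrix (Fin (m + m)) (Fin (m + m)) F)
            * ((x : Matrix (Fin (m + m)) (Fin (m + m)) F) - A • 1) * (g : Matrix (Fin (m + m)) (Fin (m + m)) F) by
          rw [Matrix.mul_sub, Matrix.sub_mul, hy, Units.val_mul, Units.val_mul, Matrix.mul_smul, Matrix.mul_one,
            Matrix.smul_mul, Units.inv_mul],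
          Matrix.rank_mul_eq_left_of_isUnit_det _ _ (Matrix.isUnits_det_units g),
          Matrix.rank_mul_eq_right_of_isUnit_det _ _ (Matrix.isUnits_det_units g⁻¹)]
      have hyr : ((y ^ r : GL (Fin (m + m)) F) : Matrix (Fin (m + m)) (Fin (m + m)) F) = z • 1 := by
        rw [hy, show g⁻¹ * x * g = MulAut.conj g⁻¹ x by simp, ← map_pow, MulAut.conj_apply, inv_inv, Units.val_mul,
          Units.val_mul, Units.val_pow_eq_pow_val, hxr, Matrix.mul_smul, Matrix.mul_one, Matrix.smul_mul, Units.inv_mul]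
      rcases H47.pair_rank hq hM hG h0 h1 hgD hyU hl with he | ⟨⟨hs0, hs1⟩, hswap⟩
      · rw [hconj] at he
        exact Nat.not_even_iff_odd.2 hodd he
      rcases hkind with ⟨rfl, rfl, hrk⟩ | ⟨hr2, rfl⟩
      · rw [← pow_two, ← Units.val_pow_eq_pow_val, hyr] at hswap
        have := hswap rfl
        rw [hconj, hrk] at this
        omega
      · -- odd powers interchange the two subspaces
        have hpow : ∀ k : ℕ, (D 0).map (Matrix.toLin' ((y ^ (2 * k + 1) : GL (Fin (m + m)) F) : Matrix (Fin (m + m)) (Fin (m + m)) F)) = D 1 := by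
          intro k
          induction k with
          | zero => simpa using hs0
          | succ k ih =>
            rw [show 2 * (k + 1) + 1 = 2 + (2 * k + 1) by ring, pow_add, Units.val_mul, Matrix.toLin'_mul,
              Submodule.map_comp, ih, pow_two, Units.val_mul, Matrix.toLin'_mul, Submodule.map_comp, hs1, hs0]
        obtain ⟨k, hk⟩ := hprime.odd_of_ne_two hr2
        have := hpow k
        rw [← hk, hyr, one_smul, Matrix.toLin'_one, Submodule.map_id] at this
        have hdis := hD.indep.pairwiseDisjoint (show (0 : Fin 2) ≠ 1 by decide)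
        rw [Function.onFun, this, disjoint_self] at hdis
        have := hD.finrank_eq 1
        rw [hdis, finrank_bot] at this
        omega
    have hcase : r ≠ 2 → False := by
      intro hr2
      by_cases hrp : r ∣ q
      · obtain ⟨f, -, hfp, hpp⟩ := H51.exists_q_pow hq
        rw [ringChar.eq F p] at hfp hpp
        rw [hfp] at hrp
        obtain rfl : r = p := (Nat.prime_dvd_prime_iff_eq hprime hpp).1 (hprime.dvd_of_dvd_pow hrp)
        obtain ⟨x, hxU, hxd, hxr, hrk⟩ := H47.gu_transvection (n := m + m) hq (p := r) (by omega)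
        exact key x 1 1 hxU hxd (one_pow _) (by rw [one_smul, ← Units.val_pow_eq_pow_val, hxr, Units.val_one])
          (by rw [one_smul, hrk]; exact odd_one) (Or.inr ⟨hr2, rfl⟩)
      · obtain ⟨j, hj, hjn, hdvd⟩ := H47.pair_index_cases hq rfl hm hM hG h0 h1 hrp hΩ
        obtain ⟨x, hxU, hxd, hxr, hrk⟩ := H47.gu_odd_rank hq hr2 hjn hj hdvd hn
        exact key x 1 1 hxU hxd (one_pow _) (by rw [one_smul, ← Units.val_pow_eq_pow_val, hxr, Units.val_one])
          (by rw [one_smul]; exact hrk) (Or.inr ⟨hr2, rfl⟩)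
    obtain rfl : r = 2 := by_contra hcase
    obtain ⟨f, hf0, hfp, hpp⟩ := H51.exists_q_pow hq
    rw [ringChar.eq F p] at hfp hpp
    have hodd : Odd q := by
      rw [hfp, Nat.odd_pow_iff hf0.ne']
      refine hpp.odd_of_ne_two fun h2 => ?_
      subst h2
      obtain ⟨x, hxU, hxd, hxr, hrk⟩ := H47.gu_transvection (n := m + m) hq (p := 2) (by omega)
      exact key x 1 1 hxU hxd (one_pow _) (by rw [one_smul, ← Units.val_pow_eq_pow_val, hxr, Units.val_one])
        (by rw [one_smul, hrk]; exact odd_one) (Or.inl ⟨rfl, (one_mul 1).symm, by rw [one_smul, hrk]⟩)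
    refine ⟨rfl, hodd, ?_⟩
    by_contra hv
    obtain ⟨x, l, hxU, hl, hxd, hx2, hrk⟩ := H47.gu_two_der (n := m + m) hq hodd (by omega) ⟨m, rfl⟩ (not_le.mp hv)
    exact key x l (l * l) hxU hxd hl (by rw [pow_two, hx2]) (by rw [hrk]; exact odd_one) (Or.inl ⟨rfl, rfl, hrk⟩)
  · rintro ⟨rfl, hodd, hv⟩ x hx ⟨z, hz⟩ -
    rw [pow_two, Units.val_mul] at hz
    exact H47.pair_invol_conj hq rfl hodd hv hm hM hG h0 h1 (Subgroup.mem_inf.mp hx).1
      (H47.mem_sl_iff.1 (Subgroup.mem_inf.mp hx).2) hz

end Cfsg.Agent.S5984
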