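import Cfsg.Statements.S5985
import Cfsg.Agent.H47.Plus
open Matrix

set_option autoImplicit false
open scoped MatrixGroups
open Cfsg

namespace Cfsg.Agent.S5985

/-- Elements of prime order of Ω⁺_n(q), q even, with no fixed nonsingular 1-space. Here `T = PΩ⁺_n(F)`, `n = 2d ≥ 8`, realised through `Ω⁺_n(q)`, the commutator subgroup of the isometry group of `Q = Σ xᵢyᵢ` over the field `F` with `q` elements; an element of `T` of prime order `r` is an element `x` of `Ω⁺_n(q)` with `x^r` scalar and `x` not scalar; `q` is even (so the centre is trivial). Let Ω be the set of 1-dimensional subspaces spanned by a vector `v` with `Q(v) ≠ 0`, and let `r` be a prime dividing their number. Then every element of `T` of order `r` fixes some nonsingular 1-space if and only if `r = 2` and `n ≡ 2 (mod 4)` (that is, `d` is odd). -/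
theorem result {F : Type*} [Field F] [Fintype F] {p : ℕ} [Fact p.Prime] [CharP F p] {q : ℕ} (hq : Fintype.card F = q)
    (hp : p = 2) (d : ℕ) (hd : 4 ≤ d) (r : ℕ) [Fact r.Prime]
    (hrΩ : r ∣ Nat.card {W : Submodule F (Fin d ⊕ Fin d → F) // Module.finrank F ↥W = 1 ∧ ∃ v ∈ W, Cfsg.quadFormPlus d F v ≠ 0}) :
    (∀ x : GL (Fin d ⊕ Fin d) F, x ∈ Cfsg.Geo.omegaGL (Cfsg.quadFormPlus d F) →
      (∃ z : F, ((x ^ r : GL (Fin d ⊕ Fin d) F) : Matrix (Fin d ⊕ Fin d) (Fin d ⊕ Fin d) F) = z • (1 : Matrix (Fin d ⊕ Fin d) (Fin d ⊕ Fin d) F)) →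
      (∀ z : F, (x : Matrix (Fin d ⊕ Fin d) (Fin d ⊕ Fin d) F) ≠ z • (1 : Matrix (Fin d ⊕ Fin d) (Fin d ⊕ Fin d) F)) →
      ∃ W : Submodule F (Fin d ⊕ Fin d → F), (Module.finrank F ↥W = 1 ∧ ∃ v ∈ W, Cfsg.quadFormPlus d F v ≠ 0) ∧ W.map (Matrix.toLin' (x : Matrix (Fin d ⊕ Fin d) (Fin d ⊕ Fin d) F)) ≤ W) ↔ (r = 2 ∧ Odd d) := by
  subst hp
  classical
  have hq2 : 2 ∣ Fintype.card F := by
    obtain ⟨n, -, hn⟩ := FiniteField.card F 2
    exact hn ▸ dvd_pow_self 2 n.pos.ne'
  have hq1 : 1 < Fintype.card F := Fintype.one_lt_card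
  have hcount : Nat.card {W : Submodule F (Fin d ⊕ Fin d → F) //
        Module.finrank F ↥W = 1 ∧ ∃ v ∈ W, Cfsg.quadFormPlus d F v ≠ 0}
      = (Fintype.card F ^ d - 1) * Fintype.card F ^ (d - 1) := by
    have h1 := H47.card_nonsingular_lines (Cfsg.quadFormPlus d F) (H47.quadFormPlus_smul d)
    rw [H47.card_plus_nonsingular_vectors (by omega), ← mul_assoc] at h1
    exact Nat.eq_of_mul_eq_mul_right (by omega) h1
  rw [hcount] at hrΩ
  have fixVec : ∀ x : GL (Fin d ⊕ Fin d) F, x ∈ Cfsg.Geo.omegaGL (Cfsg.quadFormPlus d F) →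
      ((∃ W : Submodule F (Fin d ⊕ Fin d → F), (Module.finrank F ↥W = 1 ∧
          ∃ v ∈ W, Cfsg.quadFormPlus d F v ≠ 0) ∧
          W.map (Matrix.toLin' (x : Matrix (Fin d ⊕ Fin d) (Fin d ⊕ Fin d) F)) ≤ W) ↔
        ∃ v, (x : Matrix (Fin d ⊕ Fin d) (Fin d ⊕ Fin d) F) *ᵥ v = v ∧
          Cfsg.quadFormPlus d F v ≠ 0) := by
    intro x hx
    have hiso := H47.mem_isometry_iff.mp (H47.mem_isometry_of_omega hx)
    constructor
    · rintro ⟨W, ⟨hW, v, hv, hQv⟩, hmap⟩
      refine ⟨v, ?_, hQv⟩
      have hspan : W = Submodule.span F {v} := by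
        symm
        refine Submodule.eq_of_le_of_finrank_eq (by simpa using hv) ?_
        rw [hW, finrank_span_singleton]
        intro h; apply hQv; rw [h]; simp [Cfsg.quadFormPlus]
      have := hmap (Submodule.mem_map_of_mem hv)
      rw [hspan, Matrix.toLin'_apply, Submodule.mem_span_singleton] at this
      obtain ⟨c, hc⟩ := this
      have h1 := hiso v
      rw [← hc, H47.quadFormPlus_smul] at h1
      have hc2 : c ^ 2 = 1 := mul_right_cancel₀ hQv (h1.trans (one_mul _).symm)
      have : c = 1 := by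
        have hsq : (c - 1) * (c - 1) = 0 := by
          have h20 : (2 : F) = 0 := CharTwo.two_eq_zero
          linear_combination hc2 + (1 - c) * h20
        exact sub_eq_zero.mp (mul_self_eq_zero.mp hsq)
      rw [← hc, this, one_smul]
    · rintro ⟨v, hv, hQv⟩
      refine ⟨Submodule.span F {v}, ⟨finrank_span_singleton ?_, v,
        Submodule.mem_span_singleton_self v, hQv⟩, ?_⟩
      · intro h; apply hQv; rw [h]; simp [Cfsg.quadFormPlus]
      · rw [Submodule.map_span, Set.image_singleton, Matrix.toLin'_apply, hv]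
  constructor
  · intro hall
    rcases (Fact.out : r.Prime).eq_two_or_odd' with rfl | hodd
    · refine ⟨rfl, Nat.not_even_iff_odd.mp fun he => ?_⟩
      obtain ⟨x, hx, hx2, hx1, hfix⟩ := H47.plus_omega_invol (F := F) hd he
      have hns : ∀ z : F, (x : Matrix (Fin d ⊕ Fin d) (Fin d ⊕ Fin d) F) ≠ z • 1 := by
        intro z hz
        have hiso := H47.mem_isometry_iff.mp (H47.mem_isometry_of_omega hx)
        have i0 : Fin d := ⟨0, by omega⟩
        let v : Fin d ⊕ Fin d → F := Sum.elim (Pi.single i0 1) (Pi.single i0 1)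
        have hv : Cfsg.quadFormPlus d F v = 1 := by simp [H47.quadFormPlus_elim, v]
        have h1 := hiso v
        rw [hz, Matrix.smul_mulVec, Matrix.one_mulVec, H47.quadFormPlus_smul, hv, mul_one] at h1
        have : z = 1 := by
          have hsq : (z - 1) * (z - 1) = 0 := by
            have h20 : (2 : F) = 0 := CharTwo.two_eq_zero
            linear_combination h1 + (1 - z) * h20
          exact sub_eq_zero.mp (mul_self_eq_zero.mp hsq)
        exact hx1 (by rw [hz, this, one_smul])
      obtain ⟨v, hv, hQv⟩ := (fixVec x hx).mp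
        (hall x hx ⟨1, by rw [hx2, one_smul, Units.val_one]⟩ hns)
      exact hQv (hfix v hv)
    · exfalso
      have hr : r ∣ Fintype.card F ^ d - 1 := by
        rcases (Fact.out : r.Prime).dvd_mul.mp hrΩ with h | h
        · exact h
        · exfalso
          obtain ⟨n, -, hn⟩ := FiniteField.card F 2
          have h2 := (Fact.out : r.Prime).dvd_of_dvd_pow h
          rw [hn] at h2
          have := (Nat.prime_dvd_prime_iff_eq (Fact.out : r.Prime) Nat.prime_two).mp
            ((Fact.out : r.Prime).dvd_of_dvd_pow h2)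
          subst this
          exact absurd hodd (by decide)
      obtain ⟨x, hx, hxr, hfix⟩ := H47.plus_omega_fpf (F := F) (by omega : 0 < d) hodd hr
      haveI : Nonempty (Fin d ⊕ Fin d) := ⟨Sum.inl ⟨0, by omega⟩⟩
      have hns : ∀ z : F, (x : Matrix (Fin d ⊕ Fin d) (Fin d ⊕ Fin d) F) ≠ z • 1 := by
        intro z hz
        have hiso := H47.mem_isometry_iff.mp (H47.mem_isometry_of_omega hx)
        have i0 : Fin d := ⟨0, by omega⟩
        let v : Fin d ⊕ Fin d → F := Sum.elim (Pi.single i0 1) (Pi.single i0 1)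
        have hv : Cfsg.quadFormPlus d F v = 1 := by simp [H47.quadFormPlus_elim, v]
        have h1 := hiso v
        rw [hz, Matrix.smul_mulVec, Matrix.one_mulVec, H47.quadFormPlus_smul, hv, mul_one] at h1
        apply H47.not_scalar_of_fpf hfix hz
        have hsq : (z - 1) * (z - 1) = 0 := by
          have h20 : (2 : F) = 0 := CharTwo.two_eq_zero
          linear_combination h1 + (1 - z) * h20
        exact sub_eq_zero.mp (mul_self_eq_zero.mp hsq)
      obtain ⟨v, hv, hQv⟩ := (fixVec x hx).mp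
        (hall x hx ⟨1, by rw [hxr, one_smul, Units.val_one]⟩ hns)
      apply hQv
      rw [hfix v hv]; simp [Cfsg.quadFormPlus]
  · rintro ⟨rfl, hdo⟩ x hx ⟨z, hz⟩ -
    rw [fixVec x hx]
    have hiso := H47.mem_isometry_iff.mp (H47.mem_isometry_of_omega hx)
    apply H47.plus_invol_fix hdo (H47.mem_isometry_of_omega hx)
    rw [Units.val_pow_eq_pow_val, pow_two] at hz
    have i0 : Fin d := ⟨0, by omega⟩
    let v : Fin d ⊕ Fin d → F := Sum.elim (Pi.single i0 1) (Pi.single i0 1)
    have hv : Cfsg.quadFormPlus d F v = 1 := by simp [H47.quadFormPlus_elim, v]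
    have h1 := hiso ((x : Matrix (Fin d ⊕ Fin d) (Fin d ⊕ Fin d) F) *ᵥ v)
    rw [Matrix.mulVec_mulVec, hz, hiso v, Matrix.smul_mulVec, Matrix.one_mulVec,
      H47.quadFormPlus_smul, hv, mul_one] at h1
    have : z = 1 := by
      have hsq : (z - 1) * (z - 1) = 0 := by
        have h20 : (2 : F) = 0 := CharTwo.two_eq_zero
        linear_combination h1 + (1 - z) * h20
      exact sub_eq_zero.mp (mul_self_eq_zero.mp hsq)
    rw [hz, this, one_smul]

end Cfsg.Agent.S5985
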