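import Cfsg.Statements.S5986
import Cfsg.Agent.H47.Minus
open Matrix

set_option autoImplicit false
open scoped MatrixGroups
open Cfsg

namespace Cfsg.Agent.S5986

/-- Elements of prime order of Ω⁻_n(q), q even, with no fixed nonsingular 1-space. Here `T = PΩ⁻_n(F)`, `n = 2d ≥ 8`, realised through `Ω⁻_n(q)`, the commutator subgroup of the isometry group of `Q = Σ_{i<d−1} xᵢyᵢ + z₁² + a z₁z₂ + b z₂²` with `z₁² + a z₁z₂ + b z₂²` anisotropic, over the field `F` with `q` elements; an element of `T` of prime order `r` is an element `x` of `Ω⁻_n(q)` with `x^r` scalar and `x` not scalar; `q` is even (so the centre is trivial). Let Ω be the set of 1-dimensional subspaces spanned by a vector `v` with `Q(v) ≠ 0`, and let `r` be a prime dividing their number. Then every element of `T` of order `r` fixes some nonsingular 1-space if and only if `r = 2`. -/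
theorem result {F : Type*} [Field F] [Fintype F] {p : ℕ} [Fact p.Prime] [CharP F p] {q : ℕ} (hq : Fintype.card F = q)
    (hp : p = 2) (d : ℕ) (hd : 4 ≤ d) (a b : F) (hab : ∀ x y : F, x ^ 2 + a * x * y + b * y ^ 2 = 0 → x = 0 ∧ y = 0) (r : ℕ) [Fact r.Prime]
    (hrΩ : r ∣ Nat.card {W : Submodule F ((Fin (d - 1) ⊕ Fin (d - 1)) ⊕ Fin 2 → F) // Module.finrank F ↥W = 1 ∧ ∃ v ∈ W, Cfsg.quadFormMinus (d - 1) F a b v ≠ 0}) :
    (∀ x : GL ((Fin (d - 1) ⊕ Fin (d - 1)) ⊕ Fin 2) F, x ∈ Cfsg.Geo.omegaGL (Cfsg.quadFormMinus (d - 1) F a b) →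
      (∃ z : F, ((x ^ r : GL ((Fin (d - 1) ⊕ Fin (d - 1)) ⊕ Fin 2) F) : Matrix ((Fin (d - 1) ⊕ Fin (d - 1)) ⊕ Fin 2) ((Fin (d - 1) ⊕ Fin (d - 1)) ⊕ Fin 2) F) = z • (1 : Matrix ((Fin (d - 1) ⊕ Fin (d - 1)) ⊕ Fin 2) ((Fin (d - 1) ⊕ Fin (d - 1)) ⊕ Fin 2) F)) →
      (∀ z : F, (x : Matrix ((Fin (d - 1) ⊕ Fin (d - 1)) ⊕ Fin 2) ((Fin (d - 1) ⊕ Fin (d - 1)) ⊕ Fin 2) F) ≠ z • (1 : Matrix ((Fin (d - 1) ⊕ Fin (d - 1)) ⊕ Fin 2) ((Fin (d - 1) ⊕ Fin (d - 1)) ⊕ Fin 2) F)) →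
      ∃ W : Submodule F ((Fin (d - 1) ⊕ Fin (d - 1)) ⊕ Fin 2 → F), (Module.finrank F ↥W = 1 ∧ ∃ v ∈ W, Cfsg.quadFormMinus (d - 1) F a b v ≠ 0) ∧ W.map (Matrix.toLin' (x : Matrix ((Fin (d - 1) ⊕ Fin (d - 1)) ⊕ Fin 2) ((Fin (d - 1) ⊕ Fin (d - 1)) ⊕ Fin 2) F)) ≤ W) ↔ r = 2 := by
  subst hp
  classical
  set Q := Cfsg.quadFormMinus (d - 1) F a b with hQdef
  have hQs : ∀ (c : F) v, Q (c • v) = c ^ 2 * Q v := fun c v => by
    simp only [hQdef, ← H44.minusForm_apply, QuadraticMap.map_smul, smul_eq_mul]; ring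
  let v₀ : (Fin (d - 1) ⊕ Fin (d - 1)) ⊕ Fin 2 → F := Sum.elim 0 ![1, 0]
  have hv₀ : Q v₀ ≠ 0 := by simp [hQdef, v₀, Cfsg.quadFormMinus]
  have hcount : Nat.card {W : Submodule F ((Fin (d - 1) ⊕ Fin (d - 1)) ⊕ Fin 2 → F) //
        Module.finrank F ↥W = 1 ∧ ∃ v ∈ W, Q v ≠ 0}
      = Fintype.card F ^ (d - 1) * (Fintype.card F ^ d + 1) := by
    have h1 := H47.card_nonsingular_lines Q hQs
    rw [H47.card_minus_nonsingular_vectors (by omega) hab, mul_comm (Fintype.card F - 1)] at h1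
    exact Nat.eq_of_mul_eq_mul_right (Nat.sub_pos_of_lt Fintype.one_lt_card) h1
  rw [hcount] at hrΩ
  constructor
  · intro hall
    rcases (Fact.out : r.Prime).eq_two_or_odd' with h | hodd
    · exact h
    · exfalso
      have hr : r ∣ Fintype.card F ^ d + 1 := by
        rcases (Fact.out : r.Prime).dvd_mul.mp hrΩ with h | h
        · exfalso
          obtain ⟨n, -, hn⟩ := FiniteField.card F 2
          have h2 := (Fact.out : r.Prime).dvd_of_dvd_pow h
          rw [hn] at h2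
          have := (Nat.prime_dvd_prime_iff_eq (Fact.out : r.Prime) Nat.prime_two).mp
            ((Fact.out : r.Prime).dvd_of_dvd_pow h2)
          subst this
          exact absurd hodd (by decide)
        · exact h
      obtain ⟨x, hx, hxr, hfix⟩ := H47.exists_minus_torus (F := F) (by omega : 0 < d) hodd hr hab
      have hiso := H47.mem_isometry_of_omega hx
      obtain ⟨v, hv, hQv⟩ := (H47.fix_line_iff hQs hiso).mp
        (hall x hx ⟨1, by rw [hxr, one_smul, Units.val_one]⟩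
          (fun z hz => H47.not_scalar_of_fpf hfix hz (H47.scalar_isometry_eq_one hQs hv₀ hiso hz)))
      exact hQv (by rw [hfix v hv]; simp [hQdef, Cfsg.quadFormMinus])
  · rintro rfl x hx ⟨z, hz⟩ -
    have hiso := H47.mem_isometry_of_omega hx
    rw [H47.fix_line_iff hQs hiso]
    apply H47.minus_invol_fix (by omega : 1 ≤ d) hab
    have h1 := H47.scalar_isometry_eq_one hQs hv₀ (Subgroup.pow_mem _ hiso 2) hz
    rw [← Units.val_mul, ← pow_two, hz, h1, one_smul]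

end Cfsg.Agent.S5986
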