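import Cfsg.Statements.S5988
import Cfsg.Agent.H47.OrthEven
import Cfsg.Agent.H47.OrthInvol
import Cfsg.Agent.H47.OrthEvenTwo
import Cfsg.Agent.H47.OrthEvenData
import Cfsg.Agent.H47.OrthUniTwoOdd

set_option autoImplicit false
open scoped MatrixGroups
open Cfsg

namespace Cfsg.Agent.S5988

/-- Elements of prime order of PΩ⁺_n(q) with no fixed elliptic `m`-space. Here `T = PΩ⁺_n(F)`, `n = 2d ≥ 8`, realised through `Ω⁺_n(q)`, the commutator subgroup of the isometry group of `Q = Σ xᵢyᵢ` over the field `F` with `q` elements; an element of `T` of prime order `r` is an element `x` of `Ω⁺_n(q)` with `x^r` scalar and `x` not scalar; a nondegenerate `m`-space (even `m`) is a subspace on which the polar form of `Q` is nondegenerate; it is hyperbolic if it contains an `m/2`-dimensional subspace on which `Q` vanishes, elliptic otherwise. Let `m` be even with `2 ≤ m < n/2` and let `r` be a prime dividing the number of elliptic `m`-spaces; for `r ≠ p` let `i`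 be the multiplicative order of `q` modulo `r`, `c = i` for `i` even and `c = 2i` for `i` odd, and write `k = n mod c`, `ℓ = m mod i`, `ℓ' = m mod c`, `n' = ⌊n/i⌋`, `m' = ⌊m/i⌋`, `t = (r−1)/i`. Then every element of `T` of order `r` fixes some elliptic `m`-space if and only if one of: (i) `r = 2 ≠ p` and either `n ≡ 0 (mod 4)`, `q ≡ 3 (mod 4)` and `m ≡ 2 (mod 4)`, or `n ≡ 2 (mod 4)` and `q ≢ 1 (mod 8)`; (ii) `r ≠ p` odd, `i` odd, `c ≤ m` and `k > ℓ' > 0`; (iii) `r ≠ p` odd, `i` even, and either `k = 0` and (`n/i` odd, or `ℓ' = 0` and `m/i` odd), or `i ≤ m` and (`k > ℓ' > 0`, or `k = ℓ' > 0` and `(n + m − 2k)/i` odd, or `k > ℓ' = 0` and `m/i` odd). (For `r = p` there is always an element of order `p` fixing no elliptic `m`-space.) -/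
theorem result {F : Type*} [Field F] [Fintype F] {p : ℕ} [Fact p.Prime] [CharP F p] {q : ℕ} (hq : Fintype.card F = q)
    (d m : ℕ) (hd : 4 ≤ d) (hm : 2 ≤ m) (hme : Even m) (hmd : m < d)
    (r : ℕ) [Fact r.Prime]
    (hrΩ : r ∣ Nat.card {W : Submodule F (Fin d ⊕ Fin d → F) // Module.finrank F ↥W = m ∧ Cfsg.Geo.IsNondegenerateOn (QuadraticMap.polar (Cfsg.quadFormPlus d F)) W ∧ ¬ Cfsg.Geo.IsPlusTypeOn (Cfsg.quadFormPlus d F) W})
    (i c : ℕ) (hi : i = orderOf (q : ZMod r)) (hc : c = if Even i then i else 2 * i) :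
    (∀ x : GL (Fin d ⊕ Fin d) F, x ∈ Cfsg.Geo.omegaGL (Cfsg.quadFormPlus d F) →
      (∃ z : F, ((x ^ r : GL (Fin d ⊕ Fin d) F) : Matrix (Fin d ⊕ Fin d) (Fin d ⊕ Fin d) F) = z • (1 : Matrix (Fin d ⊕ Fin d) (Fin d ⊕ Fin d) F)) →
      (∀ z : F, (x : Matrix (Fin d ⊕ Fin d) (Fin d ⊕ Fin d) F) ≠ z • (1 : Matrix (Fin d ⊕ Fin d) (Fin d ⊕ Fin d) F)) →
      ∃ W : Submodule F (Fin d ⊕ Fin d → F), (Module.finrank F ↥W = m ∧ Cfsg.Geo.IsNondegenerateOn (QuadraticMap.polar (Cfsg.quadFormPlus d F)) W ∧ ¬ Cfsg.Geo.IsPlusTypeOn (Cfsg.quadFormPlus d F) W) ∧ W.map (Matrix.toLin' (x : Matrix (Fin d ⊕ Fin d) (Fin d ⊕ Fin d) F)) ≤ W) ↔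
    ((r = 2 ∧ p ≠ 2 ∧ ((Even d ∧ q % 4 = 3 ∧ m % 4 = 2) ∨ (Odd d ∧ q % 8 ≠ 1))) ∨
     (r ≠ p ∧ 2 < r ∧ Odd i ∧ c ≤ m ∧ 0 < m % c ∧ m % c < (2 * d) % c) ∨
     (r ≠ p ∧ 2 < r ∧ Even i ∧
       (((2 * d) % c = 0 ∧ (Odd ((2 * d) / i) ∨ (m % c = 0 ∧ Odd (m / i)))) ∨
        (i ≤ m ∧ ((0 < m % c ∧ m % c < (2 * d) % c) ∨
                  (0 < m % c ∧ m % c = (2 * d) % c ∧ Odd ((2 * d + m - 2 * ((2 * d) % c)) / i)) ∨
                  (m % c = 0 ∧ 0 < (2 * d) % c ∧ Odd (m / i))))))) := by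
  classical
  subst hq
  have hrpr : r.Prime := Fact.out
  have hQ := H43.qPlus_nondeg (F := F) d
  have hN : Module.finrank F (Fin d ⊕ Fin d → F) = 2 * d := H43.finrank_qPlus d
  have hcard : 5 ≤ Fintype.card (Fin d ⊕ Fin d) := by simp; omega
  have hTV : H47.PlusOn (H43.qPlus d F) (⊤ : Submodule F (Fin d ⊕ Fin d → F)) ↔ True :=
    iff_true_intro (H47.plusOn_qPlus d F)
  simp only [← H43.coe_qPlus, H47.clsEven_minus_iff] at hrΩ ⊢
  by_cases hr2 : r = 2
  · subst hr2
    by_cases hp2 : p = 2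
    · subst hp2
      have h20 : (2 : F) = 0 := by exact_mod_cast CharP.cast_eq_zero F 2
      exact iff_of_false (H47.crit_char2_other hQ h20 hN hd hme (H47.plusOn_qPlus d F))
        (by rintro (⟨-, h, -⟩ | ⟨-, h, -⟩ | ⟨-, h, -⟩) <;> [exact h rfl; omega; omega])
    · have h2 : (2 : F) ≠ 0 := fun h => hp2
        ((Nat.prime_dvd_prime_iff_eq Fact.out Nat.prime_two).mp ((CharP.cast_eq_zero_iff F p 2).mp (by exact_mod_cast h)))
      have hq2 : Fintype.card F % 2 = 1 := FiniteField.odd_card_of_char_ne_two (by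
        rw [ringChar.eq F p]; exact hp2)
      rw [H47.crit_two_even hQ h2 hN (by omega) hme (by omega) (by omega) False, iff_true_intro (H47.plusOn_qPlus d F),
        (H47.isSquare_data h2).1, (H47.isSquare_data h2).2]
      simp only [true_iff, false_iff, Nat.lt_irrefl, false_and, and_false, or_false, true_and, ne_eq, hp2, not_false_eq_true,
        Nat.even_iff, Nat.odd_iff]
      obtain ⟨j, hj⟩ := hme
      constructor <;> intro h <;> omega
  by_cases hrp : r = p
  · subst hrp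
    refine iff_of_false (fun hall => ?_) (by rintro (⟨h, -⟩ | ⟨h, -⟩ | ⟨h, -⟩) <;> [exact hr2 h; exact h rfl; exact h rfl])
    have h3 : 3 ≤ r := by have := hrpr.two_le; omega
    have h2 : (2 : F) ≠ 0 := fun h => hr2
      ((Nat.prime_dvd_prime_iff_eq Fact.out Nat.prime_two).mp ((CharP.cast_eq_zero_iff F r 2).mp (by exact_mod_cast h)))
    obtain ⟨μ, hμ0, hμev, hμsum, hμp, hμ1, hkey⟩ : ∃ μ : Multiset ℕ, 0 ∉ μ ∧ (∀ e : ℕ, Even e → Even (μ.count e)) ∧
        μ.sum = 2 * d ∧ (∀ e ∈ μ, e ≤ r) ∧ (∃ e ∈ μ, 1 < e) ∧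
        ∀ ν ≤ μ, (∀ e : ℕ, Even e → Even (ν.count e)) → (Odd d → ν.sum % 4 = 0) → ∀ e ∈ ν, Even e := by
      rcases Nat.even_or_odd d with hde | hdo
      · refine ⟨Multiset.replicate d 2, by simp [Multiset.mem_replicate], fun e _ => by
          rw [Multiset.count_replicate]; split_ifs
          exacts [hde, ⟨0, rfl⟩], by simp [mul_comm], fun e he => by rw [Multiset.mem_replicate] at he; omega,
          ⟨2, by simp [Multiset.mem_replicate]; omega, by norm_num⟩, fun ν hν _ _ e he => ?_⟩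
        rw [Multiset.eq_of_mem_replicate (Multiset.mem_of_le hν he)]; exact even_two
      · obtain ⟨hf1, hf2, hf3, -, hf5, hf6⟩ := H47.twoOdd_facts (o := 1) (Or.inl rfl) (d := d) (by omega) hdo
        refine ⟨_, hf1, hf2, hf3, fun e he => (hf6 e he).trans h3, hf5, fun ν hν hνev hν4 e he => ?_⟩
        have hs := H47.sum_eq_of_support (ν := ν) (show (2 : ℕ) ≠ 1 by omega) (show (2 : ℕ) ≠ 0 by omega) one_ne_zero
          fun a ha => by
            have h := Multiset.mem_of_le hν ha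
            simp [H47.twoOdd, Multiset.mem_replicate] at h
            omega
        have hco : ν.count 1 ≤ 2 := (Multiset.count_le_of_le 1 hν).trans (by
          simp [H47.twoOdd, Multiset.count_replicate])
        obtain ⟨k, hk⟩ := hνev 2 even_two
        have hme' := Multiset.mem_of_le hν he
        simp [H47.twoOdd, Multiset.mem_replicate] at hme'
        obtain rfl | rfl : e = 2 ∨ e = 1 := by omega
        · exact even_two
        · exfalso
          have := Multiset.count_pos.mpr he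
          have := hν4 hdo
          omega
    obtain ⟨x, hx, hxr⟩ := H47.exists_unipotent_plus (F := F) h2 (d := d) (by omega) hμ0 hμev hμsum
    have hxG : x ∈ Cfsg.isometryGroup F ⇑(H43.qPlus d F) := by rw [H43.coe_qPlus]; exact hx
    have hxp : x ^ r = 1 := H47.pow_char_eq_one hμp hxr
    have hxΩ := H47.odd_pow_mem_omega h2 (H43.qPlus d F) hQ hxG (hrpr.odd_of_ne_two hr2) hxp
    obtain ⟨W, ⟨hWd, hWn, hWT⟩, hWx⟩ := hall x hxΩ ⟨1, by rw [hxp, Units.val_one, one_smul]⟩
      (H47.not_scalar_of_parts hxr hμ1)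
    have hplus : ∀ X : Submodule F (Fin d ⊕ Fin d → F), H47.NdOn (H43.qPlus d F) X →
        X.map (Matrix.toLin' (x : Matrix (Fin d ⊕ Fin d) (Fin d ⊕ Fin d) F)) ≤ X →
        (Odd d → Module.finrank F X % 4 = 0) → H47.PlusOn (H43.qPlus d F) X := by
      intro X hXn hXx hX4
      obtain ⟨ν, hν1, hν2, hν3, hν4⟩ := H47.partition_of_fixed h2 (H43.qPlus d F) hQ hxG hμ0 hxr X rfl
        (H47.ndOn_iff_geo.mpr hXn) hXx
      exact hν4 (hkey ν hν1 hν3 (fun ho => hν2.symm ▸ hX4 ho))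
    by_cases hW4 : Odd d → m % 4 = 0
    · exact hWT.mp (hplus W hWn hWx fun ho => hWd.symm ▸ hW4 ho)
    · push Not at hW4
      obtain ⟨hdo, hm4⟩ := hW4
      rw [H45.omegaGL_eq_map] at hxΩ
      obtain ⟨g, -, rfl⟩ := hxΩ
      have hgr : g ^ r = 1 := H45.toGL_injective _ (by rw [map_pow, map_one, hxp])
      have hWo := H43.finrank_orth_add hQ W
      have ho := hplus _ (hWn.orth hQ)
        ((H47.map_toGL_le_iff g _).mpr (H47.inv_orth hgr (by omega) ((H47.map_toGL_le_iff g W).mp hWx))) fun _ => by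
          obtain ⟨k, hk⟩ := hdo
          obtain ⟨j, hj⟩ := hme
          omega
      have hsum := H47.plusOn_sup hWn (hWn.orth hQ) (H47.perpTo_orth W) (by rw [hWd]; exact hme)
        (by obtain ⟨j, hj⟩ := hme; exact ⟨d - j, by omega⟩)
      rw [H47.orth_sup_eq_top hQ hWn, iff_true_intro ho] at hsum
      exact hWT.mp ((iff_true _).mp ((hsum.trans Iff.rfl).mp (H47.plusOn_qPlus d F)) |> fun h => by simpa using h)
  rw [H47.omega_reduce hQ hcard hr2]
  have h2r : 2 < r := by have := hrpr.two_le; omega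
  refine H47.crit_even_dim hQ hr2 (H47.not_dvd_card hrp) hi hc hN (even_two_mul d) hme (by omega) (by omega) hTV hrΩ _ ?_ ?_
  · rcases Nat.even_or_odd i with hie | hio
    · rw [if_pos hie] at hc
      subst hc
      by_cases hk : (2 * d) % c = m % c
      · rw [H47.div_sum_sub (Nat.pos_of_ne_zero fun e => by subst e; simp at hk; omega) hk.symm]
        simp [hie, hr2, hrp, h2r, Nat.not_odd_iff_even.mpr hie, Nat.even_iff, Nat.odd_iff, hk]
        omega
      · simp [hie, hr2, hrp, h2r, Nat.not_odd_iff_even.mpr hie, Nat.even_iff, Nat.odd_iff, hk]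
        omega
    · simp [hio, hr2, hrp, h2r, Nat.not_even_iff_odd.mpr hio]
      omega
  · intro hcm
    rcases Nat.even_or_odd i with hie | hio
    · rw [if_pos hie] at hc
      subst hc
      by_cases hk : (2 * d) % c = m % c
      · rw [H47.div_sum_sub (Nat.pos_of_ne_zero fun e => by subst e; simp at hk; omega) hk.symm]
        simp [hie, hr2, hrp, h2r, hcm, Nat.not_odd_iff_even.mpr hie, Nat.even_iff, Nat.odd_iff, hk]
        omega
      · simp [hie, hr2, hrp, h2r, hcm, Nat.not_odd_iff_even.mpr hie, Nat.even_iff, Nat.odd_iff, hk]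
        omega
    · simp [hio, hr2, hrp, h2r, hcm, Nat.not_even_iff_odd.mpr hio]
      omega

end Cfsg.Agent.S5988
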