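import Cfsg.Statements.S5989
import Cfsg.Agent.H47.OrthEven
import Cfsg.Agent.H47.OrthInvol
import Cfsg.Agent.H47.OrthUniTwoOdd
import Cfsg.Agent.H47.OrthUniClass

set_option autoImplicit false
open scoped MatrixGroups
open Cfsg

namespace Cfsg.Agent.S5989

/-- Elements of prime order of PΩ⁺_n(q), q odd, with no fixed nondegenerate `m`-space of odd dimension. Here `T = PΩ⁺_n(F)`, `n = 2d ≥ 8`, realised through `Ω⁺_n(q)`, the commutator subgroup of the isometry group of `Q = Σ xᵢyᵢ` over the field `F` with `q` elements; an element of `T` of prime order `r` is an element `x` of `Ω⁺_n(q)` with `x^r` scalar and `x` not scalar; `q` and `m` are odd, `1 ≤ m < n/2`. The nondegenerate `m`-spaces (subspaces on which the polar form is nondegenerate) fall into two isometry classes, each an orbit of `T`, and the two actions are equivalent; fix one such space `W₀` and let Ω be the set of nondegenerate `m`-spaces isometric to `W₀` (some linear isomorphism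 preserves `Q`). Let `r` be a prime dividing the size of Ω; for `r ≠ p` let `i` be the multiplicative order of `q` modulo `r`, `c = i` for `i` even and `c = 2i` for `i` odd, and write `k = n mod c`, `ℓ = m mod i`, `ℓ' = m mod c`, `n' = ⌊n/i⌋`, `m' = ⌊m/i⌋`, `t = (r−1)/i`. Then every element of `T` of order `r` fixes a member of Ω if and only if one of: (i) `r = 2`, `n ≡ 2 (mod 4)` and `q ≢ 1 (mod 8)`; (ii) `r ≠ p` odd, `i` odd, `c ≤ m` and `k > ℓ' > 0`; (iii) `r ≠ p` odd, `i` even, and either `k = 0` and `n/i` odd, or `i ≤ m` and `k > ℓ' > 0`. (For `r = p` there is always an element of order `p` fixing no member of Ω.) -/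
theorem result {F : Type*} [Field F] [Fintype F] {p : ℕ} [Fact p.Prime] [CharP F p] {q : ℕ} (hq : Fintype.card F = q)
    (hodd : Odd q) (d m : ℕ) (hd : 4 ≤ d) (hm : Odd m) (hmd : m < d)
    (W₀ : Submodule F (Fin d ⊕ Fin d → F)) (hW₀ : Module.finrank F ↥W₀ = m ∧ Cfsg.Geo.IsNondegenerateOn (QuadraticMap.polar (Cfsg.quadFormPlus d F)) W₀)
    (r : ℕ) [Fact r.Prime]
    (hrΩ : r ∣ Nat.card {W : Submodule F (Fin d ⊕ Fin d → F) // Module.finrank F ↥W = m ∧ Cfsg.Geo.IsNondegenerateOn (QuadraticMap.polar (Cfsg.quadFormPlus d F)) W ∧ Cfsg.Geo.AreIsometricFor (Cfsg.quadFormPlus d F) W W₀})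
    (i c : ℕ) (hi : i = orderOf (q : ZMod r)) (hc : c = if Even i then i else 2 * i) :
    (∀ x : GL (Fin d ⊕ Fin d) F, x ∈ Cfsg.Geo.omegaGL (Cfsg.quadFormPlus d F) →
      (∃ z : F, ((x ^ r : GL (Fin d ⊕ Fin d) F) : Matrix (Fin d ⊕ Fin d) (Fin d ⊕ Fin d) F) = z • (1 : Matrix (Fin d ⊕ Fin d) (Fin d ⊕ Fin d) F)) →
      (∀ z : F, (x : Matrix (Fin d ⊕ Fin d) (Fin d ⊕ Fin d) F) ≠ z • (1 : Matrix (Fin d ⊕ Fin d) (Fin d ⊕ Fin d) F)) →
      ∃ W : Submodule F (Fin d ⊕ Fin d → F), (Module.finrank F ↥W = m ∧ Cfsg.Geo.IsNondegenerateOn (QuadraticMap.polar (Cfsg.quadFormPlus d F)) W ∧ Cfsg.Geo.AreIsometricFor (Cfsg.quadFormPlus d F) W W₀) ∧ W.map (Matrix.toLin' (x : Matrix (Fin d ⊕ Fin d) (Fin d ⊕ Fin d) F)) ≤ W) ↔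
    ((r = 2 ∧ Odd d ∧ q % 8 ≠ 1) ∨
     (r ≠ p ∧ 2 < r ∧ Odd i ∧ c ≤ m ∧ 0 < m % c ∧ m % c < (2 * d) % c) ∨
     (r ≠ p ∧ 2 < r ∧ Even i ∧ (((2 * d) % c = 0 ∧ Odd ((2 * d) / i)) ∨ (i ≤ m ∧ 0 < m % c ∧ m % c < (2 * d) % c)))) := by
  classical
  subst hq
  have hrpr : r.Prime := Fact.out
  have h2 : (2 : F) ≠ 0 := H47.two_ne_of_odd hodd
  have hQ := H43.qPlus_nondeg (F := F) d
  have hN : Module.finrank F (Fin d ⊕ Fin d → F) = 2 * d := H43.finrank_qPlus d
  have hcard : 5 ≤ Fintype.card (Fin d ⊕ Fin d) := by simp; omega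
  simp only [← H43.coe_qPlus, H47.clsIso_iff] at hrΩ ⊢
  rw [← H43.coe_qPlus, H47.ndOn_iff_geo] at hW₀
  obtain ⟨hW₀m, hW₀n⟩ := hW₀
  have hp2 : p ≠ 2 := by rintro rfl; exact h2 (by exact_mod_cast CharP.cast_eq_zero F 2)
  by_cases hr2 : r = 2
  · subst hr2
    rw [H47.crit_two_odd hQ h2 hN (by omega) hm hmd hW₀m hW₀n, iff_true_intro (H47.plusOn_qPlus d F),
      (H47.isSquare_data h2).1, (H47.isSquare_data h2).2]
    simp only [true_iff, Nat.lt_irrefl, false_and, and_false, or_false, true_and, Nat.even_iff, Nat.odd_iff]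
    constructor <;> intro h <;> omega
  by_cases hrp : r = p
  · subst hrp
    refine iff_of_false (fun hall => ?_) (by rintro (⟨h, -⟩ | ⟨h, -⟩ | ⟨h, -⟩) <;> [exact hr2 h; exact h rfl; exact h rfl])
    have h3 : 3 ≤ r := by have := hrpr.two_le; omega
    have hdn : ∃ x : GL (Fin d ⊕ Fin d) F, x ∈ Cfsg.isometryGroup F ⇑(H43.qPlus d F) ∧ x ^ r = 1 ∧
        (∀ z : F, (x : Matrix (Fin d ⊕ Fin d) (Fin d ⊕ Fin d) F) ≠ z • (1 : Matrix (Fin d ⊕ Fin d) (Fin d ⊕ Fin d) F)) ∧
        ∀ W : Submodule F (Fin d ⊕ Fin d → F), Module.finrank F W = m →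
          Cfsg.Geo.IsNondegenerateOn (QuadraticMap.polar ⇑(H43.qPlus d F)) W →
          W.map (Matrix.toLin' (x : Matrix (Fin d ⊕ Fin d) (Fin d ⊕ Fin d) F)) ≤ W → False := by
      rcases Nat.even_or_odd d with hde | hdo
      · obtain ⟨x, hx, hxr⟩ := H47.exists_unipotent_plus (F := F) h2 (d := d) (by omega) (μ := Multiset.replicate d 2)
          (by simp [Multiset.mem_replicate]) (fun e _ => by
            rw [Multiset.count_replicate]; split_ifs
            exacts [hde, ⟨0, rfl⟩]) (by simp [mul_comm])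
        refine ⟨x, by rw [H43.coe_qPlus]; exact hx, H47.pow_char_eq_one (fun e he => by
          rw [Multiset.mem_replicate] at he; omega) hxr,
          H47.not_scalar_of_parts hxr ⟨2, by simp [Multiset.mem_replicate]; omega, by norm_num⟩, fun W hWm hWn hWx => ?_⟩
        obtain ⟨ν, hν1, hν2, -, -⟩ := H47.partition_of_fixed h2 (H43.qPlus d F) hQ (by rw [H43.coe_qPlus]; exact hx)
          (by simp [Multiset.mem_replicate]) hxr W hWm hWn hWx
        have hrep : ν = Multiset.replicate ν.card 2 := Multiset.eq_replicate_card.2 fun e he =>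
          Multiset.eq_of_mem_replicate (Multiset.mem_of_le hν1 he)
        rw [hrep, Multiset.sum_replicate, smul_eq_mul] at hν2
        obtain ⟨k, hk⟩ := hm
        omega
      · obtain ⟨o, ho, hmo⟩ : ∃ o, (o = 1 ∨ o = 3) ∧ m % 4 ≠ o := by
          rcases eq_or_ne (m % 4) 1 with h | h
          · exact ⟨3, Or.inr rfl, by omega⟩
          · exact ⟨1, Or.inl rfl, h⟩
        obtain ⟨hf1, hf2, hf3, hf4, hf5, hf6⟩ := H47.twoOdd_facts ho (d := d) (by omega) hdo
        obtain ⟨x, hx, hxr⟩ := (H47.exists_unipotent_both (F := F) h2 (by omega) hf2 hf3 hf4).1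
        exact ⟨x, by rw [H43.coe_qPlus]; exact hx, H47.pow_char_eq_one (fun e he => (hf6 e he).trans h3) hxr,
          H47.not_scalar_of_parts hxr hf5,
          fun W => H47.twoOdd_no_fixed h2 hQ ho (by omega) hdo hm hmo (by rw [H43.coe_qPlus]; exact hx) hxr W⟩
    obtain ⟨x, hxG, hxp, hxs, hno⟩ := hdn
    obtain ⟨W, hW, hWx⟩ := hall x (H47.odd_pow_mem_omega h2 (H43.qPlus d F) hQ hxG (hrpr.odd_of_ne_two hr2) hxp)
      ⟨1, by rw [hxp, Units.val_one, one_smul]⟩ hxs
    exact hno W hW.1 (H47.ndOn_iff_geo.mpr hW.2.1) hWx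
  rw [H47.omega_reduce hQ hcard hr2]
  have h2r : 2 < r := by have := hrpr.two_le; omega
  refine H47.crit_odd_cls hQ hr2 (H47.not_dvd_card hrp) hi hc hN (even_two_mul d) hm (by omega)
    (iff_true_intro (H47.plusOn_qPlus d F)) hW₀m hW₀n hrΩ _ ?_ ?_
  · rintro (⟨h, -⟩ | ⟨-, -, hio, hcm, h1, h2'⟩ | ⟨-, -, hie, h⟩)
    · exact absurd h hr2
    · exact ⟨fun _ => h2', fun h0 => by omega⟩
    · rw [if_pos hie] at hc
      subst hc
      rcases h with ⟨h0, hodd'⟩ | ⟨-, -, h2'⟩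
      · refine ⟨fun h => by omega, fun _ => ?_⟩
        simp [Nat.not_odd_iff_even.mpr hie, Nat.not_even_iff_odd.mpr hodd']
      · exact ⟨fun _ => h2', fun h0 => by omega⟩
  · intro hcm ⟨a, b⟩
    have hce : c % 2 = 0 := by
      rw [hc]; split_ifs with he
      · exact Nat.even_iff.mp he
      · omega
    have hl : 0 < m % c := by
      have := Nat.mod_mod_of_dvd m (Nat.dvd_of_mod_eq_zero hce)
      rw [Nat.odd_iff] at hm
      omega
    right
    rcases Nat.even_or_odd i with hie | hio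
    · right
      rw [if_pos hie] at hc
      subst hc
      refine ⟨hrp, h2r, hie, ?_⟩
      by_cases hk : (2 * d) % c = 0
      · left
        have := b hk
        simp [Nat.not_odd_iff_even.mpr hie] at this
        exact ⟨hk, this⟩
      · exact Or.inr ⟨hcm, hl, a (Nat.pos_of_ne_zero hk)⟩
    · left
      refine ⟨hrp, h2r, hio, hcm, hl, a (Nat.pos_of_ne_zero fun hk => b hk ?_)⟩
      simp [hio]

end Cfsg.Agent.S5989
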