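import Cfsg.Statements.S5990
import Cfsg.Agent.H47.OrthEven
import Cfsg.Agent.H47.OrthInvol
import Cfsg.Agent.H47.OrthEvenTwo
import Cfsg.Agent.H47.OrthEvenData
import Cfsg.Agent.H47.OrthUniTwoOdd

set_option autoImplicit false
open scoped MatrixGroups
open Cfsg

namespace Cfsg.Agent.S5990

/-- Elements of prime order of PΩ⁻_n(q) with no fixed elliptic `m`-space. Here `T = PΩ⁻_n(F)`, `n = 2d ≥ 8`, realised through `Ω⁻_n(q)`, the commutator subgroup of the isometry group of `Q = Σ_{i<d−1} xᵢyᵢ + z₁² + a z₁z₂ + b z₂²` with `z₁² + a z₁z₂ + b z₂²` anisotropic, over the field `F` with `q` elements; an element of `T` of prime order `r` is an element `x` of `Ω⁻_n(q)` with `x^r` scalar and `x` not scalar; a nondegenerate `m`-space (even `m`) is a subspace on which the polar form of `Q` is nondegenerate; it is hyperbolic if it contains an `m/2`-dimensional subspace on which `Q` vanishes, elliptic otherwise. Let `m` be even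 with `2 ≤ m ≤ n − 2` (no restriction `m < n/2`: fixing an elliptic `m`-space is the same as fixing its hyperbolic orthogonal complement) and let `r` be a prime dividing the number of elliptic `m`-spaces, with `r = 2` or `r ≠ p`; for `r ≠ p` let `i` be the multiplicative order of `q` modulo `r`, `c = i` for `i` even and `c = 2i` for `i` odd, and write `k = n mod c`, `ℓ = m mod i`, `ℓ' = m mod c`, `n' = ⌊n/i⌋`, `m' = ⌊m/i⌋`, `t = (r−1)/i`. Then every element of `T` of order `r` fixes some elliptic `m`-space if and only if one of: (i) `r = p = 2` and (`n ≡ 0 (mod 4)` or `m ≡ 2 (mod 4)`); (ii) `r = 2 ≠ p` and (`n ≡ 0 (mod 4)`, or `q ≢ 7 (mod 8)`, or `m ≡ 2 (mod 4)`); (iii) `r ≠ p` odd, `i` odd, and `k = 0` or (`c ≤ m` and `k ≥ ℓ' > 0`); (iv) `r ≠ p` odd, `i` even, and either `k = 0` and (`n/i` even, or `ℓ' = 0` and `m/i` odd), or `k > 0`, `i ≤ m` and (`k > ℓ' > 0`, or `ℓ' = 0` and `m/i` odd, or `k = ℓ'` and `(n + m −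 2k)/i` even). (Odd `r = p` is not covered by this statement.) -/
theorem result {F : Type*} [Field F] [Fintype F] {p : ℕ} [Fact p.Prime] [CharP F p] {q : ℕ} (hq : Fintype.card F = q)
    (d m : ℕ) (hd : 4 ≤ d) (hm : 2 ≤ m) (hme : Even m) (hmn : m + 2 ≤ 2 * d) (a b : F) (hab : ∀ x y : F, x ^ 2 + a * x * y + b * y ^ 2 = 0 → x = 0 ∧ y = 0)
    (r : ℕ) [Fact r.Prime] (hr : r = 2 ∨ r ≠ p)
    (hrΩ : r ∣ Nat.card {W : Submodule F ((Fin (d - 1) ⊕ Fin (d - 1)) ⊕ Fin 2 → F) // Module.finrank F ↥W = m ∧ Cfsg.Geo.IsNondegenerateOn (QuadraticMap.polar (Cfsg.quadFormMinus (d - 1) F a b)) W ∧ ¬ Cfsg.Geo.IsPlusTypeOn (Cfsg.quadFormMinus (d - 1) F a b) W})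
    (i c : ℕ) (hi : i = orderOf (q : ZMod r)) (hc : c = if Even i then i else 2 * i) :
    (∀ x : GL ((Fin (d - 1) ⊕ Fin (d - 1)) ⊕ Fin 2) F, x ∈ Cfsg.Geo.omegaGL (Cfsg.quadFormMinus (d - 1) F a b) →
      (∃ z : F, ((x ^ r : GL ((Fin (d - 1) ⊕ Fin (d - 1)) ⊕ Fin 2) F) : Matrix ((Fin (d - 1) ⊕ Fin (d - 1)) ⊕ Fin 2) ((Fin (d - 1) ⊕ Fin (d - 1)) ⊕ Fin 2) F) = z • (1 : Matrix ((Fin (d - 1) ⊕ Fin (d - 1)) ⊕ Fin 2) ((Fin (d - 1) ⊕ Fin (d - 1)) ⊕ Fin 2) F)) →
      (∀ z : F, (x : Matrix ((Fin (d - 1) ⊕ Fin (d - 1)) ⊕ Fin 2) ((Fin (d - 1) ⊕ Fin (d - 1)) ⊕ Fin 2) F) ≠ z • (1 : Matrix ((Fin (d - 1) ⊕ Fin (d - 1)) ⊕ Fin 2) ((Fin (d - 1) ⊕ Fin (d - 1)) ⊕ Fin 2) F)) →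
      ∃ W : Submodule F ((Fin (d - 1) ⊕ Fin (d - 1)) ⊕ Fin 2 → F), (Module.finrank F ↥W = m ∧ Cfsg.Geo.IsNondegenerateOn (QuadraticMap.polar (Cfsg.quadFormMinus (d - 1) F a b)) W ∧ ¬ Cfsg.Geo.IsPlusTypeOn (Cfsg.quadFormMinus (d - 1) F a b) W) ∧ W.map (Matrix.toLin' (x : Matrix ((Fin (d - 1) ⊕ Fin (d - 1)) ⊕ Fin 2) ((Fin (d - 1) ⊕ Fin (d - 1)) ⊕ Fin 2) F)) ≤ W) ↔
    ((r = 2 ∧ p = 2 ∧ (Even d ∨ m % 4 = 2)) ∨
     (r = 2 ∧ p ≠ 2 ∧ (Even d ∨ q % 8 ≠ 7 ∨ m % 4 = 2)) ∨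
     (r ≠ p ∧ 2 < r ∧ Odd i ∧ ((2 * d) % c = 0 ∨ (c ≤ m ∧ 0 < m % c ∧ m % c ≤ (2 * d) % c))) ∨
     (r ≠ p ∧ 2 < r ∧ Even i ∧
       (((2 * d) % c = 0 ∧ (Even ((2 * d) / i) ∨ (m % c = 0 ∧ Odd (m / i)))) ∨
        (0 < (2 * d) % c ∧ i ≤ m ∧ ((0 < m % c ∧ m % c < (2 * d) % c) ∨ (m % c = 0 ∧ Odd (m / i)) ∨
                                    (m % c = (2 * d) % c ∧ Even ((2 * d + m - 2 * ((2 * d) % c)) / i))))))) := by
  classical
  subst hq
  have hrpr : r.Prime := Fact.out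
  have hQ := H43.qMinus_nondeg (F := F) (d - 1) hab
  have hN : Module.finrank F ((Fin (d - 1) ⊕ Fin (d - 1)) ⊕ Fin 2 → F) = 2 * d := by
    rw [H43.finrank_qMinus]; omega
  have hcard : 5 ≤ Fintype.card ((Fin (d - 1) ⊕ Fin (d - 1)) ⊕ Fin 2) := by simp; omega
  have hTV : H47.PlusOn (H43.qMinus (d - 1) F a b) ⊤ ↔ False := iff_false_intro (H47.not_plusOn_qMinus (by omega) hab)
  simp only [← H43.coe_qMinus, H47.clsEven_minus_iff] at hrΩ ⊢
  by_cases hr2 : r = 2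
  · subst hr2
    by_cases hp2 : p = 2
    · subst hp2
      have h20 : (2 : F) = 0 := by exact_mod_cast CharP.cast_eq_zero F 2
      rw [H47.crit_char2_same hQ h20 hN hd hme (by omega) (by omega) hTV]
      simp only [false_imp_iff, not_false_eq_true, true_imp_iff, true_and, ne_eq, not_true_eq_false, Nat.lt_irrefl,
        false_and, and_false, or_false, Nat.even_iff]
    · have h2 : (2 : F) ≠ 0 := fun h => hp2
        ((Nat.prime_dvd_prime_iff_eq Fact.out Nat.prime_two).mp ((CharP.cast_eq_zero_iff F p 2).mp (by exact_mod_cast h)))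
      have hq2 : Fintype.card F % 2 = 1 := FiniteField.odd_card_of_char_ne_two (by
        rw [ringChar.eq F p]; exact hp2)
      rw [H47.crit_two_even hQ h2 hN (by omega) hme (by omega) (by omega) False, hTV,
        (H47.isSquare_data h2).1, (H47.isSquare_data h2).2]
      simp only [true_iff, false_iff, Nat.lt_irrefl, false_and, and_false, or_false, false_or, true_and, ne_eq, hp2,
        not_false_eq_true, Nat.even_iff, Nat.odd_iff]
      obtain ⟨j, hj⟩ := hme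
      constructor <;> intro h <;> omega
  have hrp : r ≠ p := hr.resolve_left hr2
  rw [H47.omega_reduce hQ hcard hr2]
  have h2r : 2 < r := by have := hrpr.two_le; omega
  refine H47.crit_even_dim hQ hr2 (H47.not_dvd_card hrp) hi hc hN (even_two_mul d) hme (by omega) (by omega) hTV hrΩ _ ?_ ?_
  · rcases Nat.even_or_odd i with hie | hio
    · rw [if_pos hie] at hc
      subst hc
      by_cases hk : (2 * d) % c = m % c
      · rw [H47.div_sum_sub (Nat.pos_of_ne_zero fun e => by subst e; simp at hk; omega) hk.symm]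
        simp [hie, hr2, hrp, h2r, Nat.not_odd_iff_even.mpr hie, Nat.even_iff, Nat.odd_iff, hk]
        omega
      · simp [hie, hr2, hrp, h2r, Nat.not_odd_iff_even.mpr hie, Nat.even_iff, Nat.odd_iff, hk]
        omega
    · simp [hio, hr2, hrp, h2r, Nat.not_even_iff_odd.mpr hio]
      omega
  · intro hcm
    rcases Nat.even_or_odd i with hie | hio
    · rw [if_pos hie] at hc
      subst hc
      by_cases hk : (2 * d) % c = m % c
      · rw [H47.div_sum_sub (Nat.pos_of_ne_zero fun e => by subst e; simp at hk; omega) hk.symm]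
        simp [hie, hr2, hrp, h2r, hcm, Nat.not_odd_iff_even.mpr hie, Nat.even_iff, Nat.odd_iff, hk]
        omega
      · simp [hie, hr2, hrp, h2r, hcm, Nat.not_odd_iff_even.mpr hie, Nat.even_iff, Nat.odd_iff, hk]
        omega
    · simp [hio, hr2, hrp, h2r, hcm, Nat.not_even_iff_odd.mpr hio]
      omega

end Cfsg.Agent.S5990
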