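import Cfsg.Statements.S5992
import Cfsg.Agent.H47.OrthStd
import Cfsg.Agent.H47.UniTargets

set_option autoImplicit false
open scoped MatrixGroups
open Cfsg

namespace Cfsg.Agent.S5992

/-- Elements of prime order r ≠ p of Ω_n(q), nq odd, with no fixed hyperbolic `m`-space. Here `T = Ω_n(F)`, `n = 2d+1 ≥ 7`, `q` odd, realised as the commutator subgroup of the isometry group of `Q = x₀² + Σ xᵢyᵢ` over the field `F` with `q` elements (trivial centre, so its elements of prime order `r` are used directly); a nondegenerate `m`-space (even `m`) is a subspace on which the polar form of `Q` is nondegenerate; it is hyperbolic if it contains an `m/2`-dimensional subspace on which `Q` vanishes, elliptic otherwise. Let `m` be even with `2 ≤ m ≤ n − 1` (no restriction `m < n/2`) and let `r ≠ p` be a prime dividing the number of hyperbolic `m`-spaces; for `r ≠ p` let `i` be the multiplicative order of `q` modulo `r`, `c = i` for `i` even and `c = 2i` for `i` odd, and write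 `k = n mod c`, `ℓ' = m mod c`. Then every element of `T` of order `r` fixes some hyperbolic `m`-space if and only if `r = 2`, or `r` is odd and one of: (i) `i` odd, `c ≤ m` and either `k > ℓ' > 0` or `ℓ' = 0`; (ii) `i` even, `i ≤ m`, `k > ℓ'`, and `m/i` even whenever `ℓ' = 0`. (`r = p` is not covered by this statement.) -/
theorem result {F : Type*} [Field F] [Fintype F] {p : ℕ} [Fact p.Prime] [CharP F p] {q : ℕ} (hq : Fintype.card F = q) (hqodd : Odd q)
    (d m : ℕ) (hd : 3 ≤ d) (hm : 2 ≤ m) (hme : Even m) (hmn : m ≤ 2 * d)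
    (r : ℕ) [Fact r.Prime] (hrp : r ≠ p)
    (hrΩ : r ∣ Nat.card {W : Submodule F (Unit ⊕ (Fin d ⊕ Fin d) → F) // Module.finrank F ↥W = m ∧ Cfsg.Geo.IsNondegenerateOn (QuadraticMap.polar (Cfsg.quadFormOdd d F)) W ∧ Cfsg.Geo.IsPlusTypeOn (Cfsg.quadFormOdd d F) W})
    (i c : ℕ) (hi : i = orderOf (q : ZMod r)) (hc : c = if Even i then i else 2 * i) :
    (∀ x : GL (Unit ⊕ (Fin d ⊕ Fin d)) F, x ∈ Cfsg.Geo.omegaGL (Cfsg.quadFormOdd d F) → orderOf x = r →
      ∃ W : Submodule F (Unit ⊕ (Fin d ⊕ Fin d) → F), (Module.finrank F ↥W = m ∧ Cfsg.Geo.IsNondegenerateOn (QuadraticMap.polar (Cfsg.quadFormOdd d F)) W ∧ Cfsg.Geo.IsPlusTypeOn (Cfsg.quadFormOdd d F) W) ∧ W.map (Matrix.toLin' (x : Matrix (Unit ⊕ (Fin d ⊕ Fin d)) (Unit ⊕ (Fin d ⊕ Fin d)) F)) ≤ W) ↔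
    (r = 2 ∨
     (2 < r ∧ Odd i ∧ c ≤ m ∧ (m % c = 0 ∨ (0 < m % c ∧ m % c < (2 * d + 1) % c))) ∨
     (2 < r ∧ Even i ∧ i ≤ m ∧ m % c < (2 * d + 1) % c ∧ (0 < m % c ∨ Even (m / i)))) := by
  classical
  subst hq
  have hrpr : r.Prime := Fact.out
  have h2 : (2 : F) ≠ 0 := H47.two_ne_of_odd hqodd
  have hQ := H43.qOdd_nondeg h2 d
  have hN : Module.finrank F (Unit ⊕ (Fin d ⊕ Fin d) → F) = 2 * d + 1 := H43.finrank_qOdd d
  have hcard : 5 ≤ Fintype.card (Unit ⊕ (Fin d ⊕ Fin d)) := by simp; omega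
  simp only [← H43.coe_qOdd, H47.clsEven_plus_iff] at hrΩ ⊢
  by_cases hr2 : r = 2
  · subst hr2
    exact iff_of_true (H47.order_two_reduce _ fun g hg =>
      H47.invol_fix_even hQ h2 (by omega) hg (by omega) hme (by omega) True) (Or.inl rfl)
  rw [H47.omega_reduce_order hQ hcard hr2, H47.crit_odd_dim hQ hr2 (H47.not_dvd_card hrp) hi hc (by rw [hN]; exact odd_two_mul_add_one d)
    hme (by omega) (by omega) True hrΩ, hN]
  have h2r : 2 < r := by have := hrpr.two_le; omega
  have hk : 0 < (2 * d + 1) % c := by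
    rw [hc]; split_ifs with he
    · obtain ⟨j, rfl⟩ := even_iff_two_dvd.mp he
      have := Nat.mod_mod_of_dvd (2 * d + 1) (dvd_mul_right 2 j); omega
    · have := Nat.mod_mod_of_dvd (2 * d + 1) (dvd_mul_right 2 i); omega
  rcases Nat.even_or_odd i with he | ho
  · rw [if_pos he] at hc
    subst hc
    simp [he, hr2, h2r, Nat.not_odd_iff_even.mpr he]
    intro _ _
    rw [or_iff_not_imp_left, Nat.pos_iff_ne_zero, not_not]
  · simp [ho, hr2, h2r, Nat.not_even_iff_odd.mpr ho]
    intro _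
    constructor <;> intro h <;> omega

end Cfsg.Agent.S5992
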