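import Cfsg.Statements.S5993
import Cfsg.Agent.H47.OrthStd
import Cfsg.Agent.H47.UniTargets

set_option autoImplicit false
open scoped MatrixGroups
open Cfsg

namespace Cfsg.Agent.S5993

/-- Elements of prime order of Ω_n(q), nq odd, with no fixed elliptic `m`-space. Here `T = Ω_n(F)`, `n = 2d+1 ≥ 7`, `q` odd, realised as the commutator subgroup of the isometry group of `Q = x₀² + Σ xᵢyᵢ` over the field `F` with `q` elements (trivial centre, so its elements of prime order `r` are used directly); a nondegenerate `m`-space (even `m`) is a subspace on which the polar form of `Q` is nondegenerate; it is hyperbolic if it contains an `m/2`-dimensional subspace on which `Q` vanishes, elliptic otherwise. Let `m` be even with `2 ≤ m ≤ n − 1` (no restriction `m < n/2`) and let `r` be a prime dividing the number of elliptic `m`-spaces; for `r ≠ p` let `i` be the multiplicative order of `q` modulo `r`, `c = i` for `i` even and `c = 2i` for `i` odd, and write `k = n mod c`, `ℓ'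 = m mod c`. Then every element of `T` of order `r` fixes some elliptic `m`-space if and only if `r = 2`, or `r ≠ p` is odd and one of: (i) `i` odd, `c ≤ m` and `k > ℓ' > 0`; (ii) `i` even, `i ≤ m`, `k > ℓ'`, and `m/i` odd whenever `ℓ' = 0`. (For `r = p` there is always an element of order `p` fixing no elliptic `m`-space.) -/
theorem result {F : Type*} [Field F] [Fintype F] {p : ℕ} [Fact p.Prime] [CharP F p] {q : ℕ} (hq : Fintype.card F = q) (hqodd : Odd q)
    (d m : ℕ) (hd : 3 ≤ d) (hm : 2 ≤ m) (hme : Even m) (hmn : m ≤ 2 * d)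
    (r : ℕ) [Fact r.Prime]
    (hrΩ : r ∣ Nat.card {W : Submodule F (Unit ⊕ (Fin d ⊕ Fin d) → F) // Module.finrank F ↥W = m ∧ Cfsg.Geo.IsNondegenerateOn (QuadraticMap.polar (Cfsg.quadFormOdd d F)) W ∧ ¬ Cfsg.Geo.IsPlusTypeOn (Cfsg.quadFormOdd d F) W})
    (i c : ℕ) (hi : i = orderOf (q : ZMod r)) (hc : c = if Even i then i else 2 * i) :
    (∀ x : GL (Unit ⊕ (Fin d ⊕ Fin d)) F, x ∈ Cfsg.Geo.omegaGL (Cfsg.quadFormOdd d F) → orderOf x = r →
      ∃ W : Submodule F (Unit ⊕ (Fin d ⊕ Fin d) → F), (Module.finrank F ↥W = m ∧ Cfsg.Geo.IsNondegenerateOn (QuadraticMap.polar (Cfsg.quadFormOdd d F)) W ∧ ¬ Cfsg.Geo.IsPlusTypeOn (Cfsg.quadFormOdd d F) W) ∧ W.map (Matrix.toLin' (x : Matrix (Unit ⊕ (Fin d ⊕ Fin d)) (Unit ⊕ (Fin d ⊕ Fin d)) F)) ≤ W) ↔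
    (r = 2 ∨
     (r ≠ p ∧ 2 < r ∧ Odd i ∧ c ≤ m ∧ 0 < m % c ∧ m % c < (2 * d + 1) % c) ∨
     (r ≠ p ∧ 2 < r ∧ Even i ∧ i ≤ m ∧ m % c < (2 * d + 1) % c ∧ (0 < m % c ∨ Odd (m / i)))) := by
  classical
  subst hq
  have hrpr : r.Prime := Fact.out
  have h2 : (2 : F) ≠ 0 := H47.two_ne_of_odd hqodd
  have hQ := H43.qOdd_nondeg h2 d
  have hN : Module.finrank F (Unit ⊕ (Fin d ⊕ Fin d) → F) = 2 * d + 1 := H43.finrank_qOdd d
  have hcard : 5 ≤ Fintype.card (Unit ⊕ (Fin d ⊕ Fin d)) := by simp; omega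
  simp only [← H43.coe_qOdd, H47.clsEven_minus_iff] at hrΩ ⊢
  by_cases hr2 : r = 2
  · subst hr2
    exact iff_of_true (H47.order_two_reduce _ fun g hg =>
      H47.invol_fix_even hQ h2 (by omega) hg (by omega) hme (by omega) False) (Or.inl rfl)
  by_cases hrp : r = p
  · subst hrp
    refine iff_of_false (fun hall => ?_) (by rintro (h | ⟨h, -⟩ | ⟨h, -⟩) <;> [exact hr2 h; exact h rfl; exact h rfl])
    have h3 : 3 ≤ r := by have := hrpr.two_le; omega
    obtain ⟨c₂, o, hc₂, ho, hsum, ho1⟩ : ∃ c₂ o, Even c₂ ∧ o % 2 = 1 ∧ 2 * c₂ + o = 2 * d + 1 ∧ o ≤ 3 := by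
      rcases Nat.even_or_odd d with hde | hdo
      · exact ⟨d, 1, hde, rfl, by omega, by omega⟩
      · exact ⟨d - 1, 3, Nat.Odd.sub_odd hdo odd_one, rfl, by omega, by omega⟩
    set μ : Multiset ℕ := Multiset.replicate c₂ 2 + {o} with hμ
    have hμ0 : 0 ∉ μ := by simp [hμ, Multiset.mem_replicate]; omega
    obtain ⟨x, hx, hxr⟩ := H47.exists_unipotent_odd (F := F) h2 hμ0 (fun e he => by
      have heo : e ≠ o := by rintro rfl; rw [Nat.even_iff] at he; omega
      rw [hμ, Multiset.count_add, Multiset.count_singleton, if_neg heo, add_zero, Multiset.count_replicate]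
      split_ifs
      exacts [hc₂, ⟨0, rfl⟩]) (show μ.sum = 2 * d + 1 by simp [hμ, mul_comm]; omega)
    have hxp : x ^ r = 1 := H47.pow_char_eq_one (fun e he => by
      simp [hμ, Multiset.mem_replicate] at he
      rcases he with ⟨-, rfl⟩ | rfl <;> omega) hxr
    have hxΩ := H47.odd_pow_mem_omega h2 (H43.qOdd d F) hQ (by rw [H43.coe_qOdd]; exact hx)
      (hrpr.odd_of_ne_two hr2) hxp
    have hord : orderOf x = r := orderOf_eq_prime hxp fun h1 =>
      H47.not_scalar_of_parts hxr ⟨2, by simp [hμ, Multiset.mem_replicate]; omega, by norm_num⟩ 1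
        (by rw [h1, Units.val_one, one_smul])
    obtain ⟨W, ⟨hWm, hWn, hWT⟩, hWx⟩ := hall x hxΩ hord
    obtain ⟨ν, hν1, hν2, hν3, hν4⟩ := H47.partition_of_fixed h2 (H43.qOdd d F) hQ (by rw [H43.coe_qOdd]; exact hx) hμ0
      hxr W hWm (H47.ndOn_iff_geo.mpr hWn) hWx
    refine hWT.mp (hν4 fun e he => ?_)
    have hmem := Multiset.mem_of_le hν1 he
    simp [hμ, Multiset.mem_replicate] at hmem
    rcases hmem with ⟨-, rfl⟩ | rfl
    · exact even_two
    · exfalso
      have hco : ν.count e = 1 := le_antisymm ((Multiset.count_le_of_le e hν1).trans (by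
        simp [hμ, Multiset.count_replicate]; omega)) (Multiset.count_pos.mpr he)
      have hs := H47.sum_eq_of_support (ν := ν) (show (2 : ℕ) ≠ e by omega) (by omega) (show e ≠ 0 by omega) fun a ha => by
        have := Multiset.mem_of_le hν1 ha
        simp [hμ, Multiset.mem_replicate] at this
        rcases this with ⟨-, rfl⟩ | rfl <;> simp
      rw [hν2, hco] at hs
      rw [Nat.even_iff] at hme
      omega
  rw [H47.omega_reduce_order hQ hcard hr2, H47.crit_odd_dim hQ hr2 (H47.not_dvd_card hrp) hi hc (by rw [hN]; exact odd_two_mul_add_one d)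
    hme (by omega) (by omega) False hrΩ, hN]
  have h2r : 2 < r := by have := hrpr.two_le; omega
  have hk : 0 < (2 * d + 1) % c := by
    rw [hc]; split_ifs with he
    · obtain ⟨j, rfl⟩ := even_iff_two_dvd.mp he
      have := Nat.mod_mod_of_dvd (2 * d + 1) (dvd_mul_right 2 j); omega
    · have := Nat.mod_mod_of_dvd (2 * d + 1) (dvd_mul_right 2 i); omega
  rcases Nat.even_or_odd i with he | ho
  · rw [if_pos he] at hc
    subst hc
    simp [he, hr2, hrp, h2r, Nat.not_odd_iff_even.mpr he]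
    intro _ _
    rw [or_iff_not_imp_left, Nat.pos_iff_ne_zero, not_not]
  · simp [ho, hr2, hrp, h2r, Nat.not_even_iff_odd.mpr ho]
    intro _
    constructor <;> intro h <;> omega

end Cfsg.Agent.S5993
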