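import Cfsg.Statements.S5994
import Cfsg.Agent.H47.UniTargets
-- import your own Cfsg.Agent.* helpers here

set_option autoImplicit false
open scoped MatrixGroups
open Cfsg

namespace Cfsg.Agent.S5994

/-- A necessary condition for every element of order p of PΩ⁻_n(q), q odd, to fix an elliptic `m`-space. Here `T = PΩ⁻_n(F)`, `n = 2d ≥ 8`, realised through `Ω⁻_n(q)`, the commutator subgroup of the isometry group of `Q = Σ_{i<d−1} xᵢyᵢ + z₁² + a z₁z₂ + b z₂²` with `z₁² + a z₁z₂ + b z₂²` anisotropic, over the field `F` with `q` elements; an element of `T` of prime order `r` is an element `x` of `Ω⁻_n(q)` with `x^r` scalar and `x` not scalar; `q` is odd; a nondegenerate `m`-space (even `m`) is a subspace on which the polar form of `Q` is nondegenerate; it is hyperbolic if it contains an `m/2`-dimensional subspace on which `Q` vanishes, elliptic otherwise. Let `m` be even with `2 ≤ m ≤ n − 2` and suppose `p` divides the number of elliptic `m`-spaces. If every element of `T` of order `p` fixes some elliptic `m`-space,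 then `n ≡ m (mod 4)` and every partition of `n` into parts of size at most `p` in which every even part has even multiplicity contains (as a sub-multiset) a partition of `m` in which every even part has even multiplicity. -/
theorem result {F : Type*} [Field F] [Fintype F] {p : ℕ} [Fact p.Prime] [CharP F p] {q : ℕ} (hq : Fintype.card F = q) (hqodd : Odd q)
    (d m : ℕ) (hd : 4 ≤ d) (hm : 2 ≤ m) (hme : Even m) (hmn : m + 2 ≤ 2 * d) (a b : F) (hab : ∀ x y : F, x ^ 2 + a * x * y + b * y ^ 2 = 0 → x = 0 ∧ y = 0)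
    (hpΩ : p ∣ Nat.card {W : Submodule F ((Fin (d - 1) ⊕ Fin (d - 1)) ⊕ Fin 2 → F) // Module.finrank F ↥W = m ∧ Cfsg.Geo.IsNondegenerateOn (QuadraticMap.polar (Cfsg.quadFormMinus (d - 1) F a b)) W ∧ ¬ Cfsg.Geo.IsPlusTypeOn (Cfsg.quadFormMinus (d - 1) F a b) W}) :
    (∀ x : GL ((Fin (d - 1) ⊕ Fin (d - 1)) ⊕ Fin 2) F, x ∈ Cfsg.Geo.omegaGL (Cfsg.quadFormMinus (d - 1) F a b) →
      (∃ z : F, ((x ^ p : GL ((Fin (d - 1) ⊕ Fin (d - 1)) ⊕ Fin 2) F) : Matrix ((Fin (d - 1) ⊕ Fin (d - 1)) ⊕ Fin 2) ((Fin (d - 1) ⊕ Fin (d - 1)) ⊕ Fin 2) F) = z • (1 : Matrix ((Fin (d - 1) ⊕ Fin (d - 1)) ⊕ Fin 2) ((Fin (d - 1) ⊕ Fin (d - 1)) ⊕ Fin 2) F)) →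
      (∀ z : F, (x : Matrix ((Fin (d - 1) ⊕ Fin (d - 1)) ⊕ Fin 2) ((Fin (d - 1) ⊕ Fin (d - 1)) ⊕ Fin 2) F) ≠ z • (1 : Matrix ((Fin (d - 1) ⊕ Fin (d - 1)) ⊕ Fin 2) ((Fin (d - 1) ⊕ Fin (d - 1)) ⊕ Fin 2) F)) →
      ∃ W : Submodule F ((Fin (d - 1) ⊕ Fin (d - 1)) ⊕ Fin 2 → F), (Module.finrank F ↥W = m ∧ Cfsg.Geo.IsNondegenerateOn (QuadraticMap.polar (Cfsg.quadFormMinus (d - 1) F a b)) W ∧ ¬ Cfsg.Geo.IsPlusTypeOn (Cfsg.quadFormMinus (d - 1) F a b) W) ∧ W.map (Matrix.toLin' (x : Matrix ((Fin (d - 1) ⊕ Fin (d - 1)) ⊕ Fin 2) ((Fin (d - 1) ⊕ Fin (d - 1)) ⊕ Fin 2) F)) ≤ W) →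
    ((2 * d) % 4 = m % 4 ∧ (∀ μ : Multiset ℕ, (∀ e ∈ μ, 0 < e ∧ e ≤ p) → (∀ e : ℕ, Even e → Even (μ.count e)) → μ.sum = 2 * d →
        ∃ ν : Multiset ℕ, ν ≤ μ ∧ ν.sum = m ∧ ∀ e : ℕ, Even e → Even (ν.count e))) := by
  classical
  intro hall
  have hp2 : p ≠ 2 := by
    rintro rfl
    exact (Nat.not_even_iff_odd.2 (hq ▸ hqodd)) (by
      rw [Nat.even_iff]
      exact FiniteField.even_card_of_char_two (ringChar.eq F 2))
  have h2 : (2 : F) ≠ 0 := by
    intro h
    have h' : ((2 : ℕ) : F) = 0 := by exact_mod_cast h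
    exact hp2 ((Nat.prime_dvd_prime_iff_eq Fact.out Nat.prime_two).1 ((CharP.cast_eq_zero_iff F p 2).1 h'))
  have hp3 : 3 ≤ p := by have := (Fact.out : p.Prime).two_le; omega
  have core : ∀ μ : Multiset ℕ, (∀ e ∈ μ, 0 < e ∧ e ≤ p) → (∀ e : ℕ, Even e → Even (μ.count e)) → μ.sum = 2 * d →
      (∃ o ∈ μ, Odd o) → (∃ e ∈ μ, 1 < e) →
      ∃ ν : Multiset ℕ, ν ≤ μ ∧ ν.sum = m ∧ (∀ e : ℕ, Even e → Even (ν.count e)) ∧ ∃ o ∈ ν, Odd o := by
    intro μ hμ hev hsum hodd hbig
    have hμ0 : 0 ∉ μ := fun h => absurd (hμ 0 h).1 (lt_irrefl 0)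
    obtain ⟨x, hx, hr⟩ := (H47.exists_unipotent_both (F := F) h2 (by omega) hev hsum hodd).2 a b hab
    have hxp : x ^ p = 1 := H47.pow_char_eq_one (fun e he => (hμ e he).2) hr
    have hxq : x ∈ Cfsg.isometryGroup F ⇑(H43.qMinus (d - 1) F a b) := by rw [H43.coe_qMinus]; exact hx
    have hxΩ := H47.odd_pow_mem_omega h2 (H43.qMinus (d - 1) F a b) (H43.qMinus_nondeg (d - 1) hab) hxq
      ((Fact.out : p.Prime).odd_of_ne_two hp2) hxp
    rw [H43.coe_qMinus] at hxΩ
    obtain ⟨W, ⟨hWm, hWn, hWp⟩, hWx⟩ := hall x hxΩ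
      ⟨1, by rw [hxp, Units.val_one, one_smul]⟩ (H47.not_scalar_of_parts hr hbig)
    obtain ⟨ν, h1, h2', h3, h4⟩ := H47.partition_of_fixed h2 (H43.qMinus (d - 1) F a b)
      (H43.qMinus_nondeg (d - 1) hab) hxq hμ0 hr W hWm (by rw [H43.coe_qMinus]; exact hWn) hWx
    refine ⟨ν, h1, h2', h3, ?_⟩
    by_contra hno
    push Not at hno
    exact hWp (by rw [← H43.coe_qMinus]; exact h4 fun e he => Nat.not_odd_iff_even.1 (hno e he))
  have hme' := Nat.even_iff.1 hme
  refine ⟨?_, fun μ hμ hev hsum => ?_⟩
  · rcases Nat.even_or_odd d with hde | hdo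
    · obtain ⟨ν, hνle, hνs, hνev, o, ho, hoo⟩ := core (Multiset.replicate (d - 2) 2 + (3 ::ₘ {1}))
        (by
          intro e he
          simp only [Multiset.mem_add, Multiset.mem_cons, Multiset.mem_singleton] at he
          rcases he with he | rfl | rfl
          · rw [Multiset.eq_of_mem_replicate he]; omega
          · omega
          · omega)
        (by
          intro e he
          have h3 : e ≠ 3 := by rintro rfl; simp [Nat.even_iff] at he
          have h1 : e ≠ 1 := by rintro rfl; simp at he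
          rw [Multiset.count_add, Multiset.count_cons_of_ne h3, Multiset.count_singleton, if_neg h1, add_zero,
            Multiset.count_replicate]
          split_ifs
          · rw [Nat.even_sub (by omega)]; simp [hde]
          · exact ⟨0, rfl⟩)
        (by simp; omega) ⟨1, by simp, odd_one⟩ ⟨3, by simp, by norm_num⟩
      have hsupp : ∀ e ∈ ν, e = 2 ∨ e = 3 ∨ e = 1 := by
        intro e he
        have := Multiset.mem_of_le hνle he
        simp only [Multiset.mem_add, Multiset.mem_cons, Multiset.mem_singleton] at this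
        rcases this with h | h | h
        · exact Or.inl (Multiset.eq_of_mem_replicate h)
        · exact Or.inr (Or.inl h)
        · exact Or.inr (Or.inr h)
      have h := H47.sum_eq_of_support (by norm_num) (by norm_num) (by norm_num) hsupp
      obtain ⟨k, hk⟩ := hνev 2 (by norm_num)
      have hc3 : ν.count 3 ≤ 1 := (Multiset.count_le_of_le 3 hνle).trans (by simp [Multiset.count_replicate])
      have hc1 : ν.count 1 ≤ 1 := (Multiset.count_le_of_le 1 hνle).trans (by simp [Multiset.count_replicate])
      have hpos : 1 ≤ ν.count 3 + ν.count 1 := by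
        rcases hsupp o ho with rfl | rfl | rfl
        · simp [Nat.odd_iff] at hoo
        · have := Multiset.count_pos.2 ho; omega
        · have := Multiset.count_pos.2 ho; omega
      rw [hνs, hk] at h
      rw [Nat.even_iff] at hde
      have hc3' : ν.count 3 = 1 := by
        rcases Nat.le_one_iff_eq_zero_or_eq_one.1 hc3 with h0 | h0
        · rw [h0] at h hpos; omega
        · exact h0
      have hc1' : ν.count 1 = 1 := by
        rcases Nat.le_one_iff_eq_zero_or_eq_one.1 hc1 with h0 | h0
        · rw [h0, hc3'] at h; omega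
        · exact h0
      rw [hc1', hc3'] at h
      omega
    · obtain ⟨ν, hνle, hνs, hνev, o, ho, hoo⟩ := core (Multiset.replicate (d - 1) 2 + (1 ::ₘ {1}))
        (by
          intro e he
          simp only [Multiset.mem_add, Multiset.mem_cons, Multiset.mem_singleton, or_self] at he
          rcases he with he | rfl
          · rw [Multiset.eq_of_mem_replicate he]; omega
          · omega)
        (by
          intro e he
          have h1 : e ≠ 1 := by rintro rfl; simp at he
          rw [Multiset.count_add, Multiset.count_cons_of_ne h1, Multiset.count_singleton, if_neg h1, add_zero,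
            Multiset.count_replicate]
          split_ifs
          · rw [Nat.even_sub (by omega)]; simp [Nat.not_even_iff_odd.2 hdo]
          · exact ⟨0, rfl⟩)
        (by simp; omega) ⟨1, by simp, odd_one⟩
        ⟨2, Multiset.mem_add.2 (Or.inl (Multiset.mem_replicate.2 ⟨by omega, rfl⟩)), by norm_num⟩
      have hsupp : ∀ e ∈ ν, e = 2 ∨ e = 1 ∨ e = 0 := by
        intro e he
        have := Multiset.mem_of_le hνle he
        simp only [Multiset.mem_add, Multiset.mem_cons, Multiset.mem_singleton, or_self] at this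
        rcases this with h | h
        · exact Or.inl (Multiset.eq_of_mem_replicate h)
        · exact Or.inr (Or.inl h)
      have h := H47.sum_eq_of_support (by norm_num) (by norm_num) (by norm_num) hsupp
      obtain ⟨k, hk⟩ := hνev 2 (by norm_num)
      have hc1 : ν.count 1 ≤ 2 := (Multiset.count_le_of_le 1 hνle).trans (by simp [Multiset.count_replicate])
      have hpos : 1 ≤ ν.count 1 := by
        rcases hsupp o ho with rfl | rfl | rfl
        · simp [Nat.odd_iff] at hoo
        · exact Multiset.count_pos.2 ho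
        · simp at hoo
      rw [hνs, hk] at h
      rw [Nat.odd_iff] at hdo
      omega
  · by_cases hbig : ∃ e ∈ μ, 1 < e
    swap
    · exact H47.ones_case (fun e he => (hμ e he).1) hsum (by omega) hbig
    by_cases hodd : ∃ o ∈ μ, Odd o
    · obtain ⟨ν, h1, h2', h3, -⟩ := core μ hμ hev hsum hodd hbig
      exact ⟨ν, h1, h2', h3⟩
    -- every part is even: split one pair `(e, e)` as `(e + 1, e - 1)`
    push Not at hodd
    obtain ⟨e, he, he1⟩ := hbig
    have hee : Even e := Nat.not_odd_iff_even.1 (hodd e he)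
    obtain ⟨t, rfl⟩ := Multiset.exists_cons_of_mem he
    have hpar := hev e hee
    rw [Multiset.count_cons_self, Nat.even_add_one, Nat.not_even_iff_odd] at hpar
    obtain ⟨r, rfl⟩ := Multiset.exists_cons_of_mem (Multiset.count_pos.1 hpar.pos)
    have hep : e + 1 ≤ p := by
      have := (hμ e he).2
      rcases eq_or_ne e p with rfl | hne
      · exact absurd hee (Nat.not_even_iff_odd.2 ((Fact.out : e.Prime).odd_of_ne_two hp2))
      · omega
    obtain ⟨f, rfl⟩ : ∃ f, e = f + 1 := ⟨e - 1, by omega⟩
    have hrev : ∀ x ∈ r, Even x := fun x hx => Nat.not_odd_iff_even.1 (hodd x (by simp [hx]))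
    have hof : Odd f := by rw [Nat.even_add_one, Nat.not_even_iff_odd] at hee; exact hee
    have hcnt : ∀ x, Even x → Even (r.count x) := by
      intro x hx
      have h := hev x hx
      rw [Multiset.count_cons, Multiset.count_cons] at h
      split_ifs at h <;> simpa [Nat.even_add] using h
    obtain ⟨ν, hνle, hνs, hνev, o, ho, hoo⟩ := core ((f + 2) ::ₘ f ::ₘ r)
      (by
        intro x hx
        simp only [Multiset.mem_cons] at hx
        rcases hx with rfl | rfl | hx
        · omega
        · omega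
        · exact hμ x (by simp [hx]))
      (by
        intro x hx
        rw [Multiset.count_cons_of_ne, Multiset.count_cons_of_ne]
        · exact hcnt x hx
        · rintro rfl; exact Nat.not_even_iff_odd.2 hof hx
        · rintro rfl; exact Nat.not_even_iff_odd.2 hof (by simpa [Nat.even_add] using hx))
      (by simp only [Multiset.sum_cons] at hsum ⊢; omega)
      ⟨f, by simp, hof⟩ ⟨f + 2, by simp, by omega⟩
    -- the odd part of `ν` is both new parts
    set η := ν.filter (fun x => ¬ Even x) with hη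
    set ρ := ν.filter (fun x => Even x) with hρ
    have hsplit : ρ + η = ν := Multiset.filter_add_not _ ν
    have hρle : ρ ≤ r := by
      refine (Multiset.filter_le_filter _ hνle).trans (le_of_eq ?_)
      rw [Multiset.filter_cons_of_neg _ (by simp [Nat.even_add, Nat.not_even_iff_odd.2 hof]),
        Multiset.filter_cons_of_neg _ (Nat.not_even_iff_odd.2 hof)]
      exact Multiset.filter_eq_self.2 hrev
    have hηle : η ≤ (f + 2) ::ₘ {f} := by
      refine (Multiset.filter_le_filter _ hνle).trans (le_of_eq ?_)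
      rw [Multiset.filter_cons_of_pos _ (by simp [Nat.even_add, Nat.not_even_iff_odd.2 hof]),
        Multiset.filter_cons_of_pos (p := fun x : ℕ => ¬ Even x) r (Nat.not_even_iff_odd.2 hof),
        Multiset.filter_eq_nil.2 (fun x hx h => h (hrev x hx))]
      rfl
    have hρeven : Even ρ.sum := by
      refine Multiset.sum_induction Even ρ (fun a b => Even.add) ⟨0, rfl⟩ ?_
      intro x hx
      exact (Multiset.mem_filter.1 hx).2
    have hsη : Even η.sum := by
      have h := hme
      rw [← hνs, ← hsplit, Multiset.sum_add, Nat.even_add] at h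
      exact h.1 hρeven
    have hηeq : η = (f + 2) ::ₘ {f} := by
      refine Multiset.eq_of_le_of_card_le hηle ?_
      simp only [Multiset.card_cons, Multiset.card_singleton]
      by_contra hlt
      have hne : η ≠ 0 := fun h0 => by
        have : o ∈ η := Multiset.mem_filter.2 ⟨ho, Nat.not_even_iff_odd.2 hoo⟩
        simp [h0] at this
      have hc1 : η.card = 1 := by
        have := Multiset.card_pos.2 hne
        omega
      obtain ⟨x, hx⟩ := Multiset.card_eq_one.1 hc1
      rw [hx, Multiset.sum_singleton] at hsη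
      have : x ∈ η := by rw [hx]; simp
      exact (Multiset.mem_filter.1 this).2 hsη
    refine ⟨(f + 1) ::ₘ (f + 1) ::ₘ ρ, by simpa using hρle, ?_, fun x hx => ?_⟩
    · rw [← hνs, ← hsplit, Multiset.sum_add, hηeq]
      simp only [Multiset.sum_cons, Multiset.sum_singleton]
      omega
    · have h := hνev x hx
      rw [← hsplit, hηeq, Multiset.count_add, Multiset.count_cons_of_ne, Multiset.count_singleton, if_neg, add_zero] at h
      · rw [Multiset.count_cons, Multiset.count_cons]
        split_ifs <;> simpa [Nat.even_add] using h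
      · rintro rfl; exact Nat.not_even_iff_odd.2 hof hx
      · rintro rfl; exact Nat.not_even_iff_odd.2 hof (by simpa [Nat.even_add] using hx)

end Cfsg.Agent.S5994
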