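import Cfsg.Statements.S5995
import Cfsg.Agent.H47.UniTargets
-- import your own Cfsg.Agent.* helpers here

set_option autoImplicit false
open scoped MatrixGroups
open Cfsg

namespace Cfsg.Agent.S5995

/-- A necessary condition for every element of order p of Ω_n(q), nq odd, to fix a hyperbolic `m`-space. Here `T = Ω_n(F)`, `n = 2d+1 ≥ 7`, `q` odd, realised as the commutator subgroup of the isometry group of `Q = x₀² + Σ xᵢyᵢ` over the field `F` with `q` elements (trivial centre, so its elements of prime order `r` are used directly); a nondegenerate `m`-space (even `m`) is a subspace on which the polar form of `Q` is nondegenerate; it is hyperbolic if it contains an `m/2`-dimensional subspace on which `Q` vanishes, elliptic otherwise. Let `m` be even with `2 ≤ m ≤ n − 1` and suppose `p` divides the number of hyperbolic `m`-spaces. If every element of `T` of order `p` fixes some hyperbolic `m`-space, then `m ≡ 0 (mod 4)` and every partition of `n` into parts of size at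 most `p` in which every even part has even multiplicity contains (as a sub-multiset) a partition of `m` in which every even part has even multiplicity. -/
theorem result {F : Type*} [Field F] [Fintype F] {p : ℕ} [Fact p.Prime] [CharP F p] {q : ℕ} (hq : Fintype.card F = q) (hqodd : Odd q)
    (d m : ℕ) (hd : 3 ≤ d) (hm : 2 ≤ m) (hme : Even m) (hmn : m ≤ 2 * d)
    (hpΩ : p ∣ Nat.card {W : Submodule F (Unit ⊕ (Fin d ⊕ Fin d) → F) // Module.finrank F ↥W = m ∧ Cfsg.Geo.IsNondegenerateOn (QuadraticMap.polar (Cfsg.quadFormOdd d F)) W ∧ Cfsg.Geo.IsPlusTypeOn (Cfsg.quadFormOdd d F) W}) :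
    (∀ x : GL (Unit ⊕ (Fin d ⊕ Fin d)) F, x ∈ Cfsg.Geo.omegaGL (Cfsg.quadFormOdd d F) → orderOf x = p →
      ∃ W : Submodule F (Unit ⊕ (Fin d ⊕ Fin d) → F), (Module.finrank F ↥W = m ∧ Cfsg.Geo.IsNondegenerateOn (QuadraticMap.polar (Cfsg.quadFormOdd d F)) W ∧ Cfsg.Geo.IsPlusTypeOn (Cfsg.quadFormOdd d F) W) ∧ W.map (Matrix.toLin' (x : Matrix (Unit ⊕ (Fin d ⊕ Fin d)) (Unit ⊕ (Fin d ⊕ Fin d)) F)) ≤ W) →
    (m % 4 = 0 ∧ (∀ μ : Multiset ℕ, (∀ e ∈ μ, 0 < e ∧ e ≤ p) → (∀ e : ℕ, Even e → Even (μ.count e)) → μ.sum = 2 * d + 1 →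
        ∃ ν : Multiset ℕ, ν ≤ μ ∧ ν.sum = m ∧ ∀ e : ℕ, Even e → Even (ν.count e))) := by
  classical
  intro hall
  have hp2 : p ≠ 2 := by
    rintro rfl
    exact (Nat.not_even_iff_odd.2 (hq ▸ hqodd)) (by
      rw [Nat.even_iff]
      exact FiniteField.even_card_of_char_two (ringChar.eq F 2))
  have h2 : (2 : F) ≠ 0 := by
    intro h
    have h' : ((2 : ℕ) : F) = 0 := by exact_mod_cast h
    exact hp2 ((Nat.prime_dvd_prime_iff_eq Fact.out Nat.prime_two).1 ((CharP.cast_eq_zero_iff F p 2).1 h'))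
  have hp3 : 3 ≤ p := by have := (Fact.out : p.Prime).two_le; omega
  have key : ∀ μ : Multiset ℕ, (∀ e ∈ μ, 0 < e ∧ e ≤ p) → (∀ e : ℕ, Even e → Even (μ.count e)) → μ.sum = 2 * d + 1 →
      ∃ ν : Multiset ℕ, ν ≤ μ ∧ ν.sum = m ∧ ∀ e : ℕ, Even e → Even (ν.count e) := by
    intro μ hμ hev hsum
    have hμ0 : 0 ∉ μ := fun h => absurd (hμ 0 h).1 (lt_irrefl 0)
    by_cases hbig : ∃ e ∈ μ, 1 < e
    · obtain ⟨x, hx, hr⟩ := H47.exists_unipotent_odd (F := F) h2 hμ0 hev hsum
      have hxp : x ^ p = 1 := H47.pow_char_eq_one (fun e he => (hμ e he).2) hr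
      have hxq : x ∈ Cfsg.isometryGroup F ⇑(H43.qOdd d F) := by rw [H43.coe_qOdd]; exact hx
      have hxΩ := H47.odd_pow_mem_omega h2 (H43.qOdd d F) (H43.qOdd_nondeg h2 d) hxq
        ((Fact.out : p.Prime).odd_of_ne_two hp2) hxp
      rw [H43.coe_qOdd] at hxΩ
      have hord : orderOf x = p := orderOf_eq_prime hxp fun h1 =>
        H47.not_scalar_of_parts hr hbig 1 (by rw [h1, Units.val_one, one_smul])
      obtain ⟨W, ⟨hWm, hWn, -⟩, hWx⟩ := hall x hxΩ hord
      obtain ⟨ν, h1, h2', h3, -⟩ := H47.partition_of_fixed h2 (H43.qOdd d F) (H43.qOdd_nondeg h2 d) hxq hμ0 hr W hWm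
        (by rw [H43.coe_qOdd]; exact hWn) hWx
      exact ⟨ν, h1, h2', h3⟩
    · exact H47.ones_case (fun e he => (hμ e he).1) hsum (by omega) hbig
  refine ⟨?_, key⟩
  obtain ⟨c, o, hc, ho, hsum, hop⟩ : ∃ c o, Even c ∧ (o = 1 ∨ o = 3) ∧ 2 * c + o = 2 * d + 1 ∧ o ≤ p := by
    rcases Nat.even_or_odd d with hde | hdo
    · exact ⟨d, 1, hde, Or.inl rfl, by omega, by omega⟩
    · exact ⟨d - 1, 3, by rw [Nat.even_sub (by omega)]; simp [Nat.not_even_iff_odd.2 hdo], Or.inr rfl, by omega, hp3⟩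
  obtain ⟨ν, hνle, hνs, hνev⟩ := key (Multiset.replicate c 2 + {o})
    (by
      intro e he
      simp only [Multiset.mem_add, Multiset.mem_singleton] at he
      rcases he with he | rfl
      · rw [Multiset.eq_of_mem_replicate he]; omega
      · omega)
    (by
      intro e he
      have heo : e ≠ o := by rintro rfl; rcases ho with rfl | rfl <;> simp [Nat.even_iff] at he
      rw [Multiset.count_add, Multiset.count_singleton, if_neg heo, add_zero, Multiset.count_replicate]
      split_ifs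
      · exact hc
      · exact ⟨0, rfl⟩)
    (by simp [mul_comm]; omega)
  have hsupp : ∀ e ∈ ν, e = 2 ∨ e = o ∨ e = 0 := by
    intro e he
    have := Multiset.mem_of_le hνle he
    simp only [Multiset.mem_add, Multiset.mem_singleton] at this
    rcases this with h | h
    · exact Or.inl (Multiset.eq_of_mem_replicate h)
    · exact Or.inr (Or.inl h)
  have h := H47.sum_eq_of_support (by omega : (2 : ℕ) ≠ o) (by omega) (by omega : o ≠ 0) hsupp
  obtain ⟨k, hk⟩ := hνev 2 (by norm_num)
  have hco : ν.count o ≤ 1 := by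
    refine (Multiset.count_le_of_le o hνle).trans ?_
    simp [Multiset.count_replicate, show (2 : ℕ) ≠ o by omega]
  rw [hνs, hk] at h
  rw [Nat.even_iff] at hme
  rcases Nat.le_one_iff_eq_zero_or_eq_one.1 hco with h0 | h0 <;> rw [h0] at h <;> omega

end Cfsg.Agent.S5995
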