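import Cfsg.Statements.S5998
import Cfsg.Agent.H47.Extra27Targets

set_option autoImplicit false
open scoped MatrixGroups
open Cfsg

namespace Cfsg.Agent.S5998

/-- Elements of prime order of PSL_3(p), p ≡ 1 (mod 3), and the normalizer of an extraspecial subgroup of order 27. Here `T = PSL_3(F)` for the field `F` with `p` elements, `p` a prime with `p ≡ 1 (mod 3)`; `R` is a non-abelian subgroup of GL_3(F) of order 27 and exponent 3 (an extraspecial group 3^{1+2}, acting absolutely irreducibly), and `H` is the subgroup of matrices of determinant 1 normalizing `R` — a subgroup of type 3^{1+2}.Sp₂(3) (maximality is not assumed). Ω is the set of cosets of `H` in `T`, so an element of `T` of prime order `r` (a matrix `x` of determinant 1 with `x^r` scalar, `x` not scalar) fixes a point of Ω exactly when some conjugate of `x` by a matrix of determinant 1 normalizes `R`. Let `r` be a prime dividing the index of `H`. Then every element of `T` of order `r` fixes a point of Ω if and only if `r = 2`,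 or `r = 3` and `p ≡ 1 (mod 9)`. -/
theorem result {F : Type*} [Field F] [Fintype F] {p : ℕ} [Fact p.Prime] [CharP F p] (hF : Fintype.card F = p) (hp3 : p % 3 = 1)
    (R : Subgroup (GL (Fin 3) F)) (hR : Nat.card R = 27) (hRe : Monoid.exponent R = 3) (hRna : ¬ IsMulCommutative R)
    (r : ℕ) [Fact r.Prime]
    (hΩ : r ∣ (Cfsg.Geo.subgroupNormalizer R).relIndex (Cfsg.Geo.specialLinear (Fin 3) F)) :
    (∀ x ∈ Cfsg.Geo.specialLinear (Fin 3) F, (∃ z : F, ((x ^ r : GL (Fin 3) F) : Matrix (Fin 3) (Fin 3) F) = z • (1 : Matrix (Fin 3) (Fin 3) F)) →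
      (∀ z : F, (x : Matrix (Fin 3) (Fin 3) F) ≠ z • (1 : Matrix (Fin 3) (Fin 3) F)) →
      ∃ g ∈ Cfsg.Geo.specialLinear (Fin 3) F, g⁻¹ * x * g ∈ Cfsg.Geo.subgroupNormalizer R) ↔ (r = 2 ∨ (r = 3 ∧ p % 9 = 1)) := by
  classical
  have hpr : p.Prime := Fact.out
  have hr : r.Prime := Fact.out
  have h2 : (2 : F) ≠ 0 := fun h => by
    have : p ∣ 2 := (CharP.cast_eq_zero_iff F p 2).mp (by exact_mod_cast h)
    have := Nat.le_of_dvd (by norm_num) this; have := hpr.two_le; omega
  have h3 : (3 : F) ≠ 0 := fun h => by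
    have : p ∣ 3 := (CharP.cast_eq_zero_iff F p 3).mp (by exact_mod_cast h)
    have := Nat.le_of_dvd (by norm_num) this; have := hpr.two_le; omega
  have h3F : 3 ∣ Fintype.card F - 1 := by rw [hF]; omega
  obtain ⟨r0, hr0⟩ := H47.exists_w27 h3F
  obtain ⟨h, w, hw, hw1, hRh⟩ := H47.exists_extra27 h3 hr0 hR hRe hRna
  have hfix : ∀ (x n : GL (Fin 3) F), n ∈ Cfsg.Geo.subgroupNormalizer (H47.extra27 w) →
      (∀ t, H47.tm27 t * n = n * H47.tm27 t) → IsConj x n →
      ∃ g ∈ Cfsg.Geo.specialLinear (Fin 3) F, g⁻¹ * x * g ∈ Cfsg.Geo.subgroupNormalizer R := by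
    intro x n hn ht hxn
    obtain ⟨c, hc⟩ := isConj_iff.mp hxn
    obtain ⟨g, hg, hg'⟩ := H47.sl_conj_of_target hRh ⊤ (fun t _ => Subgroup.mem_top _) hn ht
      (x := x) (u := h * c) (Subgroup.mem_top _) (by rw [← hc]; group)
    exact ⟨g, hg.2, hg'⟩
  constructor
  · intro hall
    rcases eq_or_ne r 2 with h2' | hr2
    · exact Or.inl h2'
    right
    rcases eq_or_ne r 3 with rfl | hr3
    · refine ⟨rfl, ?_⟩
      by_contra h9
      have hle : R ≤ Cfsg.Geo.subgroupNormalizer R ⊓ Cfsg.Geo.specialLinear (Fin 3) F := by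
        refine le_inf Subgroup.le_normalizer ?_
        rw [hRh]
        exact H47.extra27_map_le_sl hw h
      have hmul := Subgroup.card_mul_index
        ((Cfsg.Geo.subgroupNormalizer R).subgroupOf (Cfsg.Geo.specialLinear (Fin 3) F))
      have hcN : Nat.card ((Cfsg.Geo.subgroupNormalizer R).subgroupOf (Cfsg.Geo.specialLinear (Fin 3) F))
          = Nat.card ↥(Cfsg.Geo.subgroupNormalizer R ⊓ Cfsg.Geo.specialLinear (Fin 3) F) :=
        by rw [← Subgroup.inf_subgroupOf_right]; exact Nat.card_congr (Subgroup.subgroupOfEquivOfLe inf_le_right).toEquiv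
      have h27 : 27 ∣ Nat.card ↥(Cfsg.Geo.subgroupNormalizer R ⊓ Cfsg.Geo.specialLinear (Fin 3) F) :=
        hR ▸ Subgroup.card_dvd_of_le hle
      have h81 : 81 ∣ Nat.card (Cfsg.Geo.specialLinear (Fin 3) F) := by
        rw [← hmul, hcN]
        exact Nat.mul_dvd_mul h27 hΩ
      have hsl : Nat.card (Cfsg.Geo.specialLinear (Fin 3) F) = Nat.card (Matrix.SpecialLinearGroup (Fin 3) F) :=
        (Nat.card_congr (H37.slEquivKerDet (Fin 3) F).toEquiv).symm
      have hcard := H37.card_SL_fin (F := F) 3 (by norm_num)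
      rw [Fin.prod_univ_three, Nat.card_eq_fintype_card (α := F), hF, ← hsl] at hcard
      obtain ⟨k, hk⟩ := h81
      rw [hk] at hcard
      exact H47.not_81_sl p k hp3 h9 (by simpa using hcard)
    · exfalso
      have h5 : 5 ≤ r := by
        have := hr.two_le
        by_contra hh
        interval_cases r <;> first | omega | (exact absurd hr (by decide))
      have hdvd : r ∣ Nat.card (Cfsg.Geo.specialLinear (Fin 3) F) := hΩ.trans (Subgroup.index_dvd_card _)
      obtain ⟨x, hx, hxr, hns, hno⟩ := H47.derangement27 hR hw hw1 hRh h5 le_rfl hdvd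
      obtain ⟨g, -, hg⟩ := hall x hx ⟨1, hxr⟩ hns
      exact hno g hg
  · intro hcase x hx hz hns
    obtain ⟨z, hz⟩ := hz
    have hdet : (x : Matrix (Fin 3) (Fin 3) F).det = 1 := congrArg Units.val hx
    have hz3 : z ^ 3 = 1 := by
      have := congrArg Matrix.det hz
      rw [Units.val_pow_eq_pow_val, Matrix.det_pow, hdet, one_pow, Matrix.det_smul, Matrix.det_one, mul_one,
        Fintype.card_fin] at this
      exact this.symm
    have hz0 : z ≠ 0 := fun h0 => by rw [h0] at hz3; norm_num at hz3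
    rcases hcase with rfl | ⟨rfl, hp9⟩
    · let c : Fˣ := (Units.mk0 z hz0) ^ 2
      have hconj := H47.invol_form27 h2 (x := x) (c := c)
        (by rw [hz, ← Units.val_pow_eq_pow_val]; congr 1; simp [c, ← pow_mul, pow_succ, pow_two] at hz3 ⊢;
            linear_combination (-z) * hz3)
        (by rw [hdet]; simp [c, ← pow_mul]; linear_combination (-(z ^ 3 + 1)) * hz3) hns
      refine hfix x _ (mul_mem (H47.diag_normalize27 hw hw1 fun i => rfl) (H47.jm_normalize27 hw)) (fun t => ?_) hconj
      rw [← mul_assoc, ← H47.diagGL_const_comm c, mul_assoc, H47.tm27_comm_jm, ← mul_assoc]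
    · obtain ⟨c, hc, -⟩ := H47.exists_cube_root27 (F := F) (by rw [hF]; omega) (Units.mk0 z hz0) (Units.ext (by simpa using hz3))
      obtain ⟨d, hd, hd3⟩ := H47.diag_form27 h3F (x := x) (c := c)
        (by rw [hz, ← Units.val_pow_eq_pow_val, hc]; rfl)
      exact hfix x _ (H47.diag_normalize27 hw hw1 fun i => (hd3 i).trans (hd3 0).symm)
        (fun t => H47.tm27_comm_diag t d) hd

end Cfsg.Agent.S5998
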