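import Cfsg.Statements.S5999
import Cfsg.Agent.H47.Extra27Unitary

set_option autoImplicit false
open scoped MatrixGroups
open Cfsg

namespace Cfsg.Agent.S5999

/-- Elements of prime order of PSU_3(p), p ≡ 2 (mod 3), and the normalizer of an extraspecial subgroup of order 27. Here `T = PSU_3(p)` for a prime `p ≥ 5` with `p ≡ 2 (mod 3)`, realised through `SU_3(p)`, the matrices of determinant 1 over the field `F` with `p²` elements preserving the hermitian form `Σ uᵢvᵢ^p`; `R` is a non-abelian subgroup of order 27 and exponent 3 of the full unitary group of that form (an extraspecial group 3^{1+2}, acting absolutely irreducibly), and `H` is the subgroup of `SU_3(p)` normalizing `R` — a subgroup of type 3^{1+2}.Sp₂(3) (maximality is not assumed). Ω is the set of cosets of `H`, so an element of `T` of prime order `r` (`x ∈ SU_3(p)` with `x^r` scalar, `x` not scalar) fixes a point of Ω exactly when some `SU_3(p)`-conjugate of `x` normalizes `R`. Let `r` be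 a prime dividing the index of `H`. Then every element of `T` of order `r` fixes a point of Ω if and only if `r = 2`, or `r = 3` and `p ≡ 8 (mod 9)`. -/
theorem result {F : Type*} [Field F] [Fintype F] {p : ℕ} [Fact p.Prime] [CharP F p] (hF : Fintype.card F = p ^ 2) (hp : 5 ≤ p) (hp3 : p % 3 = 2)
    (R : Subgroup (GL (Fin 3) F)) (hRU : R ≤ Cfsg.GU 3 F p) (hR : Nat.card R = 27) (hRe : Monoid.exponent R = 3) (hRna : ¬ IsMulCommutative R)
    (r : ℕ) [Fact r.Prime]
    (hΩ : r ∣ (Cfsg.Geo.subgroupNormalizer R).relIndex (Cfsg.GU 3 F p ⊓ Cfsg.Geo.specialLinear (Fin 3) F)) :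
    (∀ x ∈ Cfsg.GU 3 F p ⊓ Cfsg.Geo.specialLinear (Fin 3) F, (∃ z : F, ((x ^ r : GL (Fin 3) F) : Matrix (Fin 3) (Fin 3) F) = z • (1 : Matrix (Fin 3) (Fin 3) F)) →
      (∀ z : F, (x : Matrix (Fin 3) (Fin 3) F) ≠ z • (1 : Matrix (Fin 3) (Fin 3) F)) →
      ∃ g ∈ Cfsg.GU 3 F p ⊓ Cfsg.Geo.specialLinear (Fin 3) F, g⁻¹ * x * g ∈ Cfsg.Geo.subgroupNormalizer R) ↔ (r = 2 ∨ (r = 3 ∧ p % 9 = 8)) := by
  classical
  have hpr : p.Prime := Fact.out
  have hr : r.Prime := Fact.out
  have h2 : (2 : F) ≠ 0 := fun h => by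
    have : p ∣ 2 := (CharP.cast_eq_zero_iff F p 2).mp (by exact_mod_cast h)
    have := Nat.le_of_dvd (by norm_num) this; have := hpr.two_le; omega
  have h3 : (3 : F) ≠ 0 := fun h => by
    have : p ∣ 3 := (CharP.cast_eq_zero_iff F p 3).mp (by exact_mod_cast h)
    have := Nat.le_of_dvd (by norm_num) this; have := hpr.two_le; omega
  have h3F : 3 ∣ Fintype.card F - 1 := by
    rw [hF, show p ^ 2 - 1 = (p + 1) * (p - 1) by simpa using Nat.sq_sub_sq p 1]
    exact Dvd.dvd.mul_right (by omega) _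
  obtain ⟨r0, hr0⟩ := H47.exists_w27 h3F
  obtain ⟨h0, w, hw, hw1, hRh0⟩ := H47.exists_extra27 h3 hr0 hR hRe hRna
  have h3q : 3 ∣ p + 1 := by omega
  obtain ⟨h, hhU, hRh⟩ := H47.exists_unitary_extra27 hF h3q hRU hw hw1 hRh0
  have hfix : ∀ (x n : GL (Fin 3) F), n ∈ Cfsg.Geo.subgroupNormalizer (H47.extra27 w) → n ∈ Cfsg.GU 3 F p →
      x ∈ Cfsg.GU 3 F p → (∀ t, H47.tm27 t * n = n * H47.tm27 t) → IsConj x n →
      ∃ g ∈ Cfsg.GU 3 F p ⊓ Cfsg.Geo.specialLinear (Fin 3) F, g⁻¹ * x * g ∈ Cfsg.Geo.subgroupNormalizer R := by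
    intro x n hn hnU hxU ht hxn
    obtain ⟨c, hcU, hc⟩ := H51.gu_conj_of_gl_conj hF hxU hnU hxn
    refine H47.sl_conj_of_target hRh (Cfsg.GU 3 F p) ?_ hn ht
      (x := x) (u := h * c) (mul_mem hhU hcU) (by rw [← hc]; group)
    rintro t ⟨u, hu, hut⟩
    refine mul_mem (mul_mem hhU ?_) (inv_mem hhU)
    have hnorm := H51.det_norm_GU hF ((H51.mem_GU_iff hF _).mp hu)
    rw [hut, ← pow_succ] at hnorm
    refine H47.diag_mem_GU27 hF fun i => ?_
    have ht1 : t ^ (p + 1) = 1 := Units.ext (by rw [Units.val_pow_eq_pow_val, hnorm, Units.val_one])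
    fin_cases i <;> simp [ht1]
  constructor
  · intro hall
    rcases eq_or_ne r 2 with h2' | hr2
    · exact Or.inl h2'
    right
    rcases eq_or_ne r 3 with rfl | hr3
    · refine ⟨rfl, ?_⟩
      by_contra h9
      have hle : R ≤ Cfsg.Geo.subgroupNormalizer R ⊓ (Cfsg.GU 3 F p ⊓ Cfsg.Geo.specialLinear (Fin 3) F) := by
        refine le_inf Subgroup.le_normalizer (le_inf hRU ?_)
        rw [hRh]
        exact H47.extra27_map_le_sl hw h
      have hmul := Subgroup.card_mul_index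
        ((Cfsg.Geo.subgroupNormalizer R).subgroupOf (Cfsg.GU 3 F p ⊓ Cfsg.Geo.specialLinear (Fin 3) F))
      have hcN : Nat.card ((Cfsg.Geo.subgroupNormalizer R).subgroupOf (Cfsg.GU 3 F p ⊓ Cfsg.Geo.specialLinear (Fin 3) F))
          = Nat.card ↥(Cfsg.Geo.subgroupNormalizer R ⊓ (Cfsg.GU 3 F p ⊓ Cfsg.Geo.specialLinear (Fin 3) F)) := by
        rw [← Subgroup.inf_subgroupOf_right]; exact Nat.card_congr (Subgroup.subgroupOfEquivOfLe inf_le_right).toEquiv
      have h27 : 27 ∣ Nat.card ↥(Cfsg.Geo.subgroupNormalizer R ⊓ (Cfsg.GU 3 F p ⊓ Cfsg.Geo.specialLinear (Fin 3) F)) :=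
        hR ▸ Subgroup.card_dvd_of_le hle
      have h81 : 81 ∣ Nat.card ↥(Cfsg.GU 3 F p ⊓ Cfsg.Geo.specialLinear (Fin 3) F) := by
        rw [← hmul, hcN]
        exact Nat.mul_dvd_mul h27 hΩ
      have hcard := (H47.card_gu_inf_sl hF (n := 3) (by norm_num)).trans (H50.card_GU hF)
      obtain ⟨k, hk⟩ := h81
      rw [hk] at hcard
      refine H47.not_81_su p k hp3 h9 (hcard.trans ?_)
      simp [Finset.prod_range_succ]
    · exfalso
      have h5 : 5 ≤ r := by
        have := hr.two_le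
        by_contra hh
        interval_cases r <;> first | omega | (exact absurd hr (by decide))
      have hdvd : r ∣ Nat.card ↥(Cfsg.GU 3 F p ⊓ Cfsg.Geo.specialLinear (Fin 3) F) := hΩ.trans (Subgroup.index_dvd_card _)
      obtain ⟨x, hx, hxr, hns, hno⟩ := H47.derangement27 hR hw hw1 hRh h5 inf_le_right hdvd
      obtain ⟨g, -, hg⟩ := hall x hx ⟨1, hxr⟩ hns
      exact hno g hg
  · intro hcase x hx hz hns
    obtain ⟨z, hz⟩ := hz
    have hdet : (x : Matrix (Fin 3) (Fin 3) F).det = 1 := congrArg Units.val hx.2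
    have hz3 : z ^ 3 = 1 := by
      have := congrArg Matrix.det hz
      rw [Units.val_pow_eq_pow_val, Matrix.det_pow, hdet, one_pow, Matrix.det_smul, Matrix.det_one, mul_one,
        Fintype.card_fin] at this
      exact this.symm
    have hz0 : z ≠ 0 := fun h0 => by rw [h0] at hz3; norm_num at hz3
    rcases hcase with rfl | ⟨rfl, hp9⟩
    · let c : Fˣ := (Units.mk0 z hz0) ^ 2
      have hconj := H47.invol_form27 h2 (x := x) (c := c)
        (by rw [hz, ← Units.val_pow_eq_pow_val]; congr 1; simp [c, ← pow_mul, pow_succ, pow_two] at hz3 ⊢;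
            linear_combination (-z) * hz3)
        (by rw [hdet]; simp [c, ← pow_mul]; linear_combination (-(z ^ 3 + 1)) * hz3) hns
      have hcU : ∀ _i : Fin 3, c ^ (p + 1) = 1 := fun _ => by
        obtain ⟨m, hm⟩ := h3q
        have hzu : Units.mk0 z hz0 ^ 3 = 1 := Units.ext (by simpa using hz3)
        rw [← pow_mul, hm, show 2 * (3 * m) = 3 * (2 * m) by ring, pow_mul, hzu, one_pow]
      refine hfix x _ (mul_mem (H47.diag_normalize27 hw hw1 fun i => rfl) (H47.jm_normalize27 hw))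
        (mul_mem (H47.diag_mem_GU27 hF hcU) (H47.jm27_mem_GU hF)) hx.1 (fun t => ?_) hconj
      rw [← mul_assoc, ← H47.diagGL_const_comm c, mul_assoc, H47.tm27_comm_jm, ← mul_assoc]
    · have h9F : 9 ∣ Fintype.card F - 1 := by
        rw [hF, show p ^ 2 - 1 = (p + 1) * (p - 1) by simpa using Nat.sq_sub_sq p 1]
        exact Dvd.dvd.mul_right (by omega) _
      obtain ⟨c, hc, hc9⟩ := H47.exists_cube_root27 (F := F) h9F (Units.mk0 z hz0) (Units.ext (by simpa using hz3))
      obtain ⟨d, hd, hd3⟩ := H47.diag_form27 h3F (x := x) (c := c)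
        (by rw [hz, ← Units.val_pow_eq_pow_val, hc]; rfl)
      have hdU : ∀ i, d i ^ (p + 1) = 1 := fun i => by
        obtain ⟨m, hm⟩ : 9 ∣ p + 1 := by omega
        have hd9 : d i ^ 9 = 1 := by rw [show (9 : ℕ) = 3 * 3 from rfl, pow_mul, hd3 i, ← pow_mul]; exact hc9
        rw [hm, pow_mul, hd9, one_pow]
      exact hfix x _ (H47.diag_normalize27 hw hw1 fun i => (hd3 i).trans (hd3 0).symm)
        (H47.diag_mem_GU27 hF hdU) hx.1
        (fun t => H47.tm27_comm_diag t d) hd

end Cfsg.Agent.S5999
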