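import Cfsg.Statements.S6000
import Cfsg.Agent.H47.SymLinear

set_option autoImplicit false
open scoped MatrixGroups
open Cfsg

namespace Cfsg.Agent.S6000

/-- Elements of prime order of PSL_4(p), p ≡ 1 (mod 4), and the normalizer of a 2-group of symplectic type of order 2⁶. Here `T = PSL_4(F)` for the field `F` with `p` elements, `p` a prime with `p ≡ 1 (mod 4)`; `R` is an absolutely irreducible subgroup of GL_4(F) of order 2⁶ that is a 2-group of symplectic type of exponent 4 with centre of order 4 (the central product of the scalars of order 4 with an extraspecial group 2^{1+4}), and `H` is the subgroup of matrices of determinant 1 normalizing `R` — a subgroup of type 2⁴.Sp₄(2) (maximality is not assumed). Ω is the set of cosets of `H` in `T`, so an element of `T` of prime order `r` (a matrix `x` of determinant 1 with `x^r` scalar, `x` not scalar) fixes a point of Ω exactly when some conjugate of `x` by a matrix of determinant 1 normalizes `R`. Let `r` be a prime dividing the index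 of `H`. Then every element of `T` of order `r` fixes a point of Ω if and only if `r = 2`, or `r = 3` and `p ≡ 2 (mod 3)`, or `r = 5` and `p ≡ ±2 (mod 5)` (`p` has multiplicative order 4 modulo 5). -/
theorem result {F : Type*} [Field F] [Fintype F] {p : ℕ} [Fact p.Prime] [CharP F p] (hF : Fintype.card F = p) (hp4 : p % 4 = 1)
    (R : Subgroup (GL (Fin 4) F)) (hR : Cfsg.Geo.IsLinearSymplecticTypeData 2 R) (hR6 : Nat.card R = 2 ^ 6)
    (r : ℕ) [Fact r.Prime]
    (hΩ : r ∣ (Cfsg.Geo.subgroupNormalizer R).relIndex (Cfsg.Geo.specialLinear (Fin 4) F)) :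
    (∀ x ∈ Cfsg.Geo.specialLinear (Fin 4) F, (∃ z : F, ((x ^ r : GL (Fin 4) F) : Matrix (Fin 4) (Fin 4) F) = z • (1 : Matrix (Fin 4) (Fin 4) F)) →
      (∀ z : F, (x : Matrix (Fin 4) (Fin 4) F) ≠ z • (1 : Matrix (Fin 4) (Fin 4) F)) →
      ∃ g ∈ Cfsg.Geo.specialLinear (Fin 4) F, g⁻¹ * x * g ∈ Cfsg.Geo.subgroupNormalizer R) ↔ (r = 2 ∨ (r = 3 ∧ p % 3 = 2) ∨ (r = 5 ∧ orderOf (p : ZMod 5) = 4)) := by
  classical
  have hpr : p.Prime := Fact.out
  have hr : r.Prime := Fact.out
  have hp5 : 5 ≤ p := by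
    by_contra h
    have := hpr.two_le
    interval_cases p <;> omega
  have hcast : ∀ {m : ℕ}, (m : F) = 0 → p ∣ m := fun h => (CharP.cast_eq_zero_iff F p _).mp h
  have h2 : (2 : F) ≠ 0 := fun h => by
    have := Nat.le_of_dvd (by norm_num) (hcast (m := 2) (by exact_mod_cast h)); omega
  have h3 : (3 : F) ≠ 0 := fun h => by
    have := Nat.le_of_dvd (by norm_num) (hcast (m := 3) (by exact_mod_cast h)); omega
  have hZ : Nat.card (Subgroup.center R) = 4 := by
    obtain ⟨q, e, -, -, hcase⟩ := hR.field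
    rcases hcase with ⟨h, -⟩ | ⟨-, -, h, -⟩ | ⟨-, -, h, -⟩
    · exact absurd h (by decide)
    · exact h
    · simp at h
  have S : H47.Sym4 R 4 := H47.sym4_of_data (by simp) h2 hR.symplecticType hR.absIrred (Or.inr rfl) hR6 hZ
  obtain ⟨I, hI, c, hIc, hc⟩ := S.exists_i rfl
  obtain ⟨Γ, hΓ⟩ := S.exists_gam hI hIc hc
  constructor
  · intro hall
    rcases eq_or_ne r 2 with h2' | hr2
    · exact Or.inl h2'
    right
    have hder : ∀ x : GL (Fin 4) F, (x : Matrix (Fin 4) (Fin 4) F).det = 1 → x ^ r = 1 →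
        (∀ z : F, (x : Matrix (Fin 4) (Fin 4) F) ≠ z • 1) → ∃ g, g⁻¹ * x * g ∈ Cfsg.Geo.subgroupNormalizer R :=
      fun x hd hxr hns => by
        obtain ⟨g, -, hg⟩ := hall x (H47.mem_sl_iff.mpr hd) ⟨1, by rw [hxr, one_smul, Units.val_one]⟩ hns
        exact ⟨g, hg⟩
    by_cases hr3 : r = 3
    · subst hr3
      refine Or.inl ⟨rfl, ?_⟩
      by_contra h32
      have h31 : p % 3 = 1 := by
        rcases (show p % 3 = 0 ∨ p % 3 = 1 ∨ p % 3 = 2 by omega) with h | h | h
        · exact absurd ((Nat.prime_dvd_prime_iff_eq Nat.prime_three hpr).mp (Nat.dvd_of_mod_eq_zero h)) (by omega)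
        · exact h
        · exact absurd h h32
      obtain ⟨w, hw, -, -⟩ := H47.exists_omega (F := F) (by rw [hF]; omega) h3
      obtain ⟨x, -, hxd, hx3, hxt, hxns⟩ := H47.exists_diag_three hw h3
      obtain ⟨g, hg⟩ := hder x hxd hx3 hxns
      have h := (S.conj_cases (r := 3) hg (d := 1) (by rw [hx3, one_smul, Units.val_one]) hxns).1 rfl
      rw [hxt] at h
      have h7 := H47.seven_ne (F := F) (p := p) (by omega) (by omega)
      exact h.elim h7.1 h7.2
    by_cases hr5 : r = 5
    · subst hr5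
      refine Or.inr ⟨rfl, H47.orderOf_mod_five.mpr ?_⟩
      by_contra h23
      rcases (show p % 5 = 0 ∨ p % 5 = 1 ∨ p % 5 = 4 by omega) with h | h | h
      · obtain rfl : p = 5 := ((Nat.prime_dvd_prime_iff_eq (by norm_num) hpr).mp (Nat.dvd_of_mod_eq_zero h)).symm
        let u : Fin 4 → F := Pi.single 0 1
        let v : Fin 4 → F := Pi.single 1 1
        set N : Matrix (Fin 4) (Fin 4) F := Matrix.vecMulVec u v with hN
        have hvu : v ⬝ᵥ u = 0 := by simp [u, v]
        have hN2 : N * N = 0 := by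
          rw [hN, Matrix.vecMulVec_mul_vecMulVec, hvu, zero_smul, Matrix.vecMulVec_zero]
        have hd : (1 + N).det = 1 := by
          rw [hN, Matrix.vecMulVec_eq Unit, Matrix.det_one_add_replicateCol_mul_replicateRow, hvu,
            add_zero]
        let x : GL (Fin 4) F := Matrix.GeneralLinearGroup.mkOfDetNeZero (1 + N) (by rw [hd]; exact one_ne_zero)
        have hx1 : (x : Matrix (Fin 4) (Fin 4) F) ≠ 1 := fun h => by
          have := congrFun (congrFun h 0) 1
          simp [x, hN, u, v, Matrix.vecMulVec_apply] at this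
        have hx5 : x ^ 5 = 1 := Units.ext (by
          haveI : CharP (Matrix (Fin 4) (Fin 4) F) 5 := Matrix.charP 5
          rw [Units.val_pow_eq_pow_val, Units.val_one]
          show (1 + N) ^ 5 = 1
          rw [add_pow_char_of_commute 5 (Commute.one_left _), one_pow,
            show N ^ 5 = 0 from pow_eq_zero_of_le (show 2 ≤ 5 by norm_num) (by rw [pow_two]; exact hN2), add_zero])
        have hxns : ∀ z : F, (x : Matrix (Fin 4) (Fin 4) F) ≠ z • 1 := fun z hz => by
          have := congrFun (congrFun hz 0) 1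
          simp [x, hN, u, v, Matrix.vecMulVec_apply] at this
        obtain ⟨g, hg⟩ := hder x hd hx5 hxns
        exact S.transvection_der hg hvu rfl hx1
      all_goals
        obtain ⟨η, hη, -, hη2⟩ := H47.exists_eta (F := F) (p := p) (by omega) (by omega)
        obtain ⟨x, -, -, hxd, hxt, hxt', hx5, hxns⟩ :=
          H47.exists_plane_elem (a := η) (b := (-1 : F)) (c := 1) (d := 0) (η := η) (by ring) (by ring)
        obtain ⟨g, hg⟩ := hder x hxd (hx5 hη) (hxns hη2)
        have h := (S.conj_cases (r := 5) hg (d := 1) (by rw [hx5 hη, one_smul, Units.val_one]) (hxns hη2)).2.1 rfl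
        rw [hxt, hxt'] at h
        exact H47.trace_sq_ne_five (p := p) (by omega) hη h
    exfalso
    have h7 : 7 ≤ r := by
      have := hr.two_le
      by_contra hh
      interval_cases r <;> first | omega | exact absurd hr (by decide)
    have hdvd : r ∣ Nat.card (Cfsg.Geo.specialLinear (Fin 4) F) := hΩ.trans (Subgroup.index_dvd_card _)
    obtain ⟨x, hx⟩ := exists_prime_orderOf_dvd_card' (G := Cfsg.Geo.specialLinear (Fin 4) F) r hdvd
    have hxr : (x : GL (Fin 4) F) ^ r = 1 := by
      have := congrArg Subtype.val (pow_orderOf_eq_one x); rwa [hx] at this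
    have hd : ((x : GL (Fin 4) F) : Matrix (Fin 4) (Fin 4) F).det = 1 := congrArg Units.val x.2
    have hns : ∀ z : F, ((x : GL (Fin 4) F) : Matrix (Fin 4) (Fin 4) F) ≠ z • 1 := by
      intro z hz
      rw [hz, Matrix.det_smul, Matrix.det_one, mul_one, Fintype.card_fin] at hd
      have hp' := congrArg Units.val hxr
      rw [Units.val_pow_eq_pow_val, hz, smul_pow, one_pow, Units.val_one] at hp'
      have hzr : z ^ r = 1 := by simpa using congrFun (congrFun hp' 0) 0
      have h1 : z = 1 := orderOf_eq_one_iff.mp (Nat.eq_one_of_dvd_coprimes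
        (show Nat.Coprime 4 r from Nat.Coprime.pow_left 2 ((Nat.coprime_primes Nat.prime_two hr).mpr (by omega)))
        (orderOf_dvd_of_pow_eq_one hd) (orderOf_dvd_of_pow_eq_one hzr))
      have : x = 1 := Subtype.ext (Units.ext (by rw [hz, h1, one_smul]; rfl))
      rw [this, orderOf_one] at hx; omega
    obtain ⟨g, hg⟩ := hder x hd hxr hns
    have := (S.conj_cases (r := r) hg (d := 1) (by rw [hxr, one_smul, Units.val_one]) hns).2.2
    omega
  · intro hcase x hx hz hns
    obtain ⟨z, hz⟩ := hz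
    have hdet : (x : Matrix (Fin 4) (Fin 4) F).det = 1 := congrArg Units.val hx
    have hz4 : z ^ 4 = 1 := by
      have := congrArg Matrix.det hz
      rw [Units.val_pow_eq_pow_val, Matrix.det_pow, hdet, one_pow, Matrix.det_smul, Matrix.det_one, mul_one,
        Fintype.card_fin] at this
      exact this.symm
    have hz0 : z ≠ 0 := fun h0 => by rw [h0] at hz4; norm_num at hz4
    by_cases hr2 : r = 2
    · subst hr2
      have hxx : (x : Matrix (Fin 4) (Fin 4) F) * x = z • 1 := by rw [← pow_two, ← Units.val_pow_eq_pow_val, hz]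
      obtain ⟨y, hyN, hyy, hyd, hyt, -⟩ := S.target_two hΓ hI hIc hc hxx hdet hz4 hns
      have h8 : ((8 : ℕ) : F) ≠ 0 := fun h => by
        have := Nat.le_of_dvd (by norm_num) ((hpr.dvd_of_dvd_pow (n := 3) (show p ∣ 2 ^ 3 from hcast h)))
        omega
      have hpow : ∀ a : GL (Fin 4) F, (a : Matrix (Fin 4) (Fin 4) F) * a = z • 1 → a ^ 8 = 1 := fun a ha =>
        Units.ext (by
          rw [Units.val_pow_eq_pow_val, show (8 : ℕ) = 2 * 4 from rfl, pow_mul, pow_two, ha, smul_pow, one_pow, hz4,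
            one_smul, Units.val_one])
      obtain ⟨g, hg, hgy⟩ := H47.sl_conj_charpoly (by norm_num) h8 (hpow x hxx) (hpow y hyy)
        (H47.charpoly_square h2 hz0 hxx hyy hyt.symm (by rw [hdet, hyd]))
      exact ⟨g, hg, hgy ▸ hyN⟩
    have hrr : (r = 3 ∧ p % 3 = 2) ∨ (r = 5 ∧ (p % 5 = 2 ∨ p % 5 = 3)) := by
      rcases hcase with h | h | ⟨h, h'⟩
      · exact absurd h hr2
      · exact Or.inl h
      · exact Or.inr ⟨h, H47.orderOf_mod_five.mp h'⟩
    have hrp : ¬ r ∣ p := fun h => by
      have := (Nat.prime_dvd_prime_iff_eq hr hpr).mp h; omega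
    obtain ⟨E, _, _, _, -, hEc⟩ := H47.exists_extension (F := F) (r - 1) (by have := hr.two_le; omega)
    haveI : Fintype E := Fintype.ofFinite E
    rw [Nat.card_eq_fintype_card, hF] at hEc
    have hE : r ∣ Fintype.card E - 1 := hEc ▸ H47.dvd_pow_pred_sub_one hrp
    have hgood : ∀ a : GL (Fin 4) F, H47.GoodExp E r p a := fun a P f h => H47.roots_frob hF h
    have hrF : ((r : ℕ) : F) ≠ 0 := fun h => by
      have := (Nat.prime_dvd_prime_iff_eq hpr hr).mp (hcast h); omega
    rcases hrr with ⟨rfl, h32⟩ | ⟨rfl, h5⟩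
    · obtain ⟨K, hK, hx3, hx1, hxd⟩ := H47.scalar_split (μ := z ^ 3)
        (by rw [← pow_mul]; linear_combination (z * (z ^ 4 + 1)) * hz4) (pow_ne_zero 3 hz0) hz hns
      have hxd1 : ((K⁻¹ * x : GL (Fin 4) F) : Matrix (Fin 4) (Fin 4) F).det = 1 := by
        rw [hxd, hdet, Fintype.card_fin, ← pow_mul, show 3 * 4 = 4 * 3 from rfl, pow_mul, hz4, one_pow, div_one]
      obtain ⟨A, B, hAN, hBN, hA3, hB3, hAd, hBd, hAt, hBt⟩ := S.target_three hΓ hI hIc hc
      obtain ⟨y, hyN, hy3, hyt⟩ : ∃ y : GL (Fin 4) F, y ∈ Cfsg.Geo.subgroupNormalizer R ∧ y ^ 3 = 1 ∧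
          ((K⁻¹ * x : GL (Fin 4) F) : Matrix (Fin 4) (Fin 4) F).trace = (y : Matrix (Fin 4) (Fin 4) F).trace := by
        rcases (H47.charpoly_three h2 h3 h32 hE hx3 hx3 (hgood _) (hgood _)).1 with ⟨-, h⟩ | h | h
        · exact absurd h hx1
        · exact ⟨B, hBN, hB3, h.trans hBt.symm⟩
        · exact ⟨A, hAN, hA3, h.trans hAt.symm⟩
      obtain ⟨g, hg, hgy⟩ := H47.sl_conj_charpoly (by norm_num) hrF hx3 hy3
        ((H47.charpoly_three h2 h3 h32 hE hx3 hy3 (hgood _) (hgood _)).2 hyt).symm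
      exact H47.fix_of_scalar hK hg (hgy ▸ hyN)
    · obtain ⟨K, hK, hx5, hx1, hxd⟩ := H47.scalar_split (μ := z) (by linear_combination z * hz4) hz0 hz hns
      obtain ⟨y, hyN, hy5, hy1, hyd⟩ := S.target_five hΓ (by
        rw [hF]
        exact ((Nat.Prime.coprime_iff_not_dvd (by norm_num : Nat.Prime 5)).mpr (by omega)).symm)
      obtain ⟨g, hg, hgy⟩ := H47.sl_conj_charpoly (by norm_num) hrF hx5 hy5
        (H47.charpoly_five h5 hE hy5 hx5 (hgood _) (hgood _) hy1 hx1)
      exact H47.fix_of_scalar hK hg (hgy ▸ hyN)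

end Cfsg.Agent.S6000
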