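import Cfsg.Statements.S6001
import Cfsg.Agent.H47.SymUnitary

set_option autoImplicit false
open scoped MatrixGroups
open Cfsg

namespace Cfsg.Agent.S6001

/-- Elements of prime order of PSU_4(p), p ≡ 3 (mod 4), and the normalizer of a 2-group of symplectic type of order 2⁶. Here `T = PSU_4(p)` for a prime `p ≡ 3 (mod 4)`, realised through `SU_4(p)`, the matrices of determinant 1 over the field `F` with `p²` elements preserving the hermitian form `f = Σ uᵢvᵢ^p`; `R` is an absolutely irreducible subgroup of the full unitary group of `f` of order 2⁶ that is a 2-group of symplectic type of exponent 4 with centre of order 4, and `H` is the subgroup of `SU_4(p)` normalizing `R` — a subgroup of type 2⁴.Sp₄(2) (maximality is not assumed). Ω is the set of cosets of `H`, so an element of `T` of prime order `r` (`x ∈ SU_4(p)` with `x^r` scalar, `x` not scalar) fixes a point of Ω exactly when some `SU_4(p)`-conjugate of `x` normalizes `R`. Let `r` be a prime dividing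 the index of `H`. Then every element of `T` of order `r` fixes a point of Ω if and only if `r = 2`, or `r = 3` and `p ≡ 1 (mod 3)`, or `r = 5` and `p ≡ ±2 (mod 5)` (`p` has multiplicative order 4 modulo 5). -/
theorem result {F : Type*} [Field F] [Fintype F] {p : ℕ} [Fact p.Prime] [CharP F p] (hF : Fintype.card F = p ^ 2) (hp4 : p % 4 = 3)
    (R : Subgroup (GL (Fin 4) F)) (hRs : Cfsg.Geo.IsSymplecticTypeGroup 2 R) (hRi : Cfsg.Geo.ActsAbsolutelyIrreducibly (Cfsg.Geo.matrixSet R))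
    (hRU : R ≤ Cfsg.GU 4 F p) (hR6 : Nat.card R = 2 ^ 6) (hRZ : Nat.card (Subgroup.center R) = 4)
    (r : ℕ) [Fact r.Prime]
    (hΩ : r ∣ (Cfsg.Geo.subgroupNormalizer R).relIndex (Cfsg.GU 4 F p ⊓ Cfsg.Geo.specialLinear (Fin 4) F)) :
    (∀ x ∈ Cfsg.GU 4 F p ⊓ Cfsg.Geo.specialLinear (Fin 4) F, (∃ z : F, ((x ^ r : GL (Fin 4) F) : Matrix (Fin 4) (Fin 4) F) = z • (1 : Matrix (Fin 4) (Fin 4) F)) →
      (∀ z : F, (x : Matrix (Fin 4) (Fin 4) F) ≠ z • (1 : Matrix (Fin 4) (Fin 4) F)) →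
      ∃ g ∈ Cfsg.GU 4 F p ⊓ Cfsg.Geo.specialLinear (Fin 4) F, g⁻¹ * x * g ∈ Cfsg.Geo.subgroupNormalizer R) ↔ (r = 2 ∨ (r = 3 ∧ p % 3 = 1) ∨ (r = 5 ∧ orderOf (p : ZMod 5) = 4)) := by
  classical
  have hpr : p.Prime := Fact.out
  have hr : r.Prime := Fact.out
  have hp3 : 3 ≤ p := by
    have := hpr.two_le; omega
  have hcast : ∀ {m : ℕ}, (m : F) = 0 → p ∣ m := fun h => (CharP.cast_eq_zero_iff F p _).mp h
  have h2 : (2 : F) ≠ 0 := fun h => by
    have := Nat.le_of_dvd (by norm_num) (hcast (m := 2) (by exact_mod_cast h)); omega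
  have S : H47.Sym4 R 4 := H47.sym4_of_data (by simp) h2 hRs hRi (Or.inr rfl) hR6 hRZ
  obtain ⟨I, hI, c, hIc, hc⟩ := S.exists_i rfl
  obtain ⟨Γ, hΓ⟩ := S.exists_gam hI hIc hc
  have hsq : p ^ 2 - 1 = (p + 1) * (p - 1) := by simpa using Nat.sq_sub_sq p 1
  constructor
  · intro hall
    rcases eq_or_ne r 2 with h2' | hr2
    · exact Or.inl h2'
    right
    have hder : ∀ x : GL (Fin 4) F, x ∈ Cfsg.GU 4 F p → (x : Matrix (Fin 4) (Fin 4) F).det = 1 → x ^ r = 1 →
        (∀ z : F, (x : Matrix (Fin 4) (Fin 4) F) ≠ z • 1) → ∃ g, g⁻¹ * x * g ∈ Cfsg.Geo.subgroupNormalizer R :=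
      fun x hxU hd hxr hns => by
        obtain ⟨g, -, hg⟩ := hall x (Subgroup.mem_inf.mpr ⟨hxU, H47.mem_sl_iff.mpr hd⟩)
          ⟨1, by rw [hxr, one_smul, Units.val_one]⟩ hns
        exact ⟨g, hg⟩
    by_cases hr3 : r = 3
    · subst hr3
      refine Or.inl ⟨rfl, ?_⟩
      by_contra h31
      rcases (show p % 3 = 0 ∨ p % 3 = 2 by omega) with h | h
      · obtain rfl : p = 3 := ((Nat.prime_dvd_prime_iff_eq Nat.prime_three hpr).mp (Nat.dvd_of_mod_eq_zero h)).symm
        obtain ⟨x, hxU, u, v, hvu, hxv, hxd, hx3, hxns⟩ := H47.exists_gu_transvection hF (p := 3)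
        obtain ⟨g, hg⟩ := hder x hxU hxd hx3 hxns
        exact S.transvection_der hg hvu hxv (fun h => hxns 1 (by rw [h, one_smul]))
      · have h3 : (3 : F) ≠ 0 := fun h0 => by
          have := (Nat.prime_dvd_prime_iff_eq hpr Nat.prime_three).mp (hcast (m := 3) (by exact_mod_cast h0)); omega
        obtain ⟨w, hw, hw3, -⟩ := H47.exists_omega (F := F)
          (by rw [hF, hsq]; exact Dvd.dvd.mul_right (by omega) _) h3
        obtain ⟨x, hxv, hxd, hx3, hxt, hxns⟩ := H47.exists_diag_three hw h3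
        have hwn : w ^ p * w = 1 := by
          obtain ⟨m, hm⟩ : 3 ∣ p + 1 := by omega
          rw [← pow_succ, hm, pow_mul, hw3, one_pow]
        have hxU : x ∈ Cfsg.GU 4 F p := by
          rw [H51.mem_GU_iff hF, hxv]
          ext i j
          fin_cases i <;> fin_cases j <;>
            simp [Matrix.mul_apply, Fin.sum_univ_four, Matrix.diagonal, zero_pow hpr.ne_zero, hwn]
        obtain ⟨g, hg⟩ := hder x hxU hxd hx3 hxns
        have h' := (S.conj_cases (r := 3) hg (d := 1) (by rw [hx3, one_smul, Units.val_one]) hxns).1 rfl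
        rw [hxt] at h'
        have h7 := H47.seven_ne (F := F) (p := p) (by omega) (by omega)
        exact h'.elim h7.1 h7.2
    by_cases hr5 : r = 5
    · subst hr5
      refine Or.inr ⟨rfl, H47.orderOf_mod_five.mpr ?_⟩
      by_contra h23
      have h14 : p % 5 = 1 ∨ p % 5 = 4 := by
        rcases (show p % 5 = 0 ∨ p % 5 = 1 ∨ p % 5 = 4 by omega) with h | h | h
        · have := (Nat.prime_dvd_prime_iff_eq (by norm_num) hpr).mp (Nat.dvd_of_mod_eq_zero h); omega
        · exact Or.inl h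
        · exact Or.inr h
      obtain ⟨η, hη, hηp, hη2⟩ := H47.exists_eta (F := F) (p := p) (by omega) h14
      have h2p : (2 : F) ^ p = 2 := by
        rw [show (2 : F) = 1 + 1 by norm_num, H51.add_pow_q hF, one_pow]
      have hap : (η / 2) ^ p = η / 2 := by rw [div_pow, hηp, h2p]
      obtain ⟨b, hb⟩ := H50.exists_norm_eq hF (c := 1 - η / 2 * (η / 2))
        (by rw [H51.sub_pow_q hF, one_pow, mul_pow, hap])
      obtain ⟨x, hxv, -, hxd, hxt, hxt', hx5, hxns⟩ :=
        H47.exists_plane_elem (a := η / 2) (b := b) (c := -(b ^ p)) (d := η / 2) (η := η) (by field_simp; ring)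
          (by rw [mul_neg, ← pow_succ', hb]; ring)
      have hxU : x ∈ Cfsg.GU 4 F p := by
        have hbp : b ^ p * b = 1 - η / 2 * (η / 2) := by rw [← pow_succ, hb]
        rw [H51.mem_GU_iff hF, hxv]
        ext i j
        fin_cases i <;> fin_cases j <;>
          simp [Matrix.mul_apply, Fin.sum_univ_four, zero_pow hpr.ne_zero, hap, H51.neg_pow_q hF, H51.pow_q_q hF]
        all_goals first | ring1 | linear_combination hbp
      obtain ⟨g, hg⟩ := hder x hxU hxd (hx5 hη) (hxns hη2)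
      have h := (S.conj_cases (r := 5) hg (d := 1) (by rw [hx5 hη, one_smul, Units.val_one]) (hxns hη2)).2.1 rfl
      rw [hxt, hxt'] at h
      exact H47.trace_sq_ne_five (p := p) (by omega) hη h
    exfalso
    have h7 : 7 ≤ r := by
      have := hr.two_le
      by_contra hh
      interval_cases r <;> first | omega | exact absurd hr (by decide)
    have hdvd : r ∣ Nat.card ↥(Cfsg.GU 4 F p ⊓ Cfsg.Geo.specialLinear (Fin 4) F) := hΩ.trans (Subgroup.index_dvd_card _)
    obtain ⟨x, hx⟩ := exists_prime_orderOf_dvd_card' (G := ↥(Cfsg.GU 4 F p ⊓ Cfsg.Geo.specialLinear (Fin 4) F)) r hdvd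
    have hxr : (x : GL (Fin 4) F) ^ r = 1 := by
      have := congrArg Subtype.val (pow_orderOf_eq_one x); rwa [hx] at this
    have hd : ((x : GL (Fin 4) F) : Matrix (Fin 4) (Fin 4) F).det = 1 := congrArg Units.val x.2.2
    have hns : ∀ z : F, ((x : GL (Fin 4) F) : Matrix (Fin 4) (Fin 4) F) ≠ z • 1 := by
      intro z hz
      rw [hz, Matrix.det_smul, Matrix.det_one, mul_one, Fintype.card_fin] at hd
      have hp' := congrArg Units.val hxr
      rw [Units.val_pow_eq_pow_val, hz, smul_pow, one_pow, Units.val_one] at hp'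
      have hzr : z ^ r = 1 := by simpa using congrFun (congrFun hp' 0) 0
      have h1 : z = 1 := orderOf_eq_one_iff.mp (Nat.eq_one_of_dvd_coprimes
        (show Nat.Coprime 4 r from Nat.Coprime.pow_left 2 ((Nat.coprime_primes Nat.prime_two hr).mpr (by omega)))
        (orderOf_dvd_of_pow_eq_one hd) (orderOf_dvd_of_pow_eq_one hzr))
      have : x = 1 := Subtype.ext (Units.ext (by rw [hz, h1, one_smul]; rfl))
      rw [this, orderOf_one] at hx; omega
    obtain ⟨g, hg⟩ := hder x x.2.1 hd hxr hns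
    have := (S.conj_cases (r := r) hg (d := 1) (by rw [hxr, one_smul, Units.val_one]) hns).2.2
    omega
  · intro hcase x hx hz hns
    obtain ⟨z, hz⟩ := hz
    have hxU : x ∈ Cfsg.GU 4 F p := hx.1
    have hdet : (x : Matrix (Fin 4) (Fin 4) F).det = 1 := congrArg Units.val hx.2
    have hz4 : z ^ 4 = 1 := by
      have := congrArg Matrix.det hz
      rw [Units.val_pow_eq_pow_val, Matrix.det_pow, hdet, one_pow, Matrix.det_smul, Matrix.det_one, mul_one,
        Fintype.card_fin] at this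
      exact this.symm
    have hz0 : z ≠ 0 := fun h0 => by rw [h0] at hz4; norm_num at hz4
    by_cases hr2 : r = 2
    · subst hr2
      have hxx : (x : Matrix (Fin 4) (Fin 4) F) * x = z • 1 := by rw [← pow_two, ← Units.val_pow_eq_pow_val, hz]
      obtain ⟨y, hyN, hyy, hyd, hyt, hform⟩ := S.target_two hΓ hI hIc hc hxx hdet hz4 hns
      have hyU := H47.target_two_unitary hF hRU h2 hxU hxx hz0 hform
      have h8 : ((8 : ℕ) : F) ≠ 0 := fun h => by
        have := Nat.le_of_dvd (by norm_num) ((hpr.dvd_of_dvd_pow (n := 3) (show p ∣ 2 ^ 3 from hcast h)))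
        omega
      have hpow : ∀ a : GL (Fin 4) F, (a : Matrix (Fin 4) (Fin 4) F) * a = z • 1 → a ^ 8 = 1 := fun a ha =>
        Units.ext (by
          rw [Units.val_pow_eq_pow_val, show (8 : ℕ) = 2 * 4 from rfl, pow_mul, pow_two, ha, smul_pow, one_pow, hz4,
            one_smul, Units.val_one])
      obtain ⟨g, hg, hgy⟩ := H47.su_conj_charpoly hF (by norm_num) h8 hxU hyU (hpow x hxx) (hpow y hyy)
        (H47.charpoly_square h2 hz0 hxx hyy hyt.symm (by rw [hdet, hyd]))
      exact ⟨g, hg, hgy ▸ hyN⟩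
    have hrr : (r = 3 ∧ p % 3 = 1) ∨ (r = 5 ∧ (p % 5 = 2 ∨ p % 5 = 3)) := by
      rcases hcase with h | h | ⟨h, h'⟩
      · exact absurd h hr2
      · exact Or.inl h
      · exact Or.inr ⟨h, H47.orderOf_mod_five.mp h'⟩
    have hrp : ¬ r ∣ p := fun h => by
      have := (Nat.prime_dvd_prime_iff_eq hr hpr).mp h; omega
    obtain ⟨E, _, _, _, -, hEc⟩ := H47.exists_extension (F := F) (r - 1) (by have := hr.two_le; omega)
    haveI : Fintype E := Fintype.ofFinite E
    rw [Nat.card_eq_fintype_card, hF] at hEc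
    have hE : r ∣ Fintype.card E - 1 := hEc ▸ H47.dvd_pow_pred_sub_one (fun h => hrp (hr.dvd_of_dvd_pow h))
    have hgood : ∀ a : GL (Fin 4) F, a ∈ Cfsg.GU 4 F p → a ^ r = 1 → H47.GoodExp E r (p * (r - 1)) a :=
      fun a haU har P f h => H47.roots_frob_herm hF hr.pos ((H51.mem_GU_iff hF _).mp haU) har h
    have hrF : ((r : ℕ) : F) ≠ 0 := fun h => by
      have := (Nat.prime_dvd_prime_iff_eq hpr hr).mp (hcast h); omega
    have hiso : ∀ y : GL (Fin 4) F, y ∈ Cfsg.Geo.subgroupNormalizer R → y ^ r = 1 →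
        (y : Matrix (Fin 4) (Fin 4) F).det = 1 → y ∈ Cfsg.GU 4 F p := fun y hy hyr hyd => by
      rw [H51.mem_GU_iff hF]
      exact S.isometry_of_normalize (H51.adj hF) (H51.adj_mul hF) (H51.adj_one hF)
        (fun u hu => (H51.mem_GU_iff hF _).mp (hRU hu)) hy
        (show Nat.Coprime 4 r from Nat.Coprime.pow_left 2 ((Nat.coprime_primes Nat.prime_two hr).mpr (Ne.symm hr2)))
        hyr hyd (by rw [H51.det_adj, hyd, one_pow])
    have hKU : ∀ (K : GL (Fin 4) F) (μ : F), (K : Matrix (Fin 4) (Fin 4) F) = μ • 1 → μ ^ 4 = 1 → K ∈ Cfsg.GU 4 F p := by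
      intro K μ hK hμ
      obtain ⟨m, hm⟩ : 4 ∣ p + 1 := by omega
      have : μ ^ p * μ = 1 := by rw [← pow_succ, hm, pow_mul, hμ, one_pow]
      rw [H51.mem_GU_iff hF, hK, H51.adj_smul, H51.adj_one, Matrix.smul_mul, Matrix.one_mul, smul_smul, this, one_smul]
    rcases hrr with ⟨rfl, h31⟩ | ⟨rfl, h5⟩
    · have h3 : (3 : F) ≠ 0 := fun h0 => by
        have := (Nat.prime_dvd_prime_iff_eq hpr Nat.prime_three).mp (hcast (m := 3) (by exact_mod_cast h0)); omega
      have hμ4 : (z ^ 3) ^ 4 = 1 := by rw [← pow_mul, show 3 * 4 = 4 * 3 from rfl, pow_mul, hz4, one_pow]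
      obtain ⟨K, hK, hx3, hx1, hxd⟩ := H47.scalar_split (μ := z ^ 3)
        (by rw [← pow_mul]; linear_combination (z * (z ^ 4 + 1)) * hz4) (pow_ne_zero 3 hz0) hz hns
      have hxU' : K⁻¹ * x ∈ Cfsg.GU 4 F p := mul_mem (inv_mem (hKU K _ hK hμ4)) hxU
      obtain ⟨A, B, hAN, hBN, hA3, hB3, hAd, hBd, hAt, hBt⟩ := S.target_three hΓ hI hIc hc
      have he : p * (3 - 1) % 3 = 2 := by omega
      obtain ⟨y, hyN, hy3, hyd, hyt⟩ : ∃ y : GL (Fin 4) F, y ∈ Cfsg.Geo.subgroupNormalizer R ∧ y ^ 3 = 1 ∧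
          (y : Matrix (Fin 4) (Fin 4) F).det = 1 ∧
          ((K⁻¹ * x : GL (Fin 4) F) : Matrix (Fin 4) (Fin 4) F).trace = (y : Matrix (Fin 4) (Fin 4) F).trace := by
        rcases (H47.charpoly_three h2 h3 he hE hx3 hx3 (hgood _ hxU' hx3) (hgood _ hxU' hx3)).1 with ⟨-, h⟩ | h | h
        · exact absurd h hx1
        · exact ⟨B, hBN, hB3, hBd, h.trans hBt.symm⟩
        · exact ⟨A, hAN, hA3, hAd, h.trans hAt.symm⟩
      have hyU := hiso y hyN hy3 hyd
      obtain ⟨g, hg, hgy⟩ := H47.su_conj_charpoly hF (by norm_num) hrF hxU' hyU hx3 hy3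
        ((H47.charpoly_three h2 h3 he hE hx3 hy3 (hgood _ hxU' hx3) (hgood _ hyU hy3)).2 hyt).symm
      exact H47.fix_of_scalar hK hg (hgy ▸ hyN)
    · obtain ⟨K, hK, hx5, hx1, hxd⟩ := H47.scalar_split (μ := z) (by linear_combination z * hz4) hz0 hz hns
      have hxU' : K⁻¹ * x ∈ Cfsg.GU 4 F p := mul_mem (inv_mem (hKU K _ hK hz4)) hxU
      obtain ⟨y, hyN, hy5, hy1, hyd⟩ := S.target_five hΓ (by
        rw [hF, hsq]
        have h5p : Nat.Prime 5 := by norm_num
        refine Nat.Coprime.mul_left ?_ ?_ <;>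
          exact ((Nat.Prime.coprime_iff_not_dvd h5p).mpr (by omega)).symm)
      have hyU := hiso y hyN hy5 hyd
      obtain ⟨g, hg, hgy⟩ := H47.su_conj_charpoly hF (by norm_num) hrF hxU' hyU hx5 hy5
        (H47.charpoly_five (e := p * (5 - 1)) (by omega) hE hy5 hx5 (hgood _ hyU hy5) (hgood _ hxU' hx5) hy1 hx1)
      exact H47.fix_of_scalar hK hg (hgy ▸ hyN)

end Cfsg.Agent.S6001
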