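import Cfsg.Statements.S6002
import Cfsg.Agent.H47.SymSp

set_option autoImplicit false
open scoped MatrixGroups
open Cfsg

namespace Cfsg.Agent.S6002

/-- Elements of prime order of PSp_4(p), p odd, and the normalizer of an extraspecial 2-group of order 2⁵ of minus type. Here `T = PSp_4(F)` for the field `F` with `p` elements, `p` an odd prime, realised through the matrices preserving the standard alternating form `f`; `R` is an absolutely irreducible subgroup of `T` (it preserves `f`) that is a 2-group of symplectic type of exponent 4, order 2⁵ and centre of order 2, of minus type (no elementary abelian subgroup of order 2³), and `H` is the subgroup of `T` normalizing `R` — a subgroup of type 2^{1+4}.O₄⁻(2) (maximality is not assumed). Ω is the set of cosets of `H` in `T`, so an element of `T` of prime order `r` (`x ∈ T` with `x^r` scalar, `x` not scalar) fixes a point of Ω exactly when some `T`-conjugate of `x` normalizes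 `R`. Let `r` be a prime dividing the index of `H`. Then every element of `T` of order `r` fixes a point of Ω if and only if `r = 2`, or `r = 5` and `p` has multiplicative order 4 modulo 5. -/
theorem result {F : Type*} [Field F] [Fintype F] {p : ℕ} [Fact p.Prime] [CharP F p] (hF : Fintype.card F = p) (hodd : Odd p)
    (R : Subgroup (GL (Fin 2 ⊕ Fin 2) F)) (hRs : Cfsg.Geo.IsSymplecticTypeGroup 2 R) (hRi : Cfsg.Geo.ActsAbsolutelyIrreducibly (Cfsg.Geo.matrixSet R))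
    (hRf : R ≤ Cfsg.spGL 2 F) (hR5 : Nat.card R = 2 ^ 5) (hRZ : Nat.card (Subgroup.center R) = 2) (hRm : Cfsg.Geo.IsOfMinusType 2 R)
    (r : ℕ) [Fact r.Prime]
    (hΩ : r ∣ (Cfsg.Geo.subgroupNormalizer R).relIndex (Cfsg.spGL 2 F)) :
    (∀ x ∈ Cfsg.spGL 2 F, (∃ z : F, ((x ^ r : GL (Fin 2 ⊕ Fin 2) F) : Matrix (Fin 2 ⊕ Fin 2) (Fin 2 ⊕ Fin 2) F) = z • (1 : Matrix (Fin 2 ⊕ Fin 2) (Fin 2 ⊕ Fin 2) F)) →
      (∀ z : F, (x : Matrix (Fin 2 ⊕ Fin 2) (Fin 2 ⊕ Fin 2) F) ≠ z • (1 : Matrix (Fin 2 ⊕ Fin 2) (Fin 2 ⊕ Fin 2) F)) →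
      ∃ g ∈ Cfsg.spGL 2 F, g⁻¹ * x * g ∈ Cfsg.Geo.subgroupNormalizer R) ↔ (r = 2 ∨ (r = 5 ∧ orderOf (p : ZMod 5) = 4)) := by
  classical
  have hpr : p.Prime := Fact.out
  have hr : r.Prime := Fact.out
  have hp3 : 3 ≤ p := by
    obtain ⟨k, hk⟩ := hodd
    have := hpr.two_le; omega
  have hcast : ∀ {m : ℕ}, (m : F) = 0 → p ∣ m := fun h => (CharP.cast_eq_zero_iff F p _).mp h
  have h2 : (2 : F) ≠ 0 := fun h => by
    have := Nat.le_of_dvd (by norm_num) (hcast (m := 2) (by exact_mod_cast h)); omega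
  have S : H47.Sym4 R 2 := H47.sym4_of_data (by simp) h2 hRs hRi (Or.inl rfl) hR5 hRZ
  have hm := S.minusCond_of_type hRm
  obtain ⟨Γ, hΓ⟩ := S.exists_gam_minus hm
  constructor
  · intro hall
    rcases eq_or_ne r 2 with h2' | hr2
    · exact Or.inl h2'
    right
    have hder : ∀ x ∈ Cfsg.spGL 2 F, x ^ r = 1 →
        (∀ z : F, (x : Matrix (Fin 2 ⊕ Fin 2) (Fin 2 ⊕ Fin 2) F) ≠ z • 1) → ∃ g, g⁻¹ * x * g ∈ Cfsg.Geo.subgroupNormalizer R :=
      fun x hx hxr hns => by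
        obtain ⟨g, -, hg⟩ := hall x hx ⟨1, by rw [hxr, one_smul, Units.val_one]⟩ hns
        exact ⟨g, hg⟩
    by_cases hr3 : r = 3
    · subst hr3
      exfalso
      rcases eq_or_ne p 3 with rfl | hp3'
      · obtain ⟨x, hxS, u, v, hvu, hxv, hx3, hx1, hxns⟩ := H47.exists_sp_transvection (F := F) (p := 3)
        obtain ⟨g, hg⟩ := hder x hxS hx3 hxns
        exact S.transvection_der hg hvu hxv hx1
      obtain ⟨x, hxS, hxt, hxt', -, hx3, hxns⟩ := H47.exists_sp_plane (F := F) (η := -1)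
      have h3 : (3 : F) ≠ 0 := fun h => hp3' ((Nat.prime_dvd_prime_iff_eq hpr Nat.prime_three).mp (hcast (m := 3) (by exact_mod_cast h)))
      have hns := hxns (fun h => h3 (by linear_combination -h))
      obtain ⟨g, hg⟩ := hder x hxS (hx3 rfl) hns
      set y := g⁻¹ * x * g with hy
      have hy3 : y ^ 3 = 1 := by
        have h := conj_pow (a := g⁻¹) (b := x) (i := 3)
        rw [inv_inv] at h
        rw [hy, h, hx3 rfl, mul_one, inv_mul_cancel]
      have hyns : ∀ c : F, (y : Matrix (Fin 2 ⊕ Fin 2) (Fin 2 ⊕ Fin 2) F) ≠ c • 1 := fun c hc => hns c (by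
        have hx' : x = g * y * g⁻¹ := by rw [hy]; group
        rw [hx', Units.val_mul, Units.val_mul, hc, Matrix.mul_smul, Matrix.mul_one, Matrix.smul_mul, Units.mul_inv])
      have h4 := S.trace_four_of_three rfl hm hΓ hg (d := 1) (by rw [hy3, one_smul, Units.val_one]) hyns
      have htr : ∀ a : GL (Fin 2 ⊕ Fin 2) F, ((g⁻¹ * a * g : GL (Fin 2 ⊕ Fin 2) F) : Matrix (Fin 2 ⊕ Fin 2) (Fin 2 ⊕ Fin 2) F).trace
          = (a : Matrix (Fin 2 ⊕ Fin 2) (Fin 2 ⊕ Fin 2) F).trace := fun a => by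
        rw [Units.val_mul, Units.val_mul, Matrix.trace_mul_comm, ← Matrix.mul_assoc, Units.mul_inv, Matrix.one_mul]
      rw [show y⁻¹ = g⁻¹ * x⁻¹ * g by rw [hy]; group, hy, htr, htr, hxt, hxt'] at h4
      exact h3 (by linear_combination -h4)
    by_cases hr5 : r = 5
    · subst hr5
      refine ⟨rfl, H47.orderOf_mod_five.mpr ?_⟩
      by_contra h23
      rcases (show p % 5 = 0 ∨ p % 5 = 1 ∨ p % 5 = 4 by omega) with h | h | h
      · obtain rfl : p = 5 := ((Nat.prime_dvd_prime_iff_eq (by norm_num) hpr).mp (Nat.dvd_of_mod_eq_zero h)).symm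
        obtain ⟨x, hxS, u, v, hvu, hxv, hx5, hx1, hxns⟩ := H47.exists_sp_transvection (F := F) (p := 5)
        obtain ⟨g, hg⟩ := hder x hxS hx5 hxns
        exact S.transvection_der hg hvu hxv hx1
      all_goals
        obtain ⟨η, hη, -, hη2⟩ := H47.exists_eta (F := F) (p := p) (by omega) (by omega)
        obtain ⟨x, hxS, hxt, hxt', hx5, -, hxns⟩ := H47.exists_sp_plane (F := F) (η := η)
        obtain ⟨g, hg⟩ := hder x hxS (hx5 hη) (hxns hη2)
        have h := (S.conj_cases (r := 5) hg (d := 1) (by rw [hx5 hη, one_smul, Units.val_one]) (hxns hη2)).2.1 rfl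
        rw [hxt, hxt'] at h
        exact H47.trace_sq_ne_five (p := p) (by omega) hη h
    exfalso
    have h7 : 7 ≤ r := by
      have := hr.two_le
      by_contra hh
      interval_cases r <;> first | omega | exact absurd hr (by decide)
    have hdvd : r ∣ Nat.card (Cfsg.spGL 2 F) := hΩ.trans (Subgroup.index_dvd_card _)
    obtain ⟨x, hx⟩ := exists_prime_orderOf_dvd_card' (G := Cfsg.spGL 2 F) r hdvd
    have hxr : (x : GL (Fin 2 ⊕ Fin 2) F) ^ r = 1 := by
      have := congrArg Subtype.val (pow_orderOf_eq_one x); rwa [hx] at this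
    have hd := H47.spGL_det x.2
    have hns : ∀ z : F, ((x : GL (Fin 2 ⊕ Fin 2) F) : Matrix (Fin 2 ⊕ Fin 2) (Fin 2 ⊕ Fin 2) F) ≠ z • 1 := by
      intro z hz
      rw [hz, Matrix.det_smul, Matrix.det_one, mul_one] at hd
      have hd4 : z ^ 4 = 1 := by simpa using hd
      have hp' := congrArg Units.val hxr
      rw [Units.val_pow_eq_pow_val, hz, smul_pow, one_pow, Units.val_one] at hp'
      have hzr : z ^ r = 1 := by simpa using congrFun (congrFun hp' (Sum.inl 0)) (Sum.inl 0)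
      have h1 : z = 1 := orderOf_eq_one_iff.mp (Nat.eq_one_of_dvd_coprimes
        (show Nat.Coprime 4 r from Nat.Coprime.pow_left 2 ((Nat.coprime_primes Nat.prime_two hr).mpr (by omega)))
        (orderOf_dvd_of_pow_eq_one hd4) (orderOf_dvd_of_pow_eq_one hzr))
      have : x = 1 := Subtype.ext (Units.ext (by rw [hz, h1, one_smul]; rfl))
      rw [this, orderOf_one] at hx; omega
    obtain ⟨g, hg⟩ := hder x x.2 hxr hns
    have := (S.conj_cases (r := r) hg (d := 1) (by rw [hxr, one_smul, Units.val_one]) hns).2.2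
    omega
  · intro hcase x hx hz hns
    obtain ⟨z, hz⟩ := hz
    have hzz : z * z = 1 := by
      have h := H47.mem_spGL_adj.mp (pow_mem hx r)
      rw [hz, H49.adjS_scalar, Matrix.smul_mul, Matrix.one_mul, smul_smul] at h
      simpa using congrFun (congrFun h (Sum.inl 0)) (Sum.inl 0)
    have hz0 : z ≠ 0 := left_ne_zero_of_mul (hzz ▸ one_ne_zero)
    rcases hcase with rfl | ⟨rfl, h5⟩
    · have hxx : (x : Matrix (Fin 2 ⊕ Fin 2) (Fin 2 ⊕ Fin 2) F) * x = z • 1 := by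
        rw [← pow_two, ← Units.val_pow_eq_pow_val, hz]
      have hfour : ∀ a : GL (Fin 2 ⊕ Fin 2) F, (a : Matrix (Fin 2 ⊕ Fin 2) (Fin 2 ⊕ Fin 2) F) * a = z • 1 →
          (H47.toFour a : Matrix (Fin 4) (Fin 4) F) * (H47.toFour a : Matrix (Fin 4) (Fin 4) F) = z • 1 := fun a ha => by
        rw [← Units.val_mul, ← map_mul]
        exact (H47.toFour_scalar _).mpr (by rw [Units.val_mul, ha])
      have hsq : ∀ a ∈ Cfsg.spGL 2 F, (a : Matrix (Fin 2 ⊕ Fin 2) (Fin 2 ⊕ Fin 2) F) * a = z • 1 →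
          (∀ c : F, (a : Matrix (Fin 2 ⊕ Fin 2) (Fin 2 ⊕ Fin 2) F) ≠ c • 1) →
          (H47.toFour a : Matrix (Fin 4) (Fin 4) F).trace = 0 := by
        intro a haS haa hans
        obtain ⟨k, hk, hkd, -, hk2, hk04⟩ := H47.square_data h2 hz0 (hfour a haa)
        rw [H47.toFour_det, H47.spGL_det haS, hzz, mul_one] at hkd
        have hne : (-1 : F) ≠ 1 := fun h => h2 (by linear_combination -h)
        interval_cases k
        · obtain ⟨c, hc⟩ := hk04 (Or.inl rfl); exact absurd ((H47.toFour_scalar a).mp hc) (hans c)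
        · exact absurd (by simpa using hkd.symm) hne
        · exact hk2 rfl
        · exact absurd (by norm_num at hkd; exact hkd.symm) hne
        · obtain ⟨c, hc⟩ := hk04 (Or.inr rfl); exact absurd ((H47.toFour_scalar a).mp hc) (hans c)
      have h4F : ((4 : ℕ) : F) ≠ 0 := fun h => by
        have := Nat.le_of_dvd (by norm_num) (hpr.dvd_of_dvd_pow (n := 2) (show p ∣ 2 ^ 2 from hcast h))
        omega
      have hpow : ∀ a : GL (Fin 2 ⊕ Fin 2) F, (a : Matrix (Fin 2 ⊕ Fin 2) (Fin 2 ⊕ Fin 2) F) * a = z • 1 → a ^ 4 = 1 :=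
        fun a ha => Units.ext (by
          rw [Units.val_pow_eq_pow_val, show (4 : ℕ) = 2 + 2 from rfl, pow_add, pow_two, ha, smul_mul_smul_comm,
            mul_one, hzz, one_smul, Units.val_one])
      have hchar : ∀ y ∈ Cfsg.spGL 2 F, (y : Matrix (Fin 2 ⊕ Fin 2) (Fin 2 ⊕ Fin 2) F) * y = z • 1 →
          (∀ c : F, (y : Matrix (Fin 2 ⊕ Fin 2) (Fin 2 ⊕ Fin 2) F) ≠ c • 1) →
          (H47.toFour x : Matrix (Fin 4) (Fin 4) F).charpoly = (H47.toFour y : Matrix (Fin 4) (Fin 4) F).charpoly :=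
        fun y hyS hyy hyns => H47.charpoly_square h2 hz0 (hfour x hxx) (hfour y hyy)
          (by rw [hsq x hx hxx hns, hsq y hyS hyy hyns])
          (by rw [H47.toFour_det, H47.toFour_det, H47.spGL_det hx, H47.spGL_det hyS])
      have hself : ∀ u ∈ R, u ∈ Cfsg.Geo.subgroupNormalizer R := fun u hu => Subgroup.le_normalizer hu
      have h12 : ((Γ 1 * Γ 2 : GL (Fin 2 ⊕ Fin 2) F) : Matrix (Fin 2 ⊕ Fin 2) (Fin 2 ⊕ Fin 2) F) * (Γ 0 : Matrix (Fin 2 ⊕ Fin 2) (Fin 2 ⊕ Fin 2) F)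
          = (Γ 0 : Matrix (Fin 2 ⊕ Fin 2) (Fin 2 ⊕ Fin 2) F) * ((Γ 1 * Γ 2 : GL (Fin 2 ⊕ Fin 2) F) : Matrix (Fin 2 ⊕ Fin 2) (Fin 2 ⊕ Fin 2) F) := by
        rw [Units.val_mul, Matrix.mul_assoc, hΓ.anti 2 0 (by decide), Matrix.mul_neg, ← Matrix.mul_assoc,
          hΓ.anti 1 0 (by decide), Matrix.neg_mul, neg_neg, Matrix.mul_assoc]
      have hprod : ∀ i j : Fin 5, i ≠ j → ((Γ i * Γ j : GL (Fin 2 ⊕ Fin 2) F) : Matrix (Fin 2 ⊕ Fin 2) (Fin 2 ⊕ Fin 2) F)
          * ((Γ i * Γ j : GL (Fin 2 ⊕ Fin 2) F) : Matrix (Fin 2 ⊕ Fin 2) (Fin 2 ⊕ Fin 2) F) = -1 := by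
        intro i j hij
        rw [Units.val_mul, Matrix.mul_assoc, ← Matrix.mul_assoc (Γ j : Matrix (Fin 2 ⊕ Fin 2) (Fin 2 ⊕ Fin 2) F),
          hΓ.anti j i hij.symm, Matrix.neg_mul, Matrix.mul_assoc, hΓ.sq j, Matrix.mul_one, Matrix.mul_neg, hΓ.sq i]
      have hdet : ∀ a : GL (Fin 2 ⊕ Fin 2) F, (a : Matrix (Fin 2 ⊕ Fin 2) (Fin 2 ⊕ Fin 2) F).det ≠ 0 := fun a =>
        (Matrix.GeneralLinearGroup.det a).ne_zero
      rcases mul_self_eq_one_iff.mp hzz with rfl | rfl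
      · have hy0 : (Γ 0 : Matrix (Fin 2 ⊕ Fin 2) (Fin 2 ⊕ Fin 2) F) * Γ 0 = (1 : F) • 1 := by rw [hΓ.sq, one_smul]
        have hyns := S.gam_nonscalar hΓ 0
        obtain ⟨g, hg, hgy⟩ := H47.sp_conj_charpoly h2 h4F hx (hRf (hΓ.mem 0)) (hpow x hxx) (hpow _ hy0)
          (hchar _ (hRf (hΓ.mem 0)) hy0 hyns)
          (S.adjS_skew hRf (mul_mem (hΓ.mem 1) (hΓ.mem 2)) (hprod 1 2 (by decide))) (hdet _) h12
          (fun s hs hsy => S.selfadj_commute hRf hm (hΓ.mem 0) (hΓ.sq 0) hyns hs hsy h12)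
        exact ⟨g, hg, hgy ▸ hself _ (hΓ.mem 0)⟩
      · have hyR : Γ 0 * Γ 1 ∈ R := mul_mem (hΓ.mem 0) (hΓ.mem 1)
        have hyy : ((Γ 0 * Γ 1 : GL (Fin 2 ⊕ Fin 2) F) : Matrix (Fin 2 ⊕ Fin 2) (Fin 2 ⊕ Fin 2) F)
            * ((Γ 0 * Γ 1 : GL (Fin 2 ⊕ Fin 2) F) : Matrix (Fin 2 ⊕ Fin 2) (Fin 2 ⊕ Fin 2) F) = (-1 : F) • 1 := by
          rw [hprod 0 1 (by decide), neg_smul, one_smul]
        have hyns : ∀ c : F, ((Γ 0 * Γ 1 : GL (Fin 2 ⊕ Fin 2) F) : Matrix (Fin 2 ⊕ Fin 2) (Fin 2 ⊕ Fin 2) F) ≠ c • 1 :=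
          S.nonscalar_of_anti (v := Γ 0) (by
            rw [Units.val_mul, ← Matrix.mul_assoc, hΓ.sq 0, Matrix.one_mul, Matrix.mul_assoc, hΓ.anti 1 0 (by decide),
              Matrix.mul_neg, ← Matrix.mul_assoc, hΓ.sq 0, Matrix.one_mul, neg_neg])
        obtain ⟨g, hg, hgy⟩ := H47.sp_conj_charpoly h2 h4F hx (hRf hyR) (hpow x hxx) (hpow _ hyy)
          (hchar _ (hRf hyR) hyy hyns) (S.adjS_skew hRf hyR (hprod 0 1 (by decide))) (hdet _) rfl
          (fun s _ hsy => hsy)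
        exact ⟨g, hg, hgy ▸ hself _ hyR⟩
    · have h5' := H47.orderOf_mod_five.mp h5
      haveI : Nonempty (Fin 2 ⊕ Fin 2) := ⟨Sum.inl 0⟩
      have hz5 : z ^ 5 = z := by linear_combination (z ^ 3 + z) * hzz
      obtain ⟨K, hK, hx5, hx1, -⟩ := H47.scalar_split (μ := z) hz5 hz0 hz hns
      have hKS : K ∈ Cfsg.spGL 2 F := H47.mem_spGL_adj.mpr (by
        rw [hK, H49.adjS_scalar, Matrix.smul_mul, Matrix.one_mul, smul_smul, hzz, one_smul])
      have hx'S : K⁻¹ * x ∈ Cfsg.spGL 2 F := mul_mem (inv_mem hKS) hx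
      obtain ⟨y, hyN, hy5, hy1, hyd⟩ := S.target_five hΓ (by
        rw [hF]
        exact ((Nat.Prime.coprime_iff_not_dvd (by norm_num : Nat.Prime 5)).mpr (by omega)).symm)
      have hyS : y ∈ Cfsg.spGL 2 F := H47.mem_spGL_adj.mpr
        (S.isometry_of_normalize H49.adjS H49.adjS_mul H49.adjS_one (fun u hu => H47.mem_spGL_adj.mp (hRf hu)) hyN
          (r := 5) (by norm_num) hy5 hyd (by rw [H49.adjS_det, hyd]))
      have hrF : ((5 : ℕ) : F) ≠ 0 := fun h => by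
        have := (Nat.prime_dvd_prime_iff_eq hpr hr).mp (hcast h); omega
      have hne : ∀ a : GL (Fin 2 ⊕ Fin 2) F, a ≠ 1 → H47.toFour a ≠ 1 := fun a ha h => ha (H47.toFour.injective (by rw [h, map_one]))
      have hpw : ∀ a : GL (Fin 2 ⊕ Fin 2) F, a ^ 5 = 1 → H47.toFour a ^ 5 = 1 := fun a ha => by rw [← map_pow, ha, map_one]
      obtain ⟨E, _, _, _, -, hEc⟩ := H47.exists_extension (F := F) 4 (by norm_num)
      haveI : Fintype E := Fintype.ofFinite E
      rw [Nat.card_eq_fintype_card, hF] at hEc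
      have hE : 5 ∣ Fintype.card E - 1 := hEc ▸ H47.dvd_pow_pred_sub_one (r := 5) (by omega)
      have hgood : ∀ a : GL (Fin 4) F, H47.GoodExp E 5 p a := fun a P f h => H47.roots_frob hF h
      have hy2 : y * y ≠ 1 := fun h => hy1 (by
        calc y = y * (y * y) * (y * y) := by rw [h, mul_one, mul_one]
          _ = y ^ 5 := by simp only [pow_succ, pow_zero, one_mul, mul_assoc]
          _ = 1 := hy5)
      set Y := (y : Matrix (Fin 2 ⊕ Fin 2) (Fin 2 ⊕ Fin 2) F) with hY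
      have hYY := H47.mem_spGL_adj.mp hyS
      rw [← hY] at hYY
      have hYY' := mul_eq_one_comm.mp hYY
      have hsub : (1 - Y * Y).det ≠ 0 := by
        have h := H47.det_sub_one_five hF h5' (hpw _ (show (y * y) ^ 5 = 1 by rw [← pow_two, ← pow_mul, mul_comm, pow_mul, hy5, one_pow]))
          (hne _ hy2)
        rwa [H47.toFour_val, ← Matrix.submatrix_one_equiv H47.spEquiv, ← Pi.sub_apply, ← Pi.sub_apply,
          ← Matrix.submatrix_sub, Matrix.det_submatrix_equiv_self, Units.val_mul] at h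
      have hGu : (Y - H49.adjS Y).det ≠ 0 := by
        have e : Y - H49.adjS Y = -(H49.adjS Y * (1 - Y * Y)) := by
          rw [Matrix.mul_sub, Matrix.mul_one, ← Matrix.mul_assoc, hYY, Matrix.one_mul, neg_sub]
        rw [e, Matrix.det_neg, Matrix.det_mul, H49.adjS_det, hyd, one_mul]
        exact mul_ne_zero (pow_ne_zero _ (neg_ne_zero.mpr one_ne_zero)) hsub
      obtain ⟨g, hg, hgy⟩ := H47.sp_conj_charpoly h2 hrF hx'S hyS hx5 hy5
        (H47.charpoly_five h5' hE (hpw _ hy5) (hpw _ hx5) (hgood _) (hgood _) (hne _ hy1) (hne _ hx1))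
        (G := Y - H49.adjS Y) (by rw [H49.adjS_sub, H49.adjS_adjS, neg_sub]) hGu
        (by rw [Matrix.sub_mul, Matrix.mul_sub, hYY, hYY'])
        (fun s _ hsy => by
          rw [← hY] at hsy
          have : s * H49.adjS Y = H49.adjS Y * s := by
            calc s * H49.adjS Y = H49.adjS Y * (Y * s) * H49.adjS Y := by
                  rw [← Matrix.mul_assoc, hYY, Matrix.one_mul]
              _ = H49.adjS Y * (s * Y) * H49.adjS Y := by rw [hsy]
              _ = _ := by rw [Matrix.mul_assoc, Matrix.mul_assoc, hYY', Matrix.mul_one]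
          rw [Matrix.mul_sub, Matrix.sub_mul, hsy, this])
      exact H47.fix_of_scalar hK hg (hgy ▸ hyN)

end Cfsg.Agent.S6002
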